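import Mathlib.FieldTheory.IsAlgClosed.Basic
import Mathlib.LinearAlgebra.FiniteDimensional.Lemmas
import Mathlib.Algebra.Algebra.Operations
import Mathlib.Tactic

/-!
# Local symmetric algebras in characteristic two with five-dimensional space of traces

If the commutator span has codimension at most five, then either the radical has dimension at
most four or every trace vanishes on fourth powers of radical elements.
-/

set_option autoImplicit false

namespace Cfsg.Agent.Blocks.Dihedral

open Module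

variable {k R : Type*} [Field k] [Ring R] [Algebra k R]

theorem char_two_add_self [CharP k 2] (v : R) : v + v = 0 := by
  have h : ((1 : k) + 1) • v = 0 := by
    rw [CharTwo.add_self_eq_zero, zero_smul]
  rwa [add_smul, one_smul] at h

theorem char_two_sub [CharP k 2] (v w : R) : v - w = v + w := by
  rw [sub_eq_add_neg, ← eq_neg_of_add_eq_zero_left (char_two_add_self (k := k) w)]

theorem trace_sq_add [CharP k 2] (t : R →ₗ[k] k) (ht : ∀ x y, t (x * y) = t (y * x)) (x y : R) :
    t ((x + y) * (x + y)) = t (x * x) + t (y * y) := by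
  rw [add_mul, mul_add, mul_add, map_add, map_add, map_add, ht y x]
  linear_combination CharTwo.add_self_eq_zero (t (x * y))

theorem trace_sq_comm [CharP k 2] (t : R →ₗ[k] k) (ht : ∀ x y, t (x * y) = t (y * x)) (x y : R) :
    t ((x * y - y * x) * (x * y - y * x)) = 0 := by
  rw [char_two_sub (k := k), trace_sq_add t ht, mul_assoc x y, ht x]
  simp only [mul_assoc]
  exact CharTwo.add_self_eq_zero _

variable (JA : Submodule k R)

/-- Powers of a submodule closed under products decrease. -/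
theorem pow_antitone (hmul : JA * JA ≤ JA) {i j : ℕ} (hi : 1 ≤ i) (hij : i ≤ j) :
    JA ^ j ≤ JA ^ i := by
  induction j, hij using Nat.le_induction with
  | base => exact le_rfl
  | succ j hj ih =>
    refine le_trans ?_ ih
    obtain ⟨r, rfl⟩ : ∃ r, j = r + 1 := ⟨j - 1, by omega⟩
    rw [pow_succ JA (r + 1), pow_succ JA r, mul_assoc]
    exact mul_le_mul' le_rfl hmul

theorem pow_eq_bot_of_le (hmul : JA * JA ≤ JA) {N : ℕ} (hnil : JA ^ (N + 1) = ⊥) {i : ℕ} (hi : 1 ≤ i)
    (h : JA ^ i ≤ JA ^ (i + 1)) : JA ^ i = ⊥ := by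
  have key : ∀ m, JA ^ i ≤ JA ^ (i + m) := by
    intro m
    induction m with
    | zero => exact le_rfl
    | succ m ih =>
      refine h.trans ?_
      rw [pow_succ, ← Nat.add_assoc, pow_succ]
      exact mul_le_mul' ih le_rfl
  refine le_bot_iff.1 ((key (N + 1)).trans ?_)
  rw [← hnil]
  exact pow_antitone JA hmul (by omega) (by omega)

theorem mul_mem_pow {i j l : ℕ} {x y : R} (hl : i + j = l) (hx : x ∈ JA ^ i) (hy : y ∈ JA ^ j) :
    x * y ∈ JA ^ l := by
  rw [← hl, pow_add]
  exact Submodule.mul_mem_mul hx hy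

/-- A space generated by a single element modulo its square commutes. -/
theorem commute_of_generator (hmul : JA * JA ≤ JA) {N : ℕ} (hnil : JA ^ (N + 1) = ⊥) {x : R}
    (hxm : x ∈ JA) (hx : JA ≤ Submodule.span k {x} ⊔ JA * JA) :
    ∀ p ∈ JA, ∀ q ∈ JA, p * q = q * p := by
  set C : Submodule k R := Submodule.span k (Set.range fun s : ℕ => x ^ (s + 1))
  have hclimb : ∀ s, JA ^ (s + 1) ≤ Submodule.span k {x ^ (s + 1)} ⊔ JA ^ (s + 2) := by
    intro s
    induction s with
    | zero => rw [zero_add, zero_add, pow_one, pow_one, pow_two]; exact hx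
    | succ s ih =>
      rw [pow_succ JA (s + 1)]
      refine Submodule.mul_le.2 fun p hp q hq => ?_
      obtain ⟨p1, hp1, p2, hp2, rfl⟩ := Submodule.mem_sup.1 (ih hp)
      obtain ⟨r, rfl⟩ := Submodule.mem_span_singleton.1 hp1
      obtain ⟨q1, hq1, q2, hq2, rfl⟩ := Submodule.mem_sup.1 (hx hq)
      obtain ⟨r', rfl⟩ := Submodule.mem_span_singleton.1 hq1
      rw [mul_add, add_mul, add_mul, smul_mul_assoc, mul_smul_comm, ← pow_succ]
      rw [← pow_two] at hq2
      have hq1 : r' • x ∈ JA ^ 1 := by rw [pow_one]; exact Submodule.smul_mem _ _ hxm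
      refine Submodule.add_mem _ (Submodule.add_mem _ (Submodule.smul_mem _ _
        (Submodule.smul_mem _ _ (Submodule.mem_sup_left (Submodule.mem_span_singleton_self _))))
        (Submodule.mem_sup_right ?_)) (Submodule.mem_sup_right (Submodule.add_mem _ ?_ ?_))
      · exact mul_mem_pow JA (by omega) hp2 hq1
      · rw [smul_mul_assoc]
        exact Submodule.smul_mem _ _ (mul_mem_pow JA (by omega)
          (Submodule.pow_mem_pow JA hxm (s + 1)) hq2)
      · exact pow_antitone JA hmul (by omega) (by omega : s + 1 + 2 ≤ s + 2 + 2)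
          (mul_mem_pow JA (by omega) hp2 hq2)
  have hJC : ∀ s, JA ≤ C ⊔ JA ^ (s + 1) := by
    intro s
    induction s with
    | zero => rw [zero_add, pow_one]; exact le_sup_right
    | succ s ih =>
      refine ih.trans (sup_le le_sup_left ((hclimb s).trans (sup_le ?_ le_sup_right)))
      exact (Submodule.span_mono (Set.singleton_subset_iff.2
        (Set.mem_range_self (f := fun s : ℕ => x ^ (s + 1)) s))).trans le_sup_left
  have hC : JA ≤ C := (hJC N).trans (by rw [hnil, sup_bot_eq])
  intro p hp q hq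
  have hpx : ∀ s : ℕ, Commute p (x ^ (s + 1)) := by
    intro s
    have hp' := hC hp
    clear hp
    induction hp' using Submodule.span_induction with
    | mem b hb => obtain ⟨r, rfl⟩ := hb; exact Commute.pow_pow_self x _ _
    | zero => exact Commute.zero_left _
    | add b c _ _ h1 h2 => exact h1.add_left h2
    | smul c b _ h1 => exact h1.smul_left c
  have hq' := hC hq
  clear hq
  induction hq' using Submodule.span_induction with
  | mem b hb => obtain ⟨r, rfl⟩ := hb; exact hpx r
  | zero => simp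
  | add b c _ _ h1 h2 => rw [mul_add, add_mul, h1, h2]
  | smul c b _ h1 => rw [mul_smul_comm, smul_mul_assoc, h1]

/-- The span of the commutators. -/
def commSpan : Submodule k R :=
  Submodule.span k {w : R | ∃ x ∈ JA, ∃ y ∈ JA, w = x * y - y * x}

theorem commSpan_le_sq : commSpan JA ≤ JA ^ 2 := by
  refine Submodule.span_le.2 ?_
  rintro _ ⟨x, hx, y, hy, rfl⟩
  rw [SetLike.mem_coe, pow_two]
  exact sub_mem (Submodule.mul_mem_mul hx hy) (Submodule.mul_mem_mul hy hx)

theorem trace_sq_commSpan [CharP k 2] (t : R →ₗ[k] k) (ht : ∀ x y, t (x * y) = t (y * x)) {w : R}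
    (hw : w ∈ commSpan JA) : t (w * w) = 0 := by
  induction hw using Submodule.span_induction with
  | mem b hb => obtain ⟨x, -, y, -, rfl⟩ := hb; exact trace_sq_comm t ht x y
  | zero => simp
  | add b c _ _ h1 h2 => rw [trace_sq_add t ht, h1, h2, add_zero]
  | smul c b _ h1 => simp [h1]

/-- Commutators of a two-generated space. -/
theorem commSpan_le (hmul : JA * JA ≤ JA) {a b : R} (ha : a ∈ JA) (hb : b ∈ JA)
    (hdec : ∀ x ∈ JA, ∃ r s : k, x - r • a - s • b ∈ JA ^ 2) :
    commSpan JA ≤ Submodule.span k {a * b - b * a} ⊔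
      Submodule.span k {w : R | ∃ x ∈ JA, ∃ q ∈ JA ^ 2, w = x * q - q * x} := by
  set c := a * b - b * a
  set W := Submodule.span k {c} ⊔
    Submodule.span k {w : R | ∃ x ∈ JA, ∃ q ∈ JA ^ 2, w = x * q - q * x}
  refine Submodule.span_le.2 ?_
  rintro _ ⟨x, hx, y, hy, rfl⟩
  obtain ⟨r, s, hq⟩ := hdec x hx
  obtain ⟨r', s', hq'⟩ := hdec y hy
  set q := x - r • a - s • b with hqd
  set q' := y - r' • a - s' • b with hqd'
  have hqJ : q ∈ JA := by
    have := pow_antitone JA hmul le_rfl (by omega : 1 ≤ 2) hq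
    rwa [pow_one] at this
  have hWc : ∀ z ∈ JA, ∀ v ∈ JA ^ 2, z * v - v * z ∈ W := fun z hz v hv =>
    Submodule.mem_sup_right (Submodule.subset_span ⟨z, hz, v, hv, rfl⟩)
  have hxy : x * y - y * x = (r * s' - s * r') • c + ((r • a + s • b + q) * q' -
      q' * (r • a + s • b + q)) + ((q * (r' • a) - (r' • a) * q) + (q * (s' • b) - (s' • b) * q)) := by
    have ex : x = r • a + s • b + q := by rw [hqd]; abel
    have ey : y = r' • a + s' • b + q' := by rw [hqd']; abel
    rw [ex, ey]
    simp only [c, mul_add, add_mul, smul_mul_assoc, mul_smul_comm, smul_smul, smul_sub, sub_smul,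
      mul_comm r' r, mul_comm s' s, mul_comm r' s, mul_comm s' r]
    module
  rw [SetLike.mem_coe, hxy]
  refine Submodule.add_mem _ (Submodule.add_mem _ (Submodule.smul_mem _ _
    (Submodule.mem_sup_left (Submodule.mem_span_singleton_self c))) (hWc _ (Submodule.add_mem _
      (Submodule.add_mem _ (Submodule.smul_mem _ _ ha) (Submodule.smul_mem _ _ hb)) hqJ) _ hq'))
    (Submodule.add_mem _ ?_ ?_)
  · rw [← neg_sub]
    exact Submodule.neg_mem _ (hWc _ (Submodule.smul_mem _ _ ha) _ hq)
  · rw [← neg_sub]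
    exact Submodule.neg_mem _ (hWc _ (Submodule.smul_mem _ _ hb) _ hq)

/-- With two generators and square spanned by their commutator the cube vanishes. -/
theorem cube_eq_bot (hmul : JA * JA ≤ JA) {N : ℕ} (hnil : JA ^ (N + 1) = ⊥) {a b : R}
    (ha : a ∈ JA) (hb : b ∈ JA) (hdec : ∀ x ∈ JA, ∃ r s : k, x - r • a - s • b ∈ JA ^ 2)
    (hsq : JA ^ 2 ≤ Submodule.span k {a * b - b * a} ⊔ JA ^ 3) : JA ^ 3 = ⊥ := by
  set c := a * b - b * a with hc
  have hcP : c ∈ JA ^ 2 := by
    rw [pow_two]; exact sub_mem (Submodule.mul_mem_mul ha hb) (Submodule.mul_mem_mul hb ha)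
  have hscal : ∀ x ∈ JA, ∀ y ∈ JA, ∃ r : k, x * y - r • c ∈ JA ^ 3 := by
    intro x hx y hy
    have hxy : x * y ∈ JA ^ 2 := by rw [pow_two]; exact Submodule.mul_mem_mul hx hy
    obtain ⟨u, hu, t, ht, he⟩ := Submodule.mem_sup.1 (hsq hxy)
    obtain ⟨r, rfl⟩ := Submodule.mem_span_singleton.1 hu
    exact ⟨r, by rw [← he, add_sub_cancel_left]; exact ht⟩
  obtain ⟨α, hα⟩ := hscal a ha a ha
  obtain ⟨β, hβ⟩ := hscal a ha b hb
  obtain ⟨δ, hδ⟩ := hscal b hb b hb
  have hβ' : b * a - (β - 1) • c ∈ JA ^ 3 := by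
    have e : b * a - (β - 1) • c = a * b - β • c := by rw [sub_smul, one_smul, hc]; abel
    rwa [e]
  set q := (JA ^ 4).mkQ with hq
  have hassoc : ∀ x ∈ JA, ∀ y ∈ JA, ∀ w ∈ JA, ∀ r s : k, x * y - r • c ∈ JA ^ 3 →
      y * w - s • c ∈ JA ^ 3 → r • q (c * w) = s • q (x * c) := by
    intro x hx y hy w hw r s h1 h2
    have e1 : q (x * y * w) = r • q (c * w) := by
      rw [← map_smul, ← sub_eq_zero, ← map_sub, hq, Submodule.mkQ_apply,
        Submodule.Quotient.mk_eq_zero, ← smul_mul_assoc, ← sub_mul, pow_succ JA 3]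
      exact Submodule.mul_mem_mul h1 hw
    have e2 : q (x * y * w) = s • q (x * c) := by
      rw [← map_smul, ← sub_eq_zero, ← map_sub, hq, Submodule.mkQ_apply,
        Submodule.Quotient.mk_eq_zero, ← mul_smul_comm, mul_assoc, ← mul_sub, pow_succ' JA 3]
      exact Submodule.mul_mem_mul hx h2
    rw [← e1, e2]
  have E1 := hassoc a ha a ha a ha α α hα hα
  have E2 := hassoc a ha a ha b hb α β hα hβ
  have E3 := hassoc a ha b hb a ha β (β - 1) hβ hβ'
  have E4 := hassoc a ha b hb b hb β δ hβ hδ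
  have E5 := hassoc b hb a ha a ha (β - 1) α hβ' hα
  have E6 := hassoc b hb a ha b hb (β - 1) β hβ' hβ
  have E7 := hassoc b hb b hb a ha δ (β - 1) hδ hβ'
  have E8 := hassoc b hb b hb b hb δ δ hδ hδ
  have hall : q (c * a) = 0 ∧ q (c * b) = 0 := by
    set u := q (c * a)
    set v := q (c * b)
    set u' := q (a * c)
    set v' := q (b * c)
    rcases eq_or_ne α 0 with hα0 | hα0
    · rcases eq_or_ne δ 0 with hδ0 | hδ0
      · subst hα0 hδ0
        simp only [zero_smul] at E2 E4 E5 E7
        rcases eq_or_ne β 0 with hb0 | hb0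
        · subst hb0
          simp only [zero_sub, neg_smul, one_smul, zero_smul, neg_eq_zero] at E5 E6
          exact ⟨E5, E6⟩
        · have hu' : u' = 0 := (smul_eq_zero.1 E2.symm).resolve_left hb0
          have hv : v = 0 := (smul_eq_zero.1 E4).resolve_left hb0
          rw [hu', smul_zero] at E3
          exact ⟨(smul_eq_zero.1 E3).resolve_left hb0, hv⟩
      · have hv : v = v' := smul_right_injective _ hδ0 E8
        rw [← hv, sub_smul, one_smul, sub_eq_iff_eq_add] at E6
        have hv0 : v = 0 := by simpa using E6.symm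
        rw [← hv, hv0, smul_zero] at E7
        exact ⟨(smul_eq_zero.1 E7).resolve_left hδ0, hv0⟩
    · have hu : u = u' := smul_right_injective _ hα0 E1
      rw [← hu, sub_smul, one_smul] at E3
      have hu0 : u = 0 := by
        have := E3.symm
        rwa [sub_eq_self] at this
      rw [← hu, hu0, smul_zero] at E2
      exact ⟨hu0, (smul_eq_zero.1 E2).resolve_left hα0⟩
  refine pow_eq_bot_of_le JA hmul hnil (by norm_num) ?_
  rw [pow_succ JA 2]
  refine Submodule.mul_le.2 fun p hp w hw => ?_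
  obtain ⟨u, hu, t, ht, rfl⟩ := Submodule.mem_sup.1 (hsq hp)
  obtain ⟨r, rfl⟩ := Submodule.mem_span_singleton.1 hu
  obtain ⟨r', s', hq'⟩ := hdec w hw
  have ew : w = r' • a + s' • b + (w - r' • a - s' • b) := by abel
  rw [add_mul]
  refine Submodule.add_mem _ ?_ (mul_mem_pow JA (j := 1) (by omega) ht (by rwa [pow_one]))
  rw [ew, smul_mul_assoc, mul_add, mul_add, mul_smul_comm, mul_smul_comm]
  exact Submodule.smul_mem _ _ (Submodule.add_mem _ (Submodule.add_mem _
    (Submodule.smul_mem _ _ ((Submodule.Quotient.mk_eq_zero _).1 hall.1))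
    (Submodule.smul_mem _ _ ((Submodule.Quotient.mk_eq_zero _).1 hall.2)))
    (mul_mem_pow JA (by omega) hcP hq'))

/-- When the powers of `a` span the square, the commutator of `a` with `b` spans a left ideal
killed by the form, so vanishes. -/
theorem comm_eq_zero_of_powers [CharP k 2] (hmul : JA * JA ≤ JA) {N : ℕ} (hnil : JA ^ (N + 1) = ⊥)
    {a b : R} (ha : a ∈ JA) (hb : b ∈ JA) (hdec : ∀ x ∈ JA, ∃ r s : k, x - r • a - s • b ∈ JA ^ 2)
    (τ : R →ₗ[k] k) (hτ : ∀ x y, τ (x * y) = τ (y * x))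
    (hW : ∀ W ≤ JA, (∀ x ∈ JA, ∀ w ∈ W, x * w ∈ W) → (∀ w ∈ W, τ w = 0) → W = ⊥)
    (hsq : JA ^ 2 ≤ Submodule.span k {a * a} ⊔ JA ^ 3) : a * b - b * a = 0 := by
  have hstep : ∀ i, JA ^ (i + 2) ≤ Submodule.span k {a ^ (i + 2)} ⊔ JA ^ (i + 3) := by
    intro i
    induction i with
    | zero => rw [pow_two a]; exact hsq
    | succ i ih =>
      rw [pow_succ JA (i + 2)]
      refine Submodule.mul_le.2 fun p hp q hq => ?_
      obtain ⟨p1, hp1, p2, hp2, rfl⟩ := Submodule.mem_sup.1 (ih hp)
      obtain ⟨r, rfl⟩ := Submodule.mem_span_singleton.1 hp1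
      obtain ⟨r', s', hq'⟩ := hdec q hq
      obtain ⟨t1, ht1, t2, ht2, he⟩ := Submodule.mem_sup.1 (hsq (by
        rw [pow_two]; exact Submodule.mul_mem_mul ha hb : a * b ∈ JA ^ 2))
      obtain ⟨α, rfl⟩ := Submodule.mem_span_singleton.1 ht1
      rw [add_mul]
      refine Submodule.add_mem _ ?_
        (Submodule.mem_sup_right (mul_mem_pow JA (j := 1) (by omega) hp2 (by rwa [pow_one])))
      have ab : a ^ (i + 2) * b = α • a ^ (i + 3) + a ^ (i + 1) * t2 := by
        rw [pow_succ a (i + 1), mul_assoc, ← he, mul_add, mul_smul_comm, ← mul_assoc, ← pow_succ,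
          ← pow_succ]
      rw [show q = r' • a + s' • b + (q - r' • a - s' • b) by abel, smul_mul_assoc, mul_add, mul_add,
        mul_smul_comm, mul_smul_comm, ab, ← pow_succ]
      refine Submodule.smul_mem _ _ (Submodule.add_mem _ (Submodule.add_mem _
        (Submodule.smul_mem _ _ (Submodule.mem_sup_left (Submodule.mem_span_singleton_self _)))
        (Submodule.smul_mem _ _ (Submodule.add_mem _
          (Submodule.smul_mem _ _ (Submodule.mem_sup_left (Submodule.mem_span_singleton_self _)))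
          ?_))) ?_)
      · exact Submodule.mem_sup_right (mul_mem_pow JA (by omega)
          (Submodule.pow_mem_pow JA ha (i + 1)) ht2)
      · exact Submodule.mem_sup_right (mul_mem_pow JA (by omega)
          (Submodule.pow_mem_pow JA ha (i + 2)) hq')
  set C : Submodule k R := Submodule.span k (Set.range fun i : ℕ => a ^ (i + 2))
  have hclimb : ∀ i, JA ^ 2 ≤ C ⊔ JA ^ (i + 2) := by
    intro i
    induction i with
    | zero => exact le_sup_right
    | succ i ih =>
      refine ih.trans (sup_le le_sup_left ((hstep i).trans (sup_le ?_ le_sup_right)))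
      exact (Submodule.span_mono (Set.singleton_subset_iff.2
        (Set.mem_range_self (f := fun i : ℕ => a ^ (i + 2)) i))).trans le_sup_left
  have hC : JA ^ 2 ≤ C := by
    refine (hclimb N).trans (sup_le le_rfl (le_trans ?_ bot_le))
    rw [← hnil]
    exact pow_antitone JA hmul (by omega) (by omega)
  have hab : a * b ∈ C := hC (by rw [pow_two]; exact Submodule.mul_mem_mul ha hb)
  have hba : b * a ∈ C := hC (by rw [pow_two]; exact Submodule.mul_mem_mul hb ha)
  set c := a * b - b * a with hc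
  have hcomm : ∀ w ∈ C, a * w = w * a := by
    intro w hw
    induction hw using Submodule.span_induction with
    | mem v hv => obtain ⟨i, rfl⟩ := hv; exact (Commute.self_pow a _).eq
    | zero => simp
    | add v v' _ _ h1 h2 => rw [mul_add, add_mul, h1, h2]
    | smul r v _ h1 => rw [mul_smul_comm, smul_mul_assoc, h1]
  have hac : a * c = 0 := by
    rw [hc, mul_sub, hcomm _ hab, ← mul_assoc a b a, sub_self]
  have hcC : c ∈ C := C.sub_mem hab hba
  obtain ⟨c', -, hc'⟩ : ∃ c' ∈ JA, c = a * c' := by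
    have : ∀ w ∈ C, ∃ w' ∈ JA, w = a * w' := by
      intro w hw
      induction hw using Submodule.span_induction with
      | mem v hv =>
        obtain ⟨i, rfl⟩ := hv
        exact ⟨a ^ (i + 1), by
          have := pow_antitone JA hmul le_rfl (Nat.le_add_left 1 i)
            (Submodule.pow_mem_pow JA ha (i + 1))
          rwa [pow_one] at this, pow_succ' a (i + 1)⟩
      | zero => exact ⟨0, JA.zero_mem, by simp⟩
      | add v v' _ _ h1 h2 =>
        obtain ⟨w1, h1, rfl⟩ := h1
        obtain ⟨w2, h2, rfl⟩ := h2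
        exact ⟨w1 + w2, JA.add_mem h1 h2, (mul_add a w1 w2).symm⟩
      | smul r v _ h1 =>
        obtain ⟨w1, h1, rfl⟩ := h1
        exact ⟨r • w1, JA.smul_mem r h1, (mul_smul_comm r a w1).symm⟩
    exact this c hcC
  have hbc : b * c = 0 := by
    rw [hc', ← mul_assoc]
    have : ∀ w ∈ C, w * c' = 0 := by
      intro w hw
      induction hw using Submodule.span_induction with
      | mem v hv =>
        obtain ⟨i, rfl⟩ := hv
        show a ^ (i + 2) * c' = 0
        rw [pow_succ a (i + 1), mul_assoc, ← hc', pow_succ, mul_assoc, hac, mul_zero]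
      | zero => simp
      | add v v' _ _ h1 h2 => rw [add_mul, h1, h2, add_zero]
      | smul r v _ h1 => rw [smul_mul_assoc, h1, smul_zero]
    exact this _ hba
  have hP : ∀ w ∈ C, w * c = 0 := by
    intro w hw
    induction hw using Submodule.span_induction with
    | mem v hv =>
      obtain ⟨i, rfl⟩ := hv
      show a ^ (i + 2) * c = 0
      rw [pow_succ, mul_assoc, hac, mul_zero]
    | zero => simp
    | add v v' _ _ h1 h2 => rw [add_mul, h1, h2, add_zero]
    | smul r v _ h1 => rw [smul_mul_assoc, h1, smul_zero]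
  have hspan : Submodule.span k {c} = ⊥ := by
    refine hW _ (Submodule.span_le.2 (Set.singleton_subset_iff.2
      (sub_mem (hmul (Submodule.mul_mem_mul ha hb)) (hmul (Submodule.mul_mem_mul hb ha))))) ?_ ?_
    · intro x hx w hw
      obtain ⟨r, rfl⟩ := Submodule.mem_span_singleton.1 hw
      obtain ⟨r', s', hq⟩ := hdec x hx
      rw [show x = r' • a + s' • b + (x - r' • a - s' • b) by abel, mul_smul_comm, add_mul, add_mul,
        smul_mul_assoc, smul_mul_assoc, hac, hbc, hP _ (hC hq)]
      simp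
    · intro w hw
      obtain ⟨r, rfl⟩ := Submodule.mem_span_singleton.1 hw
      rw [map_smul, hc, map_sub, hτ, sub_self, smul_zero]
  exact (Submodule.span_singleton_eq_bot).1 hspan

/-- Whatever commutes with both generators commutes with the whole space. -/
theorem commute_of_generators (hmul : JA * JA ≤ JA) {N : ℕ} (hnil : JA ^ (N + 1) = ⊥) {a b : R}
    (ha : a ∈ JA) (hb : b ∈ JA) (hdec : ∀ x ∈ JA, ∃ r s : k, x - r • a - s • b ∈ JA ^ 2) {p : R}
    (hpa : p * a = a * p) (hpb : p * b = b * p) : ∀ q ∈ JA, p * q = q * p := by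
  let Z : Submodule k R :=
    { carrier := {x | p * x = x * p}
      zero_mem' := by simp
      add_mem' := fun {x y} hx hy => by
        simp only [Set.mem_setOf_eq] at *
        rw [mul_add, add_mul, hx, hy]
      smul_mem' := fun r x hx => by
        simp only [Set.mem_setOf_eq] at *
        rw [mul_smul_comm, smul_mul_assoc, hx] }
  have hstep : ∀ i, JA ^ (i + 1) ≤ (Z ⊓ JA ^ (i + 1)) ⊔ JA ^ (i + 2) := by
    intro i
    induction i with
    | zero =>
      intro x hx
      rw [zero_add, pow_one] at hx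
      obtain ⟨r, s, h⟩ := hdec x hx
      rw [show x = (r • a + s • b) + (x - r • a - s • b) by abel]
      refine Submodule.add_mem _ (Submodule.mem_sup_left ⟨Z.add_mem (Z.smul_mem r hpa)
        (Z.smul_mem s hpb), ?_⟩) (Submodule.mem_sup_right h)
      rw [SetLike.mem_coe, pow_one]
      exact JA.add_mem (JA.smul_mem r ha) (JA.smul_mem s hb)
    | succ i ih =>
      rw [pow_succ JA (i + 1)]
      refine Submodule.mul_le.2 fun x hx y hy => ?_
      obtain ⟨x1, ⟨hx1z, hx1⟩, x2, hx2, rfl⟩ := Submodule.mem_sup.1 (ih hx)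
      obtain ⟨r, s, h⟩ := hdec y hy
      set y2 := y - r • a - s • b
      have hy1 : r • a + s • b ∈ JA := JA.add_mem (JA.smul_mem r ha) (JA.smul_mem s hb)
      rw [add_mul, show x1 * y = x1 * (r • a + s • b) + x1 * y2 by rw [← mul_add, show r • a + s • b + y2 = y by simp only [y2]; abel]]
      refine Submodule.add_mem _ (Submodule.add_mem _ (Submodule.mem_sup_left ⟨?_,
        Submodule.mul_mem_mul hx1 hy1⟩) (Submodule.mem_sup_right
          (mul_mem_pow JA (by omega) hx1 h))) (Submodule.mem_sup_right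
            (mul_mem_pow JA (j := 1) (by omega) hx2 (by rwa [pow_one])))
      have h1 : p * (r • a + s • b) = (r • a + s • b) * p :=
        Z.add_mem (Z.smul_mem r hpa) (Z.smul_mem s hpb)
      show p * (x1 * (r • a + s • b)) = x1 * (r • a + s • b) * p
      rw [← mul_assoc, hx1z, mul_assoc, h1, ← mul_assoc]
  have hclimb : ∀ i, JA ≤ Z ⊔ JA ^ (i + 1) := by
    intro i
    induction i with
    | zero => rw [zero_add, pow_one]; exact le_sup_right
    | succ i ih =>
      exact ih.trans (sup_le le_sup_left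
        ((hstep i).trans (sup_le (inf_le_left.trans le_sup_left) le_sup_right)))
  intro q hq
  have := hclimb N hq
  rw [hnil, sup_bot_eq] at this
  exact this

theorem mem_span_singleton_sup {T : Submodule k R} {w x : R} :
    x ∈ Submodule.span k {w} ⊔ T ↔ ∃ r : k, x - r • w ∈ T := by
  constructor
  · intro h
    obtain ⟨y, hy, t, ht, rfl⟩ := Submodule.mem_sup.1 h
    obtain ⟨r, rfl⟩ := Submodule.mem_span_singleton.1 hy
    exact ⟨r, by rwa [add_sub_cancel_left]⟩
  · rintro ⟨r, h⟩
    rw [← add_sub_cancel (r • w) x]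
    exact Submodule.add_mem _ (Submodule.mem_sup_left (Submodule.smul_mem _ _
      (Submodule.mem_span_singleton_self w))) (Submodule.mem_sup_right h)

/-- Climbing one degree by multiplying on the right. -/
theorem step_right {a b w : R} {T : Submodule k R} {i : ℕ}
    (hdec : ∀ x ∈ JA, ∃ r s : k, x - r • a - s • b ∈ JA ^ 2)
    (hle : JA ^ i ≤ Submodule.span k {w} ⊔ JA ^ (i + 1)) (hw : w ∈ JA ^ i) (hT : JA ^ (i + 2) ≤ T)
    (h1 : w * a ∈ T) (h2 : w * b ∈ T) : JA ^ (i + 1) ≤ T := by
  rw [pow_succ]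
  refine Submodule.mul_le.2 fun x hx y hy => ?_
  obtain ⟨c, hc⟩ := mem_span_singleton_sup.1 (hle hx)
  obtain ⟨r, s, h⟩ := hdec y hy
  have e : x * y = c • (r • (w * a) + s • (w * b) + w * (y - r • a - s • b)) +
      (x - c • w) * y := by
    rw [← mul_smul_comm, ← mul_smul_comm, ← mul_add, ← mul_add, ← smul_mul_assoc, sub_mul]
    rw [show r • a + s • b + (y - r • a - s • b) = y by abel]
    abel
  rw [e]
  exact T.add_mem (T.smul_mem _ (T.add_mem (T.add_mem (T.smul_mem _ h1) (T.smul_mem _ h2))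
    (hT (mul_mem_pow JA rfl hw h)))) (hT (mul_mem_pow JA (j := 1) (by omega) hc (by rwa [pow_one])))

/-- Climbing one degree by multiplying on the left. -/
theorem step_left {a b w : R} {T : Submodule k R} {i : ℕ}
    (hdec : ∀ x ∈ JA, ∃ r s : k, x - r • a - s • b ∈ JA ^ 2)
    (hle : JA ^ i ≤ Submodule.span k {w} ⊔ JA ^ (i + 1)) (hw : w ∈ JA ^ i) (hT : JA ^ (i + 2) ≤ T)
    (h1 : a * w ∈ T) (h2 : b * w ∈ T) : JA ^ (i + 1) ≤ T := by
  rw [pow_succ']
  refine Submodule.mul_le.2 fun y hy x hx => ?_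
  obtain ⟨c, hc⟩ := mem_span_singleton_sup.1 (hle hx)
  obtain ⟨r, s, h⟩ := hdec y hy
  have e : y * x = c • (r • (a * w) + s • (b * w) + (y - r • a - s • b) * w) +
      y * (x - c • w) := by
    rw [← smul_mul_assoc, ← smul_mul_assoc, ← add_mul, ← add_mul, ← mul_smul_comm, mul_sub]
    rw [show r • a + s • b + (y - r • a - s • b) = y by abel]
    abel
  rw [e]
  exact T.add_mem (T.smul_mem _ (T.add_mem (T.add_mem (T.smul_mem _ h1) (T.smul_mem _ h2))
    (hT (mul_mem_pow JA (by omega) h hw)))) (hT (mul_mem_pow JA (i := 1) (by omega)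
      (by rwa [pow_one]) hc))

/-- The commutators with the square, modulo the fourth power. -/
theorem commSpan_sq_le [CharP k 2] (hmul : JA * JA ≤ JA) {a b : R} (ha : a ∈ JA) (hb : b ∈ JA)
    (hdec : ∀ x ∈ JA, ∃ r s : k, x - r • a - s • b ∈ JA ^ 2)
    (hsq : JA ^ 2 ≤ Submodule.span k {a * a} ⊔ (Submodule.span k {a * b - b * a} ⊔ JA ^ 3))
    {γ : k} (hbb : b * b - γ • (a * b - b * a) ∈ JA ^ 3) :
    Submodule.span k {w : R | ∃ x ∈ JA, ∃ q ∈ JA ^ 2, w = x * q - q * x} ≤
      Submodule.span k {a * (a * b - b * a) - (a * b - b * a) * a} ⊔ JA ^ 4 := by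
  set c := a * b - b * a with hc
  set T := Submodule.span k {a * c - c * a} ⊔ JA ^ 4
  have hTw : a * c - c * a ∈ T := Submodule.mem_sup_left (Submodule.mem_span_singleton_self _)
  have h4 : ∀ x ∈ JA, ∀ q ∈ JA ^ 3, x * q - q * x ∈ T := fun x hx q hq =>
    Submodule.mem_sup_right (Submodule.sub_mem _
      (mul_mem_pow JA (i := 1) (by omega) (by rwa [pow_one]) hq)
      (mul_mem_pow JA (j := 1) (by omega) hq (by rwa [pow_one])))
  have e2 : ∀ v : R, v - (v + v) = v := fun v => by rw [char_two_add_self (k := k), sub_zero]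
  have hba2 : b * (a * a) - a * a * b = a * c - c * a := by
    have e : a * c - c * a - (b * (a * a) - a * a * b) =
        (a * a * b + a * a * b) - (a * b * a + a * b * a) := by
      simp only [hc, mul_sub, sub_mul, ← mul_assoc]; abel
    rw [char_two_add_self (k := k), char_two_add_self (k := k), sub_zero, sub_eq_zero] at e
    exact e.symm
  have hbc : b * c - c * b ∈ T := by
    set ε := b * b - γ • c
    have e : b * c - c * b = γ • (a * c - c * a) + (a * ε - ε * a) + (b * a * b + b * a * b) -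
        (a * (b * b) + a * (b * b)) + (0 : R) := by
      simp only [ε, hc, mul_sub, sub_mul, mul_smul_comm, smul_mul_assoc, ← mul_assoc, smul_sub]; abel
    rw [char_two_add_self (k := k), char_two_add_self (k := k), add_zero, add_zero, sub_zero] at e
    rw [e]
    exact T.add_mem (T.smul_mem _ hTw) (h4 a ha _ hbb)
  refine Submodule.span_le.2 ?_
  rintro _ ⟨x, hx, q, hq, rfl⟩
  obtain ⟨r, hr⟩ := mem_span_singleton_sup.1 (hsq hq)
  obtain ⟨s, hs⟩ := mem_span_singleton_sup.1 hr
  obtain ⟨u, v, hy⟩ := hdec x hx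
  set y := x - u • a - v • b with hyd
  set ε := q - r • (a * a) - s • c with hεd
  have hyc : y * q - q * y ∈ T := Submodule.mem_sup_right
    (Submodule.sub_mem _ (mul_mem_pow JA rfl hy hq) (mul_mem_pow JA rfl hq hy))
  have ex : x = u • a + v • b + y := by rw [hyd]; abel
  have eq : q = r • (a * a) + s • c + ε := by rw [hεd]; abel
  have e : x * q - q * x = u • s • (a * c - c * a) + v • r • (b * (a * a) - a * a * b) +
      v • s • (b * c - c * b) + (u • (a * ε - ε * a) + v • (b * ε - ε * b)) + (y * q - q * y) := by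
    rw [ex, eq]
    simp only [mul_add, add_mul, smul_mul_assoc, mul_smul_comm, smul_smul, smul_sub, smul_add,
      ← mul_assoc]
    module
  rw [SetLike.mem_coe, e, hba2]
  exact T.add_mem (T.add_mem (T.add_mem (T.add_mem (T.smul_mem _ (T.smul_mem _ hTw))
    (T.smul_mem _ (T.smul_mem _ hTw))) (T.smul_mem _ (T.smul_mem _ hbc)))
    (T.add_mem (T.smul_mem _ (h4 a ha _ hs)) (T.smul_mem _ (h4 b hb _ hs)))) hyc

/-- The final contradiction on two generators. -/
theorem false_of_cube [CharP k 2] (hmul : JA * JA ≤ JA) {N : ℕ} (hnil : JA ^ (N + 1) = ⊥)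
    {a b : R} (ha : a ∈ JA) (hb : b ∈ JA)
    (hdec : ∀ x ∈ JA, ∃ r s : k, x - r • a - s • b ∈ JA ^ 2) (ha4 : a ^ 4 ≠ 0)
    {α β : k} (hab : a * b - α • (a * a) - β • (a * b - b * a) ∈ JA ^ 3)
    (h3 : JA ^ 3 ≤ Submodule.span k {a * (a * b - b * a) - (a * b - b * a) * a} ⊔ JA ^ 4) :
    False := by
  set c := a * b - b * a with hc
  have ha1 : a ∈ JA ^ 1 := by rwa [pow_one]
  have hb1 : b ∈ JA ^ 1 := by rwa [pow_one]
  have hc2 : c ∈ JA ^ 2 := Submodule.sub_mem _ (mul_mem_pow JA rfl ha1 hb1) (mul_mem_pow JA rfl hb1 ha1)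
  have hane : ∀ i, 1 ≤ i → i ≤ 4 → ¬ JA ^ i ≤ JA ^ (i + 1) := by
    intro i h1 h2 h
    have := pow_antitone JA hmul h1 h2 (Submodule.pow_mem_pow JA ha 4)
    rw [pow_eq_bot_of_le JA hmul hnil h1 h, Submodule.mem_bot] at this
    exact ha4 this
  have hne5 : ¬ (a ^ 4 ∈ JA ^ 5 ∧ JA ^ 5 ≤ JA ^ 6) := by
    rintro ⟨h, h'⟩
    rw [pow_eq_bot_of_le JA hmul hnil (by norm_num) h', Submodule.mem_bot] at h
    exact ha4 h
  -- the two ways of multiplying out `a * b * a`
  have haba : β • (c * a) - (β - 1) • (a * c) ∈ JA ^ 4 := by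
    have e : β • (c * a) - (β - 1) • (a * c) = a * (a * b - α • (a * a) - β • c) -
        (a * b - α • (a * a) - β • c) * a := by
      simp only [mul_sub, sub_mul, mul_smul_comm, smul_mul_assoc, ← mul_assoc, sub_smul, one_smul]
      rw [hc, mul_sub, ← mul_assoc, ← mul_assoc]
      abel
    rw [e]
    exact Submodule.sub_mem _ (mul_mem_pow JA rfl ha1 hab) (mul_mem_pow JA rfl hab ha1)
  rcases eq_or_ne β 0 with hβ | hβ
  · have hac : a * c ∈ JA ^ 4 := by simpa [hβ] using haba
    have hle : JA ^ 3 ≤ Submodule.span k {c * a} ⊔ JA ^ 4 := h3.trans (sup_le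
      ((Submodule.span_singleton_le_iff_mem _ _).2 (Submodule.sub_mem _ (Submodule.mem_sup_right hac)
        (Submodule.mem_sup_left (Submodule.mem_span_singleton_self _)))) le_sup_right)
    obtain ⟨r, hr⟩ := mem_span_singleton_sup.1 (hle (mul_mem_pow JA rfl hb1 hc2 : b * c ∈ JA ^ 3))
    obtain ⟨κ, hκ⟩ := mem_span_singleton_sup.1 (hle (Submodule.pow_mem_pow JA ha 3))
    have hca : c * a ∈ JA ^ 3 := mul_mem_pow JA rfl hc2 ha1
    have hle4 : JA ^ 4 ≤ Submodule.span k {c * a * a} ⊔ JA ^ 5 := by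
      refine step_left JA hdec hle hca le_sup_right ?_ ?_
      · rw [← mul_assoc]
        exact Submodule.mem_sup_right (mul_mem_pow JA rfl hac ha1)
      · refine mem_span_singleton_sup.2 ⟨r, ?_⟩
        rw [← mul_assoc, ← smul_mul_assoc, ← sub_mul]
        exact mul_mem_pow JA rfl hr ha1
    have k1 : κ • (c * a * a) ∈ JA ^ 5 := by
      have e : κ • (c * a * a) = a * (a ^ 3 - κ • (c * a)) - (a ^ 3 - κ • (c * a)) * a +
          κ • (a * c * a) := by
        simp only [mul_sub, sub_mul, mul_smul_comm, smul_mul_assoc, ← pow_succ, ← pow_succ', ← mul_assoc]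
        abel
      rw [e]
      exact Submodule.add_mem _ (Submodule.sub_mem _ (mul_mem_pow JA rfl ha1 hκ)
        (mul_mem_pow JA rfl hκ ha1)) (Submodule.smul_mem _ _ (mul_mem_pow JA rfl hac ha1))
    rcases eq_or_ne κ 0 with hκ0 | hκ0
    · rw [hκ0, zero_smul, sub_zero] at hκ
      refine hne5 ⟨?_, ?_⟩
      · rw [pow_succ a 3]; exact mul_mem_pow JA rfl hκ ha1
      · refine step_left JA hdec hle4 (mul_mem_pow JA rfl hca ha1) le_rfl ?_ ?_
        · rw [← mul_assoc, ← mul_assoc, mul_assoc (a * c)]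
          exact mul_mem_pow JA (by norm_num) hac (mul_mem_pow JA rfl ha1 ha1)
        · have e : b * (c * a * a) = (b * c - r • (c * a)) * (a * a) + r • (c * a ^ 3) := by
            simp only [sub_mul, smul_mul_assoc, pow_succ, pow_zero, one_mul, ← mul_assoc]
            abel
          rw [e]
          exact Submodule.add_mem _ (mul_mem_pow JA (by norm_num) hr (mul_mem_pow JA rfl ha1 ha1))
            (Submodule.smul_mem _ _ (mul_mem_pow JA (by norm_num) hc2 hκ))
    · refine hane 4 (by norm_num) le_rfl (hle4.trans (sup_le ?_ le_rfl))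
      rw [Submodule.span_singleton_le_iff_mem]
      have := Submodule.smul_mem (JA ^ 5) κ⁻¹ k1
      rwa [smul_smul, inv_mul_cancel₀ hκ0, one_smul] at this
  · set r := (β - 1) / β with hr_def
    have hca : c * a - r • (a * c) ∈ JA ^ 4 := by
      have := Submodule.smul_mem _ β⁻¹ haba
      rw [smul_sub, smul_smul, smul_smul, inv_mul_cancel₀ hβ, one_smul] at this
      rwa [hr_def, div_eq_inv_mul]
    have hle : JA ^ 3 ≤ Submodule.span k {a * c} ⊔ JA ^ 4 := by
      refine h3.trans (sup_le ((Submodule.span_singleton_le_iff_mem _ _).2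
        (mem_span_singleton_sup.2 ⟨1 - r, ?_⟩)) le_sup_right)
      rw [show a * c - c * a - (1 - r) • (a * c) = -(c * a - r • (a * c)) by
        rw [sub_smul, one_smul]; abel]
      exact Submodule.neg_mem _ hca
    obtain ⟨r', hr'⟩ := mem_span_singleton_sup.1 (hle (mul_mem_pow JA rfl hc2 hb1 : c * b ∈ JA ^ 3))
    obtain ⟨κ, hκ⟩ := mem_span_singleton_sup.1 (hle (Submodule.pow_mem_pow JA ha 3))
    have hac : a * c ∈ JA ^ 3 := mul_mem_pow JA rfl ha1 hc2
    have hle4 : JA ^ 4 ≤ Submodule.span k {a * (a * c)} ⊔ JA ^ 5 := by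
      refine step_right JA hdec hle hac le_sup_right ?_ ?_
      · refine mem_span_singleton_sup.2 ⟨r, ?_⟩
        rw [mul_assoc, ← mul_smul_comm, ← mul_sub]
        exact mul_mem_pow JA rfl ha1 hca
      · refine mem_span_singleton_sup.2 ⟨r', ?_⟩
        rw [mul_assoc, ← mul_smul_comm, ← mul_sub]
        exact mul_mem_pow JA rfl ha1 hr'
    have k1 : (κ * (r - 1)) • (a * (a * c)) ∈ JA ^ 5 := by
      have e : (κ * (r - 1)) • (a * (a * c)) = a * (a ^ 3 - κ • (a * c)) -
          (a ^ 3 - κ • (a * c)) * a - κ • (a * (c * a - r • (a * c))) := by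
        simp only [mul_sub, sub_mul, mul_smul_comm, smul_mul_assoc, ← pow_succ, ← pow_succ',
          ← mul_assoc, smul_sub, smul_smul, mul_one, sub_smul]
        abel
      rw [e]
      exact Submodule.sub_mem _ (Submodule.sub_mem _ (mul_mem_pow JA rfl ha1 hκ)
        (mul_mem_pow JA rfl hκ ha1)) (Submodule.smul_mem _ _ (mul_mem_pow JA rfl ha1 hca))
    rcases eq_or_ne κ 0 with hκ0 | hκ0
    · rw [hκ0, zero_smul, sub_zero] at hκ
      refine hne5 ⟨?_, ?_⟩
      · rw [pow_succ a 3]; exact mul_mem_pow JA rfl hκ ha1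
      · have ha3c : a * (a * (a * c)) ∈ JA ^ 6 := by
          rw [show a * (a * (a * c)) = a ^ 3 * c by simp only [pow_succ, pow_zero, one_mul, mul_assoc]]
          exact mul_mem_pow JA (by norm_num) hκ hc2
        refine step_right JA hdec hle4 (mul_mem_pow JA rfl ha1 hac) le_rfl ?_ ?_
        · have e : a * (a * c) * a = a * a * (c * a - r • (a * c)) + r • (a * (a * (a * c))) := by
            simp only [mul_sub, mul_smul_comm, mul_assoc]; abel
          rw [e]
          exact Submodule.add_mem _ (mul_mem_pow JA (by norm_num) (mul_mem_pow JA rfl ha1 ha1) hca)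
            (Submodule.smul_mem _ _ ha3c)
        · have e : a * (a * c) * b = a * a * (c * b - r' • (a * c)) + r' • (a * (a * (a * c))) := by
            simp only [mul_sub, mul_smul_comm, mul_assoc]; abel
          rw [e]
          exact Submodule.add_mem _ (mul_mem_pow JA (by norm_num) (mul_mem_pow JA rfl ha1 ha1) hr')
            (Submodule.smul_mem _ _ ha3c)
    · refine hane 4 (by norm_num) le_rfl (hle4.trans (sup_le ?_ le_rfl))
      rw [Submodule.span_singleton_le_iff_mem]
      have hne : κ * (r - 1) ≠ 0 := by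
        refine mul_ne_zero hκ0 ?_
        rw [hr_def, div_sub_one hβ, sub_sub_cancel_left]
        exact div_ne_zero (neg_ne_zero.2 one_ne_zero) hβ
      have := Submodule.smul_mem (JA ^ 5) (κ * (r - 1))⁻¹ k1
      rwa [smul_smul, inv_mul_cancel₀ hne, one_smul] at this

/-- In a local symmetric algebra of characteristic two whose traces form a five-dimensional space,
and whose radical has dimension at least five, traces vanish on fourth powers of the radical. -/
theorem false_of_five [CharP k 2] [IsAlgClosed k] [FiniteDimensional k R] (τ t : R →ₗ[k] k)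
    (hτ : ∀ x y, τ (x * y) = τ (y * x)) (ht : ∀ x y, t (x * y) = t (y * x))
    (hmul : JA * JA ≤ JA) {N : ℕ} (hnil : JA ^ (N + 1) = ⊥)
    (hW : ∀ W ≤ JA, (∀ x ∈ JA, ∀ w ∈ W, x * w ∈ W) → (∀ w ∈ W, τ w = 0) → W = ⊥)
    (hbig : 5 ≤ finrank k JA) (hsmall : finrank k JA ≤ finrank k (commSpan JA) + 4)
    {a : R} (ha : a ∈ JA) (hta : t (a ^ 4) ≠ 0) : False := by
  classical
  have ha4 : a ^ 4 ≠ 0 := fun h => hta (by rw [h, map_zero])
  have hex : ∃ i, JA ^ (i + 1) = ⊥ := ⟨N, hnil⟩
  set M := Nat.find hex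
  have hM : JA ^ (M + 1) = ⊥ := Nat.find_spec hex
  have hM4 : 4 ≤ M := by
    by_contra h
    have := pow_antitone JA hmul (by omega) (by omega : M + 1 ≤ 4) (Submodule.pow_mem_pow JA ha 4)
    rw [hM, Submodule.mem_bot] at this
    exact ha4 this
  have hSne : JA ^ M ≠ ⊥ := by
    have := Nat.find_min hex (m := M - 1) (by omega)
    rwa [Nat.sub_add_cancel (by omega)] at this
  set S := JA ^ M
  set K := commSpan JA with hK
  have hS4 : S ≤ JA ^ 4 := pow_antitone JA hmul (by norm_num) hM4
  have hS0 : ∀ x ∈ JA, ∀ s ∈ S, x * s = 0 ∧ s * x = 0 := by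
    intro x hx s hs
    have hx1 : x ∈ JA ^ 1 := by rwa [pow_one]
    rw [← Submodule.mem_bot k, ← Submodule.mem_bot k (x := s * x), ← hM]
    exact ⟨mul_mem_pow JA (by omega) hx1 hs, mul_mem_pow JA rfl hs hx1⟩
  have hSJ : S ≤ JA := fun s hs => by
    have := pow_antitone JA hmul le_rfl (by omega : 1 ≤ M) hs
    rwa [pow_one] at this
  have hK2 : K ≤ JA ^ 2 := commSpan_le_sq JA
  have hP : JA ^ 2 ≤ JA := by rw [pow_two]; exact hmul
  have hdisj : K ⊓ S = ⊥ := by
    refine hW _ (inf_le_right.trans hSJ) (fun x hx w hw => ?_) fun w hw => ?_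
    · rw [(hS0 x hx w hw.2).1]; exact Submodule.zero_mem _
    · have hwK := hw.1
      clear hw
      induction hwK using Submodule.span_induction with
      | mem v hv => obtain ⟨x, -, y, -, rfl⟩ := hv; rw [map_sub, hτ, sub_self]
      | zero => simp
      | add v v' _ _ h1 h2 => rw [map_add, h1, h2, add_zero]
      | smul r v _ h1 => rw [map_smul, h1, smul_zero]
  have hsum : finrank k K + 1 ≤ finrank k (K ⊔ S : Submodule k R) := by
    have := Submodule.finrank_sup_add_finrank_inf_eq K S
    rw [hdisj, finrank_bot] at this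
    have := Submodule.one_le_finrank_iff.2 hSne
    omega
  have haK : a * a ∉ K ⊔ S := by
    intro h
    obtain ⟨w, hw, s, hs, e⟩ := Submodule.mem_sup.1 h
    apply hta
    rw [show a ^ 4 = (a * a) * (a * a) by simp only [pow_succ, pow_zero, one_mul, mul_assoc], ← e,
      trace_sq_add t ht, trace_sq_commSpan JA t ht hw, (hS0 s (hSJ hs) s hs).1, map_zero, add_zero]
  have haP : a * a ∈ JA ^ 2 := by rw [pow_two]; exact Submodule.mul_mem_mul ha ha
  have hK0P : Submodule.span k {a * a} ⊔ (K ⊔ S) ≤ JA ^ 2 :=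
    sup_le ((Submodule.span_singleton_le_iff_mem _ _).2 haP)
      (sup_le hK2 (hS4.trans (pow_antitone JA hmul (by norm_num) (by norm_num))))
  have hPdim : finrank k K + 2 ≤ finrank k (Submodule.span k {a * a} ⊔ (K ⊔ S) : Submodule k R) := by
    have : finrank k (K ⊔ S : Submodule k R) <
        finrank k (Submodule.span k {a * a} ⊔ (K ⊔ S) : Submodule k R) :=
      Submodule.finrank_lt_finrank_of_lt (lt_of_le_not_ge le_sup_right fun h =>
        haK (h (Submodule.mem_sup_left (Submodule.mem_span_singleton_self _))))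
    omega
  have hPle := Submodule.finrank_mono hK0P
  have hnc : ¬ ∀ p ∈ JA, ∀ q ∈ JA, p * q = q * p := by
    intro h
    have hK0 : K = ⊥ := le_bot_iff.1 (Submodule.span_le.2 (by
      rintro _ ⟨x, hx, y, hy, rfl⟩; simp [h x hx y hy]))
    rw [hK0, finrank_bot] at hsmall
    omega
  have hone : ∀ x ∈ JA, ¬ JA ≤ Submodule.span k {x} ⊔ JA * JA := fun x hx h =>
    hnc (commute_of_generator JA hmul hnil hx h)
  have hgen : ∀ a ∈ JA, a ∉ JA ^ 2 → ∃ b ∈ JA, ∀ x ∈ JA, ∃ r s : k, x - r • a - s • b ∈ JA ^ 2 := by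
    intro a ha haP2
    obtain ⟨b, hb, hbn⟩ := SetLike.not_le_iff_exists.1 (hone a ha)
    rw [← pow_two] at hbn
    refine ⟨b, hb, fun x hx => ?_⟩
    have h1 : finrank k (JA ^ 2 : Submodule k R) <
        finrank k (Submodule.span k {a} ⊔ JA ^ 2 : Submodule k R) :=
      Submodule.finrank_lt_finrank_of_lt (lt_of_le_not_ge le_sup_right fun h =>
        haP2 (h (Submodule.mem_sup_left (Submodule.mem_span_singleton_self _))))
    have h2 : finrank k (Submodule.span k {a} ⊔ JA ^ 2 : Submodule k R) <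
        finrank k (Submodule.span k {b} ⊔ (Submodule.span k {a} ⊔ JA ^ 2) : Submodule k R) :=
      Submodule.finrank_lt_finrank_of_lt (lt_of_le_not_ge le_sup_right fun h =>
        hbn (h (Submodule.mem_sup_left (Submodule.mem_span_singleton_self _))))
    have e := Submodule.eq_of_le_of_finrank_le (sup_le
      ((Submodule.span_singleton_le_iff_mem _ _).2 hb)
      (sup_le ((Submodule.span_singleton_le_iff_mem _ _).2 ha) hP)) (by omega)
    rw [← e] at hx
    obtain ⟨s, hs⟩ := mem_span_singleton_sup.1 hx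
    obtain ⟨r, hr⟩ := mem_span_singleton_sup.1 hs
    exact ⟨r, s, by rwa [sub_right_comm]⟩
  -- two generators and the place of the square of `a`
  obtain ⟨a₁, ha₁, ha₁n⟩ := SetLike.not_le_iff_exists.1 (hone 0 JA.zero_mem)
  rw [Submodule.span_singleton_eq_bot.2 rfl, bot_sup_eq, ← pow_two] at ha₁n
  obtain ⟨b₁, hb₁, hdec₁⟩ := hgen a₁ ha₁ ha₁n
  have hPeq : JA ^ 2 = Submodule.span k {a * a} ⊔ (K ⊔ S) := by
    refine (Submodule.eq_of_le_of_finrank_le hK0P ?_).symm
    obtain ⟨b₁', -, -⟩ := hgen a₁ ha₁ ha₁n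
    have h1 : finrank k (JA ^ 2 : Submodule k R) <
        finrank k (Submodule.span k {a₁} ⊔ JA ^ 2 : Submodule k R) :=
      Submodule.finrank_lt_finrank_of_lt (lt_of_le_not_ge le_sup_right fun h =>
        ha₁n (h (Submodule.mem_sup_left (Submodule.mem_span_singleton_self _))))
    obtain ⟨y, hy, hyn⟩ := SetLike.not_le_iff_exists.1 (hone a₁ ha₁)
    rw [← pow_two] at hyn
    have h2 : finrank k (Submodule.span k {a₁} ⊔ JA ^ 2 : Submodule k R) < finrank k JA :=
      Submodule.finrank_lt_finrank_of_lt (lt_of_le_not_ge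
        (sup_le ((Submodule.span_singleton_le_iff_mem _ _).2 ha₁) hP) fun h => hyn (h hy))
    omega
  have hK3 : ∀ {x y : R}, x ∈ JA → y ∈ JA → (∀ z ∈ JA, ∃ r s : k, z - r • x - s • y ∈ JA ^ 2) →
      K ≤ Submodule.span k {x * y - y * x} ⊔ JA ^ 3 := by
    intro x y hx hy hd
    refine (commSpan_le JA hmul hx hy hd).trans (sup_le le_sup_left (le_trans ?_ le_sup_right))
    refine Submodule.span_le.2 ?_
    rintro _ ⟨p, hp, q, hq, rfl⟩
    rw [SetLike.mem_coe]
    exact Submodule.sub_mem _ (mul_mem_pow JA (i := 1) (by omega) (by rwa [pow_one]) hq)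
      (mul_mem_pow JA (j := 1) (by omega) hq (by rwa [pow_one]))
  have haa : ∀ {x y : R}, x ∈ JA → y ∈ JA → (∀ z ∈ JA, ∃ r s : k, z - r • x - s • y ∈ JA ^ 2) →
      a * a ∉ Submodule.span k {x * y - y * x} ⊔ JA ^ 3 := by
    intro x y hx hy hd h
    have h3 : JA ^ 3 = ⊥ := cube_eq_bot JA hmul hnil hx hy hd (by
      rw [hPeq]
      exact sup_le ((Submodule.span_singleton_le_iff_mem _ _).2 h) (sup_le (hK3 hx hy hd)
        (hS4.trans (le_trans (pow_antitone JA hmul (by norm_num) (by norm_num)) le_sup_right))))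
    have := pow_antitone JA hmul (by norm_num) (by norm_num : 3 ≤ 4) (Submodule.pow_mem_pow JA ha 4)
    rw [h3, Submodule.mem_bot] at this
    exact ha4 this
  have haP2 : a ∉ JA ^ 2 := fun h => haa ha₁ hb₁ hdec₁ (Submodule.mem_sup_right
    (pow_antitone JA hmul (by norm_num) (by norm_num : 3 ≤ 2 + 2) (mul_mem_pow JA rfl h h)))
  obtain ⟨b₀, hb₀, hdec₀⟩ := hgen a ha haP2
  set c := a * b₀ - b₀ * a with hc
  have hcn : c ∉ JA ^ 3 := by
    intro h
    have hsq : JA ^ 2 ≤ Submodule.span k {a * a} ⊔ JA ^ 3 := by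
      rw [hPeq]
      exact sup_le le_sup_left (sup_le ((hK3 ha hb₀ hdec₀).trans (sup_le
        (((Submodule.span_singleton_le_iff_mem _ _).2 h).trans le_sup_right) le_sup_right))
        (hS4.trans (le_trans (pow_antitone JA hmul (by norm_num) (by norm_num)) le_sup_right)))
    have h0 := comm_eq_zero_of_powers JA hmul hnil ha hb₀ hdec₀ τ hτ hW hsq
    rw [sub_eq_zero] at h0
    have haall := commute_of_generators JA hmul hnil ha hb₀ hdec₀ (p := a) rfl h0
    have hball := commute_of_generators JA hmul hnil ha hb₀ hdec₀ (p := b₀) h0.symm rfl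
    exact hnc fun p hp => commute_of_generators JA hmul hnil ha hb₀ hdec₀ (haall p hp).symm
      (hball p hp).symm
  have hsq : JA ^ 2 ≤ Submodule.span k {a * a} ⊔ (Submodule.span k {c} ⊔ JA ^ 3) := by
    rw [hPeq]
    exact sup_le_sup le_rfl (sup_le (hK3 ha hb₀ hdec₀)
      (hS4.trans (le_trans (pow_antitone JA hmul (by norm_num) (by norm_num)) le_sup_right)))
  -- normalise the second generator
  have hb1 : b₀ ∈ JA ^ 1 := by rwa [pow_one]
  have ha1 : a ∈ JA ^ 1 := by rwa [pow_one]
  obtain ⟨γ', hγ'⟩ := mem_span_singleton_sup.1 (hsq (mul_mem_pow JA rfl hb1 hb1))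
  obtain ⟨δ, hδ⟩ := mem_span_singleton_sup.1 hγ'
  obtain ⟨α', hα'⟩ := mem_span_singleton_sup.1 (hsq (mul_mem_pow JA rfl ha1 hb1))
  obtain ⟨β, hβ⟩ := mem_span_singleton_sup.1 hα'
  obtain ⟨s, hs⟩ := IsAlgClosed.exists_pow_nat_eq γ' (n := 2) (by norm_num)
  set b := b₀ + s • a with hbdef
  have hb : b ∈ JA := JA.add_mem hb₀ (JA.smul_mem s ha)
  have hdec : ∀ x ∈ JA, ∃ r u : k, x - r • a - u • b ∈ JA ^ 2 := by
    intro x hx
    obtain ⟨r, u, h⟩ := hdec₀ x hx
    refine ⟨r - u * s, u, ?_⟩
    rwa [show x - (r - u * s) • a - u • b = x - r • a - u • b₀ by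
      rw [hbdef, smul_add, smul_smul, sub_smul]; abel]
  have hcb : a * b - b * a = c := by
    rw [hbdef, hc, mul_add, add_mul, mul_smul_comm, smul_mul_assoc]; abel
  have hab : a * b - (α' + s) • (a * a) - β • (a * b - b * a) ∈ JA ^ 3 := by
    rw [hcb, show a * b - (α' + s) • (a * a) - β • c = a * b₀ - α' • (a * a) - β • c by
      rw [hbdef, mul_add, mul_smul_comm, add_smul]; abel]
    exact hβ
  have hbb : b * b - (δ + s) • (a * b - b * a) ∈ JA ^ 3 := by
    rw [hcb]
    have h2s : γ' + s * s = 0 := by rw [← hs, pow_two]; exact CharTwo.add_self_eq_zero _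
    have e : b * b - (δ + s) • c = (b₀ * b₀ - γ' • (a * a) - δ • c) +
        (γ' + s * s) • (a * a) + s • (b₀ * a + b₀ * a) := by
      simp only [hbdef, hc, mul_add, add_mul, mul_smul_comm, smul_mul_assoc, smul_smul, smul_sub,
        add_smul, smul_add]
      abel
    rw [e, h2s, zero_smul, char_two_add_self (k := k), smul_zero, add_zero, add_zero]
    exact hδ
  have h3K : JA ^ 3 ≤ Submodule.span k {a * (a * b - b * a) - (a * b - b * a) * a} ⊔ JA ^ 4 := by
    intro w hw
    have hw2 : w ∈ JA ^ 2 := pow_antitone JA hmul (by norm_num) (by norm_num) hw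
    rw [hPeq] at hw2
    obtain ⟨r, hr⟩ := mem_span_singleton_sup.1 hw2
    obtain rfl : r = 0 := by
      by_contra hr0
      apply haa ha hb₀ hdec₀
      have hrest : w - r • (a * a) ∈ Submodule.span k {c} ⊔ JA ^ 3 :=
        (sup_le (hK3 ha hb₀ hdec₀)
          (hS4.trans (le_trans (pow_antitone JA hmul (by norm_num) (by norm_num)) le_sup_right))) hr
      have := Submodule.smul_mem _ r⁻¹ (Submodule.sub_mem _ (Submodule.mem_sup_right hw) hrest)
      rwa [sub_sub_cancel, smul_smul, inv_mul_cancel₀ hr0, one_smul] at this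
    rw [zero_smul, sub_zero] at hr
    obtain ⟨κ, hκ, s', hs', rfl⟩ := Submodule.mem_sup.1 hr
    refine Submodule.add_mem _ ?_ (Submodule.mem_sup_right (hS4 hs'))
    obtain ⟨u, hu⟩ := mem_span_singleton_sup.1 (commSpan_le JA hmul ha hb hdec hκ)
    rw [hcb] at hu
    have hu3 : κ - u • c ∈ JA ^ 3 := by
      refine (Submodule.span_le.2 ?_) hu
      rintro _ ⟨p, hp, q, hq, rfl⟩
      rw [SetLike.mem_coe]
      exact Submodule.sub_mem _ (mul_mem_pow JA (i := 1) (by omega) (by rwa [pow_one]) hq)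
        (mul_mem_pow JA (j := 1) (by omega) hq (by rwa [pow_one]))
    obtain rfl : u = 0 := by
      by_contra hu0
      apply hcn
      have hκ3 : κ ∈ JA ^ 3 := by
        have := Submodule.sub_mem _ hw (pow_antitone JA hmul (by norm_num) (by norm_num : 3 ≤ 4) (hS4 hs'))
        rwa [add_sub_cancel_right] at this
      have := Submodule.smul_mem _ u⁻¹ (Submodule.sub_mem _ hκ3 hu3)
      rwa [sub_sub_cancel, smul_smul, inv_mul_cancel₀ hu0, one_smul] at this
    rw [zero_smul, sub_zero] at hu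
    exact commSpan_sq_le JA hmul ha hb hdec (by rw [hcb]; exact hsq) hbb hu
  exact false_of_cube JA hmul hnil ha hb hdec ha4 hab h3K

end Cfsg.Agent.Blocks.Dihedral
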