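import Cfsg.Agent.Blocks.Star.NilpotentMain

/-!
# The characters of a nilpotent block as twisted functions
-/

set_option autoImplicit false

namespace Cfsg.Agent.Blocks.Dihedral

open Cfsg.Agent Cfsg.Agent.Blocks Cfsg.Agent.Blocks.Star
open scoped ComplexConjugate

universe u

variable {G : Type u} [Group G] [Fintype G] {p : ℕ} {M : Ideal Cfsg.AlgInt}
  {B : Set (Cfsg.IrrCharacter G)} {P : Subgroup G}
  {e₀ : Set (Cfsg.IrrCharacter (Subgroup.centralizer (P : Set G)))}

local notation "CG[" Q "]" => Subgroup.centralizer ((Q : Subgroup G) : Set G)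
local notation "sbc" => Cfsg.subgroupBlockCoeff

open scoped Classical in
/-- The characters of a nilpotent block are the twists of one character of height zero. -/
theorem exists_twist_phi (hM : Cfsg.IsPModular p M) (hmax : Cfsg.IsMaximalBrauerPair p M B P e₀)
    (hnil : Cfsg.IsNilpotentBlock p M B) {χ : Cfsg.IrrCharacter G} (hχ : χ ∈ B)
    (h0 : Cfsg.blockHeight p B (χ : G → ℂ) = 0) :
    ∃ Θ : Cfsg.IrrCharacter P ≃ B, ∀ η : Cfsg.IrrCharacter P,
      ((Θ η : Cfsg.IrrCharacter G) : G → ℂ) =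
        Phi p M (fWeight p M P e₀ (Cfsg.extendByZero P (η : P → ℂ))) (χ : G → ℂ) := by
  haveI := Fact.mk hM.1
  have hp := hM.1
  have hB := hmax.1.2.1
  choose bx hbx using fun x : P =>
    (BrauerPairs.existsUnique_subpairLE hM hmax.1.1 (Subgroup.zpowers_le.2 x.2)).exists
  let ex : P → G → ℂ := fun x => sbc CG[Subgroup.zpowers (x : G)] (bx x)
  have hex : ∀ x : P, Below p M P e₀ (x : G) (ex x) := fun x => ⟨bx x, hbx x, rfl⟩
  have hGne : (Nat.card G : ℂ) ≠ 0 := Nat.cast_ne_zero.2 Nat.card_pos.ne'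
  have hPne : (Nat.card P : ℂ) ≠ 0 := Nat.cast_ne_zero.2 Nat.card_pos.ne'
  -- the normalised norms are one
  have hone : Cfsg.IsGeneralizedCharacter P (fun _ : P => (1 : ℂ)) := by
    have h := Char.isGeneralized_of_isCharacter (Char.isCharacter_hom (1 : P →* ℂˣ))
    simpa using h
  have hself : ∀ g, Phi p M (fWeight p M P e₀ fun _ => (1 : ℂ)) (χ : G → ℂ) g = (χ : G → ℂ) g := by
    intro g
    refine Phi_eq_self hM χ g fun e he h => ?_
    obtain ⟨b, hb, rfl⟩ := mem_Bk.1 he
    obtain ⟨v, -, hv⟩ := fWeight_spec hM hmax hnil (isWeight_of_class hM hmax hnil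
      (f := fun _ => (1 : ℂ)) hone).2
      (pair_of_sect_ne_zero hM hB hχ (orderOf_pPartOf hp g) hb
        (by simp [regC, not_dvd_orderOf_pPrimePartOf hp, (commute_pPartOf_pPrimePartOf g).eq]) h)
    exact hv
  have hsum : ∑ x : P, tval p P (χ : G → ℂ) x (ex x) = (Fintype.card P : ℂ) := by
    have h := sum_twist_mul_conj hM hmax hnil hχ ex hex (f := fun _ => (1 : ℂ))
      (f' := fun _ => (1 : ℂ)) hone hone
    simp only [hself, map_one, one_mul] at h
    have h1 := Char.classInner_irr_self χ.2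
    rw [Cfsg.classInner, inv_mul_eq_iff_eq_mul₀ hGne, mul_one] at h1
    rw [h1, mul_comm] at h
    rw [← Nat.card_eq_fintype_card]
    exact (mul_left_cancel₀ hGne h).symm
  have hT : ∀ x : P, tval p P (χ : G → ℂ) x (ex x) = 1 := eq_one_of_sum_eq_card
    (fun x => (tval_spec hM hmax hnil hχ h0 (hex x)).1)
    (fun σ x => (tval_spec hM hmax hnil hχ h0 (hex x)).2 σ) hsum
  -- the twists
  let F : Cfsg.IrrCharacter P → G → ℂ := fun η => Cfsg.extendByZero P (η : P → ℂ)
  have hF : ∀ η, (fun x : P => F η x) = (η : P → ℂ) := fun η =>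
    funext fun x => Char.extendByZero_of_mem P _ x.2
  have hFgen : ∀ η, Cfsg.IsGeneralizedCharacter P (fun x : P => F η x) := fun η => by
    rw [hF]; exact Char.isGeneralized_of_isCharacter (Char.IsIrr.isCharacter η.2)
  have hF1 : ∀ η, F η 1 = (η : P → ℂ) 1 := fun η => Char.extendByZero_of_mem P _ P.one_mem
  let Φ : Cfsg.IrrCharacter P → G → ℂ := fun η => Phi p M (fWeight p M P e₀ (F η)) (χ : G → ℂ)
  have horth : ∀ η η', Cfsg.classInner (Φ η) (Φ η') = if η = η' then 1 else 0 := by
    intro η η'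
    rw [← Char.classInner_irrChar η η', Cfsg.classInner, Cfsg.classInner]
    have h := sum_twist_mul_conj hM hmax hnil hχ ex hex (hFgen η) (hFgen η')
    simp only [hT, mul_one] at h
    have e : ∀ x : P, F η x * conj (F η' x) = (η : P → ℂ) x * conj ((η' : P → ℂ) x) := fun x => by
      rw [← congrFun (hF η) x, ← congrFun (hF η') x]
    simp only [e] at h
    field_simp
    linear_combination h
  have hirr : ∀ η, ∃ θ : Cfsg.IrrCharacter G, Φ η = (θ : G → ℂ) := by
    intro η
    obtain ⟨n, hn, hn1⟩ := Char.IsIrr.degree η.2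
    obtain ⟨d, hd, hd1⟩ := Char.IsIrr.degree χ.2
    have hW := (isWeight_of_class hM hmax hnil (hFgen η)).1
    refine exists_irr_of_norm_one (isClassFunction_Phi hW (Char.isClassFunction_of_isIrr χ.2))
      (isCM_Phi hp hW χ) (fun θ => isIntegral_classInner_Phi hM hW χ (Char.IsIrr.isCharacter θ.2))
      ((horth η η).trans (if_pos rfl)) (Nat.mul_pos hn hd) ?_
    show Phi p M (fWeight p M P e₀ (F η)) (χ : G → ℂ) 1 = _
    rw [twist_regular hM hmax hnil hχ (hFgen η) (by simp [hp.ne_one]), hF1, hn1, hd1, Nat.cast_mul]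
  choose θ hθ using hirr
  have hreg : ∀ η (y : G), ¬ p ∣ orderOf y →
      (θ η : G → ℂ) y = (η : P → ℂ) 1 * (χ : G → ℂ) y := fun η y hy => by
    rw [← hθ, ← hF1]
    exact twist_regular hM hmax hnil hχ (hFgen η) hy
  have hmem : ∀ η, θ η ∈ B := by
    intro η
    have h := omega_blockCoeff B (θ η)
    have h' := omega_blockCoeff B χ
    rw [if_pos hχ] at h'
    have e : omega (θ η : G → ℂ) (Cfsg.blockCoeff B) = omega (χ : G → ℂ) (Cfsg.blockCoeff B) := by
      have e1 : ∑ g, Cfsg.blockCoeff B g * (θ η : G → ℂ) g =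
          (η : P → ℂ) 1 * ∑ g, Cfsg.blockCoeff B g * (χ : G → ℂ) g := by
        rw [Finset.mul_sum]
        refine Finset.sum_congr rfl fun g _ => ?_
        by_cases hg : p ∣ orderOf g
        · rw [blockCoeff_eq_zero_of_dvd hM hB hg]; ring
        · rw [hreg η g hg]; ring
      simp only [omega]
      rw [e1, hreg η 1 (by simp [hp.ne_one]), mul_div_mul_left _ _ (Char.IsIrr.one_ne_zero η.2)]
    rw [h, h'] at e
    by_contra hne
    rw [if_neg hne] at e
    exact zero_ne_one e
  have hinj : Function.Injective θ := by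
    intro η η' h
    by_contra hne
    have h1 := horth η η'
    rw [if_neg hne, hθ, hθ, h, Char.classInner_irr_self (θ η').2] at h1
    exact one_ne_zero h1
  -- every character of the block is a twist
  have hsurj : ∀ ψ ∈ B, ∃ η, θ η = ψ := by
    intro ψ hψ
    by_contra! hne
    have hcard : Nat.card P = p ^ Cfsg.blockDefect p B :=
      BlockChar.card_defectGroup hM hB (BrauerPairs.isDefectGroup_of_maximal hM hmax)
    have hz : ∀ η, ∑ g, Φ η g * conj ((ψ : G → ℂ) g) = 0 := fun η => by
      have h := Char.classInner_irrChar (θ η) ψ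
      rw [if_neg (hne η), Cfsg.classInner, mul_eq_zero, inv_eq_zero] at h
      rw [hθ]
      exact h.resolve_left hGne
    let δ : G → ℂ := fun x => ∑ η : Cfsg.IrrCharacter P, (η : P → ℂ) 1 * F η x
    have hδ : ∀ x : P, δ x = if x = 1 then (Nat.card P : ℂ) else 0 := fun x => by
      rw [← Char.regular_eq_sum x]
      exact Finset.sum_congr rfl fun η _ => by rw [← congrFun (hF η) x]
    have hlin : ∀ g, ∑ η : Cfsg.IrrCharacter P, (η : P → ℂ) 1 * Φ η g =
        if p ∣ orderOf g then 0 else (Nat.card P : ℂ) * (χ : G → ℂ) g := by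
      intro g
      have hsq : ∑ η : Cfsg.IrrCharacter P, (η : P → ℂ) 1 * (η : P → ℂ) 1 = (Nat.card P : ℂ) := by
        have h := Char.regular_eq_sum (1 : P)
        rwa [if_pos rfl] at h
      split_ifs with hg
      · simp only [Φ, Phi, Finset.mul_sum]
        rw [Finset.sum_comm]
        refine Finset.sum_eq_zero fun e he => ?_
        simp only [← mul_assoc, ← Finset.sum_mul, ← fWeight_lin]
        by_cases hex' : ∃ v, Below p M P e₀ (v * pPartOf p g * v⁻¹) (conjF v e)
        · refine mul_eq_zero_of_left ?_ _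
          rw [fWeight, dif_pos hex']
          have hu := hex'.choose_spec.mem
          set w := hex'.choose
          show δ (w * pPartOf p g * w⁻¹) = 0
          rw [show w * pPartOf p g * w⁻¹ = ((⟨_, hu⟩ : P) : G) from rfl, hδ, if_neg]
          intro h
          have h' : w * pPartOf p g * w⁻¹ = 1 := congrArg Subtype.val h
          rw [mul_inv_eq_one, mul_eq_left, pPartOf_eq_one_iff hp] at h'
          exact h' hg
        · refine mul_eq_zero_of_left ?_ _
          exact fWeight_eq_zero fun v hv => hex' ⟨v, hv⟩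
      · rw [← hsq, Finset.sum_mul]
        refine Finset.sum_congr rfl fun η _ => ?_
        rw [hθ, hreg η g hg, mul_assoc]
    have h1 : ∑ g, (if p ∣ orderOf g then 0 else
        (Nat.card P : ℂ) * (χ : G → ℂ) g) * conj ((ψ : G → ℂ) g) = 0 := by
      simp only [← hlin, Finset.sum_mul, mul_assoc]
      rw [Finset.sum_comm]
      exact Finset.sum_eq_zero fun η _ => by rw [← Finset.mul_sum, hz, mul_zero]
    have h2 : BlockChar.regM p B χ ψ = 0 := by
      rw [BlockChar.regM, ← hcard, BlockChar.regSum, div_mul_eq_mul_div, div_eq_zero_iff]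
      refine Or.inl (Eq.trans ?_ h1)
      rw [Finset.mul_sum]
      refine Finset.sum_congr rfl fun g _ => ?_
      by_cases hg : p ∣ orderOf g <;> simp [Cfsg.IsPRegular, hg, mul_assoc]
    rw [← BlockChar.regM_comm hM] at h2
    have h3 := BlockChar.regM_eq hp hψ χ
    rw [h2, mul_zero, eq_comm, mul_eq_zero, Nat.cast_eq_zero] at h3
    refine BlockChar.not_memLocalIdeal_omega_regConj hM hB hψ hχ h0 ?_
    rw [h3.resolve_left (BlockChar.redDeg_mul hp hψ).2.2.ne']
    exact memLocalIdeal_zero hM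
  refine ⟨Equiv.ofBijective (fun η => ⟨θ η, hmem η⟩) ⟨fun η η' h => hinj (congrArg Subtype.val h),
    fun ψ => ?_⟩, fun η => (hθ η).symm⟩
  obtain ⟨η, hη⟩ := hsurj ψ ψ.2
  exact ⟨η, Subtype.ext hη⟩

/-- The sections of a twist at a subsection below the maximal pair. -/
theorem sect_twist (hM : Cfsg.IsPModular p M) (hmax : Cfsg.IsMaximalBrauerPair p M B P e₀)
    (hnil : Cfsg.IsNilpotentBlock p M B) {χ θ : Cfsg.IrrCharacter G}
    {η : Cfsg.IrrCharacter P}
    (hθ : (θ : G → ℂ) =
      Phi p M (fWeight p M P e₀ (Cfsg.extendByZero P (η : P → ℂ))) (χ : G → ℂ))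
    {x : P} (hx : ∃ k, orderOf (x : G) = p ^ k) {e : G → ℂ} (he : Below p M P e₀ (x : G) e)
    (heB : e ∈ Bk M (x : G)) {y : G} (hy : y ∈ regC p (x : G)) :
    sect (θ : G → ℂ) x e y = (η : P → ℂ) x * sect (χ : G → ℂ) x e y := by
  have hgen : Cfsg.IsGeneralizedCharacter P
      (fun z : P => Cfsg.extendByZero P (η : P → ℂ) z) := by
    rw [show (fun z : P => Cfsg.extendByZero P (η : P → ℂ) z) = (η : P → ℂ) from
      funext fun z => Char.extendByZero_of_mem P _ z.2]
    exact Char.isGeneralized_of_isCharacter (Char.IsIrr.isCharacter η.2)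
  haveI := Fact.mk hM.1
  rw [sect_star hM hθ hx heB hy,
    fWeight_of_below (isWeight_of_class hM hmax hnil hgen).2 he, Char.extendByZero_of_mem P _ x.2]

end Cfsg.Agent.Blocks.Dihedral
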