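import Cfsg.Agent.Blocks.Dihedral.Local
import Cfsg.Agent.Blocks.Dihedral.Twist
import Cfsg.Agent.BlockChar.SignCoherence.Column
import Cfsg.Agent.Blocks.Star.MajorPair

/-!
# The columns of the rotations

The sections of a character at the subsection of a rotation are the values of a character of the
defect group times the section of one character of the nilpotent block at the central involution;
the columns of these values satisfy the orthogonality relations of the dihedral group.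
-/

set_option autoImplicit false

namespace Cfsg.Agent.Blocks.Dihedral

open Cfsg.Agent Cfsg.Agent.Blocks Cfsg.Agent.Blocks.Star Cfsg.Agent.BrauerPairs
open Cfsg.Agent.BlockChar.SignCoherence (rmult)
open scoped ComplexConjugate

universe u

attribute [local instance] Fintype.ofFinite

/-- The finite type structure of a subgroup. -/
@[reducible] noncomputable def subFintype {K : Type u} [Group K] (H : Subgroup K) [Finite H] :
    Fintype H := Fintype.ofFinite H

attribute [local instance 2000] subFintype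

variable {G : Type u} [Group G] [Finite G] {M : Ideal Cfsg.AlgInt}
  {B : Set (Cfsg.IrrCharacter G)} {D : Subgroup G}
  {e₀ : Set (Cfsg.IrrCharacter (Subgroup.centralizer (D : Set G)))} {a : ℕ} {u t : G}

local notation "CG[" Q "]" => Subgroup.centralizer ((Q : Subgroup G) : Set G)
local notation "sbc" => Cfsg.subgroupBlockCoeff

theorem blockCoeff_one_ne_zero {p : ℕ} {K : Type u} [Group K] [Finite K]
    (hM : Cfsg.IsPModular p M) {b : Set (Cfsg.IrrCharacter K)} (hb : Cfsg.IsPBlock M b) :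
    Cfsg.blockCoeff b 1 ≠ 0 := by
  classical
  rw [Cfsg.blockCoeff, finsum_mem_eq_finite_toFinset_sum _ b.toFinite]
  refine mul_ne_zero (inv_ne_zero (Nat.cast_ne_zero.2 Nat.card_pos.ne')) ?_
  obtain ⟨η, hη⟩ := IsPBlock.nonempty hM hb
  have h : ∀ ψ : Cfsg.IrrCharacter K, (ψ : K → ℂ) 1 * conj ((ψ : K → ℂ) 1) =
      ((Cfsg.charDegree (ψ : K → ℂ) ^ 2 : ℕ) : ℂ) := fun ψ => by
    rw [(CharArith.irr_degree_spec ψ).1, Complex.conj_natCast, Nat.cast_pow, sq]
  simp only [h, ← Nat.cast_sum, ne_eq, Nat.cast_eq_zero]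
  have h2 := Finset.single_le_sum
    (f := fun ψ : Cfsg.IrrCharacter K => Cfsg.charDegree (ψ : K → ℂ) ^ 2)
    (fun _ _ => Nat.zero_le _) ((Set.Finite.mem_toFinset b.toFinite).2 hη)
  have h3 := pow_pos (CharArith.irr_degree_spec η).2 2
  omega

theorem apply_one_ne_zero {p : ℕ} (hM : Cfsg.IsPModular p M) {x : G} {e : G → ℂ}
    (he : e ∈ Bk M x) : e 1 ≠ 0 := by
  obtain ⟨b, hb, rfl⟩ := mem_Bk.1 he
  rw [sbc_of_mem b (one_mem _)]
  exact blockCoeff_one_ne_zero hM hb

open scoped Classical in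
/-- The number of elements fixing a subsection. -/
theorem card_fix {x : G} {e : G → ℂ} (he : e ∈ Bk M x) :
    (Finset.univ.filter fun g : G => g * x * g⁻¹ = x ∧ conjF g e = e).card =
      Nat.card CG[Subgroup.zpowers x] := by
  rw [Nat.card_eq_fintype_card, ← Finset.card_univ]
  refine Finset.card_bij' (fun g hg => ⟨g, mem_zpowers_centralizer.2 ?_⟩) (fun g _ => (g : G))
    (fun _ _ => Finset.mem_univ _) (fun g _ => ?_) (fun _ _ => rfl) fun _ _ => Subtype.ext rfl
  · have h := (Finset.mem_filter.1 hg).2.1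
    calc x * g = g * x * g⁻¹ * g := by rw [h]
      _ = g * x := by group
  · refine Finset.mem_filter.2 ⟨Finset.mem_univ _, ?_, funext fun w => ?_⟩
    · rw [← mem_zpowers_centralizer.1 g.2, mul_inv_cancel_right]
    · have h := isInv_Bk he (g : G) g.2 ((g : G)⁻¹ * w * (g : G))
      rw [show (g : G) * ((g : G)⁻¹ * w * (g : G)) * (g : G)⁻¹ = w by group] at h
      exact h.symm

theorem Below.mem_Bk {p : ℕ} (hM : Cfsg.IsPModular p M) {K : Type u} [Group K] [Finite K]
    {P : Subgroup K} {f₀ : Set (Cfsg.IrrCharacter (Subgroup.centralizer (P : Set K)))}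
    (hP : Cfsg.IsBrauerPair p M P f₀) {x : K} {e : K → ℂ} (h : Below p M P f₀ x e) :
    e ∈ Bk M x := by
  obtain ⟨f, hf, rfl⟩ := h
  exact sbc_mem_Bk (isBrauerPair_of_subpairLE hP hf).2

theorem one_mem_regC {K : Type u} [Group K] [Fintype K] {p : ℕ} (hp : p.Prime) (x : K) :
    (1 : K) ∈ regC p x := by simp [regC, hp.ne_one]

/-- A character outside the block has no section at a subsection below the maximal pair. -/
theorem sect_eq_zero_of_notMem {p : ℕ} (hM : Cfsg.IsPModular p M) {K : Type u} [Group K]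
    [Fintype K] {b : Set (Cfsg.IrrCharacter K)} {P : Subgroup K}
    {f₀ : Set (Cfsg.IrrCharacter (Subgroup.centralizer (P : Set K)))}
    (hmax : Cfsg.IsMaximalBrauerPair p M b P f₀) {θ : Cfsg.IrrCharacter K} (hθ : θ ∉ b)
    {x : K} (hx : ∃ k, orderOf x = p ^ k) {e : K → ℂ} (h : Below p M P f₀ x e) {y : K}
    (hy : y ∈ regC p x) : sect (θ : K → ℂ) x e y = 0 := by
  by_contra hne
  obtain ⟨f, hf, rfl⟩ := h
  have h1 := pair_of_sect_ne_zero hM (isPBlock_blockOf θ) (mem_blockOf_self hM θ) hx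
    (isBrauerPair_of_subpairLE hmax.1.1 hf).2 hy hne
  have h2 := (isBrauerPairOf_iff_of_subpairLE hM hf b).1 hmax.1
  rw [block_unique hM h2 h1] at hθ
  exact hθ (mem_blockOf_self hM θ)

/-- The nilpotent block at the central involution with its twists. -/
structure Zed (hM : Cfsg.IsPModular 2 M) (hmax : Cfsg.IsMaximalBrauerPair 2 M B D e₀)
    (sh : Shape D a u t) where
  b : Set (Cfsg.IrrCharacter (HH a u))
  hb : Cfsg.SubpairLE 2 M (Subgroup.zpowers (zed a u)) b D e₀
  η₀ : Cfsg.IrrCharacter (HH a u)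
  mem : η₀ ∈ b
  h0 : Cfsg.blockHeight 2 b (η₀ : HH a u → ℂ) = 0
  Θ : Cfsg.IrrCharacter (D.subgroupOf (HH a u)) ≃ b
  hΘ : ∀ η : Cfsg.IrrCharacter (D.subgroupOf (HH a u)),
    ((Θ η : Cfsg.IrrCharacter (HH a u)) : HH a u → ℂ) =
      Phi 2 M (fWeight 2 M (D.subgroupOf (HH a u))
        (resBlock (le_HH sh) (centralizer_le_HH sh) e₀)
          (Cfsg.extendByZero (D.subgroupOf (HH a u)) (η : D.subgroupOf (HH a u) → ℂ)))
        (η₀ : HH a u → ℂ)

variable {hM : Cfsg.IsPModular 2 M} {hmax : Cfsg.IsMaximalBrauerPair 2 M B D e₀}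
  {sh : Shape D a u t}

theorem exists_zed (hM : Cfsg.IsPModular 2 M) (hmax : Cfsg.IsMaximalBrauerPair 2 M B D e₀)
    (sh : Shape D a u t) : Nonempty (Zed hM hmax sh) := by
  obtain ⟨b, hb, -⟩ := existsUnique_subpairLE hM hmax.1.1
    (Subgroup.zpowers_le.2 sh.z_mem : Subgroup.zpowers (zed a u) ≤ D)
  have hnil := nilpotent_HH hM hmax sh hb
  obtain ⟨η₀, hη₀, h0⟩ := BlockThms.exists_height_zero hM hnil.1
  obtain ⟨Θ, hΘ⟩ := exists_twist_phi hM (maximal_HH hM hmax sh hb) hnil hη₀ h0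
  exact ⟨⟨b, hb, η₀, hη₀, h0, Θ, hΘ⟩⟩

namespace Zed

variable (Z : Zed hM hmax sh)
include Z

/-- The character of the defect group attached to a character of `G`. -/
noncomputable def phi (χ : Cfsg.IrrCharacter G) (x : HH a u) : ℂ :=
  ∑ η : Cfsg.IrrCharacter (D.subgroupOf (HH a u)), rmult (HH a u).subtype χ (Z.Θ η) *
    Cfsg.extendByZero (D.subgroupOf (HH a u)) (η : D.subgroupOf (HH a u) → ℂ) x

theorem phi_eq (χ : Cfsg.IrrCharacter G) : ∃ n : Cfsg.IrrCharacter (D.subgroupOf (HH a u)) → ℕ,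
    ∀ x : D.subgroupOf (HH a u), Z.phi χ x =
      ∑ η, (n η : ℂ) * (η : D.subgroupOf (HH a u) → ℂ) x := by
  choose n hn using fun η => BlockChar.SignCoherence.rmult_nat (HH a u).subtype χ
    (Z.Θ η : Cfsg.IrrCharacter (HH a u))
  exact ⟨n, fun x => Finset.sum_congr rfl fun η _ => by
    rw [hn, Char.extendByZero_of_mem _ _ x.2]⟩

/-- The sections at a rotation. -/
theorem sect_rot {x : G} (hx : x ∈ Subgroup.zpowers u) (hx1 : x ≠ 1)
    {f : Set (Cfsg.IrrCharacter CG[Subgroup.zpowers x])}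
    (hf : Cfsg.SubpairLE 2 M (Subgroup.zpowers x) f D e₀) (χ : Cfsg.IrrCharacter G) {y : HH a u}
    (hy : y ∈ regC 2 (⟨x, zpowers_le_HH sh hx (Subgroup.mem_zpowers x)⟩ : HH a u)) :
    sect (χ : G → ℂ) x (sbc CG[Subgroup.zpowers x] f) (y : G) =
      Z.phi χ ⟨x, zpowers_le_HH sh hx (Subgroup.mem_zpowers x)⟩ *
        sect (Z.η₀ : HH a u → ℂ) ⟨x, zpowers_le_HH sh hx (Subgroup.mem_zpowers x)⟩
          (fun g : HH a u => sbc CG[Subgroup.zpowers x] f (g : G)) y := by
  classical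
  set x' : HH a u := ⟨x, zpowers_le_HH sh hx (Subgroup.mem_zpowers x)⟩ with hx'
  set e' : HH a u → ℂ := fun g => sbc CG[Subgroup.zpowers x] f (g : G) with he'
  have hmaxH := maximal_HH hM hmax sh Z.hb
  have hnil := nilpotent_HH hM hmax sh Z.hb
  have hbel : Below 2 M (D.subgroupOf (HH a u))
      (resBlock (le_HH sh) (centralizer_le_HH sh) e₀) x' e' := below_HH hM hmax sh hx hx1 hf
  have hxord : ∃ k, orderOf x' = 2 ^ k := by
    rw [Subgroup.orderOf_mk]
    exact sh.exists_orderOf (sh.zpowers_le hx)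
  have hxP : x' ∈ D.subgroupOf (HH a u) := Subgroup.mem_subgroupOf.2 (sh.zpowers_le hx)
  have step1 : sect (χ : G → ℂ) x (sbc CG[Subgroup.zpowers x] f) (y : G) =
      ∑ θ : Cfsg.IrrCharacter (HH a u),
        rmult (HH a u).subtype χ θ * sect (θ : HH a u → ℂ) x' e' y := by
    simp only [sect, Finset.mul_sum]
    rw [Finset.sum_comm, ← Finset.sum_subset
      (Finset.subset_univ (Finset.univ.filter fun g : G => g ∈ HH a u)) fun g _ hg => by
        rw [sbc_of_notMem f fun hc => hg (Finset.mem_filter.2 ⟨Finset.mem_univ _,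
          centralizer_zpowers_le_HH sh hx hx1 hc⟩), zero_mul],
      Finset.sum_subtype (p := fun g => g ∈ HH a u) _ (by simp)]
    refine Finset.sum_congr rfl fun h _ => ?_
    have hres := BlockChar.SignCoherence.res_expand (HH a u).subtype χ (x' * y * h)
    rw [show (HH a u).subtype (x' * y * h) = x * (y : G) * (h : G) from rfl] at hres
    rw [hres, Finset.mul_sum]
    exact Finset.sum_congr rfl fun θ _ => by rw [he']; ring
  rw [step1, phi, Finset.sum_mul, ← Finset.sum_subset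
    (Finset.subset_univ (Finset.univ.filter fun θ => θ ∈ Z.b)) fun θ _ hθ => by
      rw [sect_eq_zero_of_notMem hM hmaxH (fun h => hθ (Finset.mem_filter.2 ⟨Finset.mem_univ _, h⟩))
        hxord hbel hy, mul_zero],
    Finset.sum_subtype (p := fun θ => θ ∈ Z.b) _ (by simp), ← Z.Θ.sum_comp]
  refine Finset.sum_congr rfl fun η _ => ?_
  rw [sect_twist hM hmaxH hnil (Z.hΘ η) (x := ⟨x', hxP⟩) hxord hbel
    (Below.mem_Bk hM hmaxH.1.1 hbel) hy, Char.extendByZero_of_mem _ _ hxP]
  ring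

open scoped Classical in
/-- The squared section of the twisted character at the identity. -/
theorem norm_base {x : G} (hx : x ∈ Subgroup.zpowers u) (hx1 : x ≠ 1)
    {f : Set (Cfsg.IrrCharacter CG[Subgroup.zpowers x])}
    (hf : Cfsg.SubpairLE 2 M (Subgroup.zpowers x) f D e₀) :
    (Nat.card (Subgroup.centralizer ({(⟨⟨x, zpowers_le_HH sh hx (Subgroup.mem_zpowers x)⟩,
        Subgroup.mem_subgroupOf.2 (sh.zpowers_le hx)⟩ : D.subgroupOf (HH a u))} :
          Set (D.subgroupOf (HH a u)))) : ℂ) *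
      (sect (Z.η₀ : HH a u → ℂ) ⟨x, zpowers_le_HH sh hx (Subgroup.mem_zpowers x)⟩
          (fun g : HH a u => sbc CG[Subgroup.zpowers x] f (g : G)) 1 *
        conj (sect (Z.η₀ : HH a u → ℂ) ⟨x, zpowers_le_HH sh hx (Subgroup.mem_zpowers x)⟩
          (fun g : HH a u => sbc CG[Subgroup.zpowers x] f (g : G)) 1)) =
      (Nat.card CG[Subgroup.zpowers x] : ℂ) * sbc CG[Subgroup.zpowers x] f 1 := by
  set x' : HH a u := ⟨x, zpowers_le_HH sh hx (Subgroup.mem_zpowers x)⟩ with hx'
  set e' : HH a u → ℂ := fun g => sbc CG[Subgroup.zpowers x] f (g : G) with he'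
  have hmaxH := maximal_HH hM hmax sh Z.hb
  have hnil := nilpotent_HH hM hmax sh Z.hb
  have hbel : Below 2 M (D.subgroupOf (HH a u))
      (resBlock (le_HH sh) (centralizer_le_HH sh) e₀) x' e' := below_HH hM hmax sh hx hx1 hf
  have hxord : ∃ k, orderOf x' = 2 ^ k := by
    rw [Subgroup.orderOf_mk]
    exact sh.exists_orderOf (sh.zpowers_le hx)
  have hxP : x' ∈ D.subgroupOf (HH a u) := Subgroup.mem_subgroupOf.2 (sh.zpowers_le hx)
  have heB := Below.mem_Bk hM hmaxH.1.1 hbel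
  have hcol := BlockChar.SignCoherence.sum_sect_one hM hxord hxord heB heB
  rw [card_fix heB] at hcol
  have hcardC : Nat.card (Subgroup.centralizer (Subgroup.zpowers x' : Set (HH a u))) =
      Nat.card CG[Subgroup.zpowers x] :=
    Nat.card_congr
      { toFun := fun c => ⟨((c : HH a u) : G), mem_zpowers_centralizer.2
          (congrArg Subtype.val (mem_zpowers_centralizer.1 c.2))⟩
        invFun := fun c => ⟨⟨(c : G), centralizer_zpowers_le_HH sh hx hx1 c.2⟩,
          mem_zpowers_centralizer.2 (Subtype.ext (mem_zpowers_centralizer.1 c.2))⟩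
        left_inv := fun c => rfl
        right_inv := fun c => rfl }
  rw [hcardC] at hcol
  refine Eq.trans ?_ hcol
  rw [← Finset.sum_subset (Finset.subset_univ (Finset.univ.filter fun θ => θ ∈ Z.b))
    fun θ _ hθ => by
      rw [sect_eq_zero_of_notMem hM hmaxH (fun h => hθ (Finset.mem_filter.2 ⟨Finset.mem_univ _, h⟩))
        hxord hbel (one_mem_regC hM.1 x'), zero_mul],
    Finset.sum_subtype (p := fun θ => θ ∈ Z.b) _ (by simp), ← Z.Θ.sum_comp]
  have horth := Char.second_orthogonality (⟨x', hxP⟩ : D.subgroupOf (HH a u)) ⟨x', hxP⟩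
  rw [if_pos (IsConj.refl _)] at horth
  rw [← horth, Finset.sum_mul]
  refine Finset.sum_congr rfl fun η _ => ?_
  rw [sect_twist hM hmaxH hnil (Z.hΘ η) (x := ⟨x', hxP⟩) hxord hbel heB (one_mem_regC hM.1 x'),
    map_mul]
  ring

/-- The section of the base character at the identity does not vanish. -/
theorem base_ne_zero {x : G} (hx : x ∈ Subgroup.zpowers u) (hx1 : x ≠ 1)
    {f : Set (Cfsg.IrrCharacter CG[Subgroup.zpowers x])}
    (hf : Cfsg.SubpairLE 2 M (Subgroup.zpowers x) f D e₀) :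
    sect (Z.η₀ : HH a u → ℂ) ⟨x, zpowers_le_HH sh hx (Subgroup.mem_zpowers x)⟩
      (fun g : HH a u => sbc CG[Subgroup.zpowers x] f (g : G)) 1 ≠ 0 := by
  intro h0
  have h := Z.norm_base hx hx1 hf
  rw [h0, zero_mul, mul_zero] at h
  exact mul_ne_zero (Nat.cast_ne_zero.2 Nat.card_pos.ne')
    (apply_one_ne_zero hM (sbc_mem_Bk (isBrauerPair_of_subpairLE hmax.1.1 hf).2)) h.symm

/-- The values at a rotation have the norm of the centralizer in the defect group. -/
theorem sum_phi_self {x : G} (hx : x ∈ Subgroup.zpowers u) (hx1 : x ≠ 1) :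
    ∑ χ ∈ B.toFinite.toFinset, Z.phi χ ⟨x, zpowers_le_HH sh hx (Subgroup.mem_zpowers x)⟩ *
        conj (Z.phi χ ⟨x, zpowers_le_HH sh hx (Subgroup.mem_zpowers x)⟩) =
      (Nat.card (Subgroup.centralizer ({(⟨⟨x, zpowers_le_HH sh hx (Subgroup.mem_zpowers x)⟩,
        Subgroup.mem_subgroupOf.2 (sh.zpowers_le hx)⟩ : D.subgroupOf (HH a u))} :
          Set (D.subgroupOf (HH a u)))) : ℂ) := by
  classical
  obtain ⟨f, hf, -⟩ := existsUnique_subpairLE hM hmax.1.1
    (Subgroup.zpowers_le.2 (sh.zpowers_le hx))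
  have hc := Z.base_ne_zero hx hx1 hf
  have hbase := Z.norm_base hx hx1 hf
  have hxord := sh.exists_orderOf (sh.zpowers_le hx)
  have heB : sbc CG[Subgroup.zpowers x] f ∈ Bk M x :=
    sbc_mem_Bk (isBrauerPair_of_subpairLE hmax.1.1 hf).2
  have hcol := BlockChar.SignCoherence.sum_sect_one hM hxord hxord heB heB
  rw [card_fix heB, ← Finset.sum_subset (Finset.subset_univ B.toFinite.toFinset) fun χ _ hχ => by
    rw [sect_eq_zero_of_notMem hM hmax (fun h => hχ ((Set.Finite.mem_toFinset _).2 h)) hxord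
      ⟨f, hf, rfl⟩ (one_mem_regC hM.1 x), zero_mul], ← hbase] at hcol
  refine mul_right_cancel₀ (mul_ne_zero hc ((map_ne_zero (starRingEnd ℂ)).2 hc)) ?_
  rw [← hcol, Finset.sum_mul]
  refine Finset.sum_congr rfl fun χ _ => ?_
  have h1 := Z.sect_rot hx hx1 hf χ (y := 1) (one_mem_regC hM.1 _)
  rw [show sect (χ : G → ℂ) x (sbc CG[Subgroup.zpowers x] f) 1 =
    sect (χ : G → ℂ) x (sbc CG[Subgroup.zpowers x] f) ((1 : HH a u) : G) from rfl, h1, map_mul]
  ring

/-- The columns of rotations which are not inverse are orthogonal. -/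
theorem sum_phi_ne {x x₂ : G} (hx : x ∈ Subgroup.zpowers u) (hx1 : x ≠ 1)
    (hx₂ : x₂ ∈ Subgroup.zpowers u) (hx₂1 : x₂ ≠ 1) (h1 : x₂ ≠ x) (h2 : x₂ ≠ x⁻¹) :
    ∑ χ ∈ B.toFinite.toFinset, Z.phi χ ⟨x, zpowers_le_HH sh hx (Subgroup.mem_zpowers x)⟩ *
        conj (Z.phi χ ⟨x₂, zpowers_le_HH sh hx₂ (Subgroup.mem_zpowers x₂)⟩) = 0 := by
  classical
  obtain ⟨f, hf, -⟩ := existsUnique_subpairLE hM hmax.1.1
    (Subgroup.zpowers_le.2 (sh.zpowers_le hx))
  obtain ⟨f₂, hf₂, -⟩ := existsUnique_subpairLE hM hmax.1.1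
    (Subgroup.zpowers_le.2 (sh.zpowers_le hx₂))
  have hc := Z.base_ne_zero hx hx1 hf
  have hc₂ := Z.base_ne_zero hx₂ hx₂1 hf₂
  have hxord := sh.exists_orderOf (sh.zpowers_le hx)
  have hxord₂ := sh.exists_orderOf (sh.zpowers_le hx₂)
  have heB : sbc CG[Subgroup.zpowers x] f ∈ Bk M x :=
    sbc_mem_Bk (isBrauerPair_of_subpairLE hmax.1.1 hf).2
  have heB₂ : sbc CG[Subgroup.zpowers x₂] f₂ ∈ Bk M x₂ :=
    sbc_mem_Bk (isBrauerPair_of_subpairLE hmax.1.1 hf₂).2
  have hcol := BlockChar.SignCoherence.sum_sect_one hM hxord hxord₂ heB heB₂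
  have hempty : (Finset.univ.filter fun g : G => g * x * g⁻¹ = x₂ ∧
      conjF g (sbc CG[Subgroup.zpowers x] f) = sbc CG[Subgroup.zpowers x₂] f₂).card = 0 := by
    refine Finset.card_eq_zero.2 (Finset.filter_eq_empty_iff.2 fun g _ hg => ?_)
    obtain ⟨hg1, hg2⟩ := hg
    have h3 := fusion_rot hM hmax sh hx (hg1 ▸ hx₂) ⟨f, hf, rfl⟩
      (g := g) (by rw [hg1, hg2]; exact ⟨f₂, hf₂, rfl⟩)
    rw [hg1] at h3
    exact h3.elim h1 h2
  rw [hempty, Nat.cast_zero, zero_mul,
    ← Finset.sum_subset (Finset.subset_univ B.toFinite.toFinset) fun χ _ hχ => by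
      rw [sect_eq_zero_of_notMem hM hmax (fun h => hχ ((Set.Finite.mem_toFinset _).2 h)) hxord
        ⟨f, hf, rfl⟩ (one_mem_regC hM.1 x), zero_mul]] at hcol
  refine mul_right_cancel₀ (mul_ne_zero hc ((map_ne_zero (starRingEnd ℂ)).2 hc₂)) ?_
  rw [zero_mul, ← hcol, Finset.sum_mul]
  refine Finset.sum_congr rfl fun χ _ => ?_
  have e1 := Z.sect_rot hx hx1 hf χ (y := 1) (one_mem_regC hM.1 _)
  have e2 := Z.sect_rot hx₂ hx₂1 hf₂ χ (y := 1) (one_mem_regC hM.1 _)
  rw [show ((1 : HH a u) : G) = 1 from rfl] at e1 e2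
  rw [e1, e2, map_mul]
  ring

end Zed

end Cfsg.Agent.Blocks.Dihedral
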