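import Mathlib.Data.Finset.Powerset
import Mathlib.Data.Fintype.Card
import Mathlib.Algebra.Order.BigOperators.Group.Finset
import Mathlib.Tactic

/-!
# The integer columns of a block with dihedral defect group

Integer vectors of norm four and three with inner products two determine the number of characters
except for one configuration with five characters.
-/

set_option autoImplicit false

namespace Cfsg.Agent.Blocks.Dihedral

open Finset

theorem abs_le_one_of_sq_lt_four {x : ℤ} (h : x * x < 4) : x = -1 ∨ x = 0 ∨ x = 1 := by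
  have h1 : -2 < x := by nlinarith
  have h2 : x < 2 := by nlinarith
  omega

theorem four_le_sq_of_even {x : ℤ} (h : Even x) (h0 : x ≠ 0) : 4 ≤ x * x := by
  obtain ⟨c, rfl⟩ := h
  have hc : c ≠ 0 := fun h' => h0 (by rw [h', add_zero])
  have : 1 ≤ c * c := by
    rcases lt_trichotomy c 0 with h | h | h
    · nlinarith
    · exact absurd h hc
    · nlinarith
  nlinarith

variable {ι : Type*} [Fintype ι] [DecidableEq ι]

/-- A vector of norm three with inner product two against a vector of signs. -/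
theorem exists_split (w v : ι → ℤ) (hw : ∀ χ, w χ = -1 ∨ w χ = 0 ∨ w χ = 1)
    (hvv : ∑ χ, v χ * v χ = 3) (hwv : ∑ χ, w χ * v χ = 2) :
    ∃ (P : Finset ι) (e : ι), P.card = 2 ∧ w e = 0 ∧ (v e = 1 ∨ v e = -1) ∧
      (∀ χ ∈ P, w χ ≠ 0 ∧ v χ = w χ) ∧ ∀ χ, v χ ≠ 0 → χ ∈ P ∨ χ = e := by
  have hsmall : ∀ χ, v χ = -1 ∨ v χ = 0 ∨ v χ = 1 := fun χ => abs_le_one_of_sq_lt_four (by
    have := Finset.single_le_sum (f := fun χ => v χ * v χ) (fun χ _ => mul_self_nonneg _)
      (mem_univ χ)
    simp only [hvv] at this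
    omega)
  set T := univ.filter fun χ => v χ ≠ 0 with hT
  have hmemT : ∀ χ, χ ∈ T ↔ v χ ≠ 0 := fun χ => by simp [hT]
  have hcard : T.card = 3 := by
    have : (T.card : ℤ) = ∑ χ, v χ * v χ := by
      rw [hT, Finset.card_filter]
      push_cast
      refine Finset.sum_congr rfl fun χ _ => ?_
      rcases hsmall χ with h | h | h <;> simp [h]
    omega
  obtain ⟨x, y, z, hxy, hxz, hyz, he⟩ := Finset.card_eq_three.1 hcard
  have hsum : w x * v x + w y * v y + w z * v z = 2 := by
    rw [← hwv, ← Finset.sum_subset (subset_univ T) fun χ _ hχ => by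
      rw [not_not.1 (mt (hmemT χ).2 hχ), mul_zero], he]
    simp [hxy, hxz, hyz, add_assoc]
  have hterm : ∀ χ ∈ T, (w χ * v χ = 1 ∧ w χ ≠ 0 ∧ v χ = w χ) ∨ (w χ * v χ = 0 ∧ w χ = 0 ∧
      (v χ = 1 ∨ v χ = -1)) ∨ w χ * v χ = -1 := by
    intro χ hχ
    have := (hmemT χ).1 hχ
    rcases hsmall χ with h | h | h <;> rcases hw χ with h' | h' | h' <;> simp_all
  have hx : x ∈ T := by simp [he]
  have hy : y ∈ T := by simp [he]
  have hz : z ∈ T := by simp [he]
  have hmem : ∀ χ, v χ ≠ 0 → χ = x ∨ χ = y ∨ χ = z := fun χ h => by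
    have := (hmemT χ).2 h
    simpa [he] using this
  rcases hterm x hx with ⟨ax, bx⟩ | ⟨ax, bx⟩ | ax <;>
    rcases hterm y hy with ⟨ay, by'⟩ | ⟨ay, by'⟩ | ay <;>
    rcases hterm z hz with ⟨az, bz⟩ | ⟨az, bz⟩ | az <;> try omega
  · refine ⟨{x, y}, z, card_pair hxy, bz.1, bz.2, ?_, fun χ h => ?_⟩
    · simp [bx, by']
    · rcases hmem χ h with rfl | rfl | rfl <;> simp
  · refine ⟨{x, z}, y, card_pair hxz, by'.1, by'.2, ?_, fun χ h => ?_⟩
    · simp [bx, bz]
    · rcases hmem χ h with rfl | rfl | rfl <;> simp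
  · refine ⟨{y, z}, x, card_pair hyz, bx.1, bx.2, ?_, fun χ h => ?_⟩
    · simp [by', bz]
    · rcases hmem χ h with rfl | rfl | rfl <;> simp

/-- The counting. -/
theorem counting {N : ℕ} (hN : ∃ j, N + 1 = 2 ^ (j + 1)) (ht : ι → ℕ) (F w : ι → ℤ)
    (v : Fin N → ι → ℤ) (s : Fin N → ℤ) (hww : ∑ χ, w χ * w χ = 4)
    (hwv : ∀ k, ∑ χ, w χ * v k χ = 2)
    (hvv : ∀ k l, ∑ χ, v k χ * v l χ = if k = l then 3 else 2)
    (hF : ∀ χ, F χ = w χ + 2 * ∑ k, s k * v k χ) (hF0 : ∀ χ, F χ ≠ 0)
    (hodd : ∀ χ, Odd (F χ) ↔ ht χ = 0) (hdvd : ∀ χ, ((2 ^ ht χ : ℕ) : ℤ) ∣ F χ)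
    (hnorm : ∑ χ, F χ * F χ = 4 * ((N : ℤ) + 1)) (h0 : ∃ χ, ht χ = 0) :
    (univ.filter fun χ => ht χ = 0).card = 4 ∧
      ((Fintype.card ι = N + 4 ∧ ∀ χ, ht χ ≤ 1) ∨ (N = 3 ∧ Fintype.card ι = 5)) := by
  have hwodd : ∀ χ, Odd (w χ) ↔ ht χ = 0 := fun χ => by
    rw [← hodd, hF]
    simp [Int.odd_add, parity_simps]
  have hwsmall : ∀ χ, w χ = -1 ∨ w χ = 0 ∨ w χ = 1 := by
    intro χ
    refine abs_le_one_of_sq_lt_four ?_
    by_contra hlt
    obtain ⟨χ₀, hχ₀⟩ := h0
    have hne : χ₀ ≠ χ := by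
      rintro rfl
      have h' := (hwodd χ₀).2 hχ₀
      have := Finset.single_le_sum (f := fun χ => w χ * w χ) (fun χ _ => mul_self_nonneg _)
        (mem_univ χ₀)
      simp only [hww] at this
      obtain ⟨c, hc⟩ := h'
      have e : w χ₀ * w χ₀ = 4 := by omega
      rw [hc] at e
      have : (2 * c + 1) * (2 * c + 1) = 2 * (2 * c * c + 2 * c) + 1 := by ring
      omega
    have h1 := Finset.sum_le_sum_of_subset_of_nonneg (subset_univ {χ₀, χ})
      fun i _ _ => mul_self_nonneg (w i)
    rw [hww, sum_pair hne] at h1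
    have h2 : w χ₀ ≠ 0 := fun h => by
      have := (hwodd χ₀).2 hχ₀
      simp [h] at this
    have h3 : 0 < w χ₀ * w χ₀ := mul_self_pos.2 h2
    omega
  have hht : ∀ χ, ht χ = 0 ↔ w χ ≠ 0 := fun χ => by
    rw [← hwodd]
    rcases hwsmall χ with h | h | h <;> simp [h]
  set S := univ.filter fun χ => ht χ = 0 with hS
  have hScard : S.card = 4 := by
    have : (S.card : ℤ) = ∑ χ, w χ * w χ := by
      rw [hS, Finset.card_filter]
      push_cast
      refine Finset.sum_congr rfl fun χ _ => ?_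
      rw [if_congr (hht χ) rfl rfl]
      rcases hwsmall χ with h | h | h <;> simp [h]
    omega
  refine ⟨hScard, ?_⟩
  set O := univ.filter fun χ => ¬ ht χ = 0 with hO
  have hcard : Fintype.card ι = 4 + O.card := by
    rw [← Finset.card_univ, ← Finset.card_filter_add_card_filter_not
      (s := univ) (fun χ => ht χ = 0), ← hS, ← hO, hScard]
  have hlowS : ∀ χ ∈ S, 1 ≤ F χ * F χ := fun χ _ => by
    have := mul_self_pos.2 (hF0 χ); omega
  have hlowO : ∀ χ ∈ O, 4 ≤ F χ * F χ := fun χ hχ => four_le_sq_of_even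
    (Int.not_odd_iff_even.1 (mt (hodd χ).1 (mem_filter.1 hχ).2)) (hF0 χ)
  have hsplit : ∑ χ ∈ S, F χ * F χ + ∑ χ ∈ O, F χ * F χ = 4 * ((N : ℤ) + 1) := by
    rw [← hnorm, hS, hO, Finset.sum_filter_add_sum_filter_not]
  have hSsum : (4 : ℤ) ≤ ∑ χ ∈ S, F χ * F χ := by
    have := Finset.card_nsmul_le_sum S (fun χ => F χ * F χ) 1 hlowS
    rw [hScard] at this
    simpa using this
  have hOsum : 4 * (O.card : ℤ) ≤ ∑ χ ∈ O, F χ * F χ := by
    have := Finset.card_nsmul_le_sum O (fun χ => F χ * F χ) 4 hlowO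
    rw [nsmul_eq_mul] at this
    linarith
  choose P e hP2 hwe hve hPv hsupp using fun k => exists_split w (v k) hwsmall
    (by simpa using hvv k k) (hwv k)
  have heO : ∀ k, e k ∈ O := fun k => mem_filter.2 ⟨mem_univ _, fun h => (hht _).1 h (hwe k)⟩
  have heP : ∀ k l, e k ∉ P l := fun k l h => (hPv l _ h).1 (hwe k)
  have hinner : ∀ k l, ∑ χ, v k χ * v l χ =
      ((P k ∩ P l).card : ℤ) + v k (e k) * v l (e k) := by
    intro k l
    rw [← Finset.sum_subset (subset_univ (insert (e k) (P k))) fun χ _ hχ => by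
      rw [show v k χ = 0 from by_contra fun h => hχ (mem_insert.2 ((hsupp k χ h).symm)), zero_mul],
      sum_insert (heP k k), add_comm]
    congr 1
    have e1 : ∀ χ ∈ P k, v k χ * v l χ = if χ ∈ P l then 1 else 0 := by
      intro χ hχ
      obtain ⟨hw0, hv⟩ := hPv k χ hχ
      split_ifs with h
      · rw [hv, (hPv l χ h).2]
        rcases hwsmall χ with h' | h' | h' <;> simp_all
      · rw [show v l χ = 0 from by_contra fun h' => (hsupp l χ h').elim h fun he' =>
          heP l k (he' ▸ hχ), mul_zero]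
    rw [Finset.sum_congr rfl e1, Finset.sum_boole, filter_mem_eq_inter]

  have hve' : ∀ k l, e k ≠ e l → v l (e k) = 0 := fun k l h =>
    by_contra fun h' => (hsupp l _ h').elim (heP k l) h
  have hdiff : ∀ k l, k ≠ l → e k ≠ e l → P k = P l := by
    intro k l hkl h
    have h1 := hinner k l
    rw [hvv, if_neg hkl, hve' k l h, mul_zero, add_zero] at h1
    refine Finset.eq_of_subset_of_card_le (Finset.inter_eq_left.1 ?_) (le_of_eq (by rw [hP2, hP2]))
    exact Finset.eq_of_subset_of_card_le inter_subset_left (by rw [hP2]; omega)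
  have hsame : ∀ k l, k ≠ l → e k = e l → (P k ∩ P l).card = 1 := by
    intro k l hkl h
    have h1 := hinner k l
    rw [hvv, if_neg hkl] at h1
    have hle : (P k ∩ P l).card ≤ 2 := (card_le_card inter_subset_left).trans (hP2 k).le
    rw [h] at h1
    have hk := hve k
    rw [h] at hk
    rcases hk with hk | hk <;> rcases hve l with hl | hl <;> simp [hk, hl] at h1 <;> omega
  by_cases hall : ∀ k l, P k = P l
  · left
    have hinj : Function.Injective e := fun k l h => by
      by_contra hkl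
      have := hsame k l hkl h
      rw [hall k l, inter_self, hP2] at this
      omega
    have hge : N ≤ O.card := by
      have := Finset.card_le_card_of_injOn (s := (univ : Finset (Fin N))) e
        (fun k _ => heO k) hinj.injOn
      simpa using this
    have hle : O.card ≤ N := by omega
    refine ⟨by omega, fun χ => ?_⟩
    by_cases hχ : ht χ = 0
    · omega
    have hχO : χ ∈ O := mem_filter.2 ⟨mem_univ _, hχ⟩
    have heq : F χ * F χ = 4 := by
      by_contra hne
      have : ∑ χ ∈ O, (4 : ℤ) < ∑ χ ∈ O, F χ * F χ :=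
        Finset.sum_lt_sum hlowO ⟨χ, hχO, lt_of_le_of_ne (hlowO χ hχO) (Ne.symm hne)⟩
      rw [Finset.sum_const, nsmul_eq_mul] at this
      omega
    have hd := Int.mul_dvd_mul (hdvd χ) (hdvd χ)
    rw [heq] at hd
    have hd' : (2 ^ ht χ * 2 ^ ht χ : ℕ) ∣ 4 := by exact_mod_cast hd
    rw [← pow_add, show (4 : ℕ) = 2 ^ 2 from rfl, Nat.pow_dvd_pow_iff_le_right (by norm_num)] at hd'
    omega
  · right
    push Not at hall
    obtain ⟨k₀, l₀, hne⟩ := hall
    have hkl : k₀ ≠ l₀ := fun h => hne (h ▸ rfl)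
    have he0 : e k₀ = e l₀ := by_contra fun h => hne (hdiff k₀ l₀ hkl h)
    have hall' : ∀ j, e j = e k₀ := by
      intro j
      by_contra hj
      have h1 : j ≠ k₀ := fun h => hj (h ▸ rfl)
      have h2 : j ≠ l₀ := fun h => hj (h ▸ he0.symm)
      exact hne ((hdiff j k₀ h1 hj).symm.trans (hdiff j l₀ h2 (he0 ▸ hj)))
    have hPinj : Function.Injective P := fun k l h => by
      by_contra hkl'
      have := hsame k l hkl' ((hall' k).trans (hall' l).symm)
      rw [h, inter_self, hP2] at this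
      omega
    have hPS : ∀ k, P k ⊆ S := fun k χ hχ =>
      mem_filter.2 ⟨mem_univ _, (hht χ).2 (hPv k χ hχ).1⟩
    -- the pairs and their complements
    have hN3 : N ≤ 3 := by
      set Q := (univ : Finset (Fin N)).image P
      set Q' := (univ : Finset (Fin N)).image fun k => S \ P k
      have hQ : Q.card = N := by rw [card_image_of_injective _ hPinj, card_univ, Fintype.card_fin]
      have hQ' : Q'.card = N := by
        rw [card_image_of_injective _ fun k l h => hPinj ?_, card_univ, Fintype.card_fin]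
        rw [← Finset.sdiff_sdiff_eq_self (hPS k), h, Finset.sdiff_sdiff_eq_self (hPS l)]
      have hd : Disjoint Q Q' := by
        refine disjoint_left.2 fun A hA hA' => ?_
        obtain ⟨k, -, rfl⟩ := mem_image.1 hA
        obtain ⟨l, -, hl⟩ := mem_image.1 hA'
        by_cases hkl' : k = l
        · subst hkl'
          have : P k ∩ P k = ∅ := by nth_rewrite 1 [← hl]; exact sdiff_inter_self _ _
          rw [inter_self] at this
          have h2 := hP2 k
          rw [this, card_empty] at h2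
          omega
        · have := hsame k l hkl' ((hall' k).trans (hall' l).symm)
          rw [← hl, sdiff_inter_self] at this
          simp at this
      have hsub : Q ∪ Q' ⊆ S.powersetCard 2 := by
        refine union_subset (fun A hA => ?_) fun A hA => ?_
        · obtain ⟨k, -, rfl⟩ := mem_image.1 hA
          exact mem_powersetCard.2 ⟨hPS k, hP2 k⟩
        · obtain ⟨k, -, rfl⟩ := mem_image.1 hA
          exact mem_powersetCard.2 ⟨sdiff_subset, by
            rw [card_sdiff_of_subset (hPS k), hScard, hP2]⟩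
      have := card_le_card hsub
      rw [card_union_of_disjoint hd, hQ, hQ', card_powersetCard, hScard] at this
      norm_num [Nat.choose_two_right] at this
      omega
    have hN2 : 2 ≤ N := by
      have h1 := k₀.isLt
      have h2 := l₀.isLt
      by_contra h
      exact hkl (Fin.ext (by omega))
    obtain ⟨j, hj⟩ := hN
    have hN' : N = 3 := by
      rcases j with _ | j
      · simp at hj; omega
      · have : 2 ^ 2 ≤ 2 ^ (j + 1 + 1) := Nat.pow_le_pow_right two_pos (by omega)
        omega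
    refine ⟨hN', ?_⟩
    have hO1 : O = {e k₀} := by
      refine eq_singleton_iff_unique_mem.2 ⟨heO k₀, fun χ hχ => ?_⟩
      by_contra hne'
      refine hF0 χ ?_
      have hw0 : w χ = 0 := by_contra fun h => (mem_filter.1 hχ).2 ((hht χ).2 h)
      rw [hF, hw0, sum_eq_zero fun k _ => ?_, mul_zero, add_zero]
      rw [show v k χ = 0 from by_contra fun h => (hsupp k χ h).elim (fun hp => (hPv k χ hp).1 hw0)
        fun he' => hne' (he'.trans (hall' k)), mul_zero]
    rw [hcard, hO1, card_singleton]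

end Cfsg.Agent.Blocks.Dihedral
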