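import Cfsg.Agent.Char.Ortho
import Mathlib.Analysis.SpecialFunctions.Complex.CircleAddChar

/-!
# Fourier coefficients on the rotations

The values of a character on a cyclic subgroup give integers whose inner products are determined
by the orthogonality relations of the columns.
-/

set_option autoImplicit false

namespace Cfsg.Agent.Blocks.Dihedral

open scoped ComplexConjugate
open ZMod (stdAddChar)

universe u

/-- The values of a character at powers of an element. -/
theorem exists_fourier {K : Type u} [Group K] [Finite K] {ψ : K → ℂ}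
    (hψ : Cfsg.IsCharacter K ψ) {g : K} {m : ℕ} [NeZero m] (hg : g ^ m = 1) :
    ∃ A : ZMod m → ℕ, ∀ x : ZMod m,
      ψ (g ^ x.val) = ∑ l, (A l : ℂ) * stdAddChar (x * l) := by
  classical
  obtain ⟨n, ρ, rfl⟩ := hψ
  obtain ⟨μ, b, hb, hμ⟩ := Char.exists_eigenbasis_of_pow_eq_one (ρ g) (NeZero.ne m)
    (by rw [← map_pow, hg, map_one])
  have hprim : IsPrimitiveRoot (stdAddChar (1 : ZMod m)) m := by
    refine IsPrimitiveRoot.mk_of_lt _ (Nat.pos_of_neZero m) ?_ fun l hl0 hlm h => ?_
    · rw [← AddChar.map_nsmul_eq_pow, nsmul_eq_mul, mul_one, ZMod.natCast_self,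
        AddChar.map_zero_eq_one]
    · rw [← AddChar.map_nsmul_eq_pow, nsmul_eq_mul, mul_one] at h
      have h1 : (l : ZMod m) = 0 :=
        ZMod.injective_stdAddChar (by rw [h, AddChar.map_zero_eq_one])
      rw [ZMod.natCast_eq_zero_iff] at h1
      exact absurd (Nat.le_of_dvd hl0 h1) (by omega)
  choose l hl hle using fun i => hprim.eq_pow_of_pow_eq_one (hμ i)
  refine ⟨fun y => (Finset.univ.filter fun i => ((l i : ℕ) : ZMod m) = y).card, fun x => ?_⟩
  have htr : ρ.character (g ^ x.val) = ∑ i, μ i ^ x.val := by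
    refine Char.trace_eq_sum_of_eigenbasis _ b _ fun i => ?_
    rw [map_pow]
    induction x.val with
    | zero => simp
    | succ k ih => rw [pow_succ', Module.End.mul_apply, ih, map_smul, hb, smul_smul, pow_succ]
  rw [show (Representation.character ρ) (g ^ x.val) = ∑ i, μ i ^ x.val from htr]
  rw [← Finset.sum_fiberwise Finset.univ (fun i => ((l i : ℕ) : ZMod m))]
  refine Finset.sum_congr rfl fun y _ => ?_
  dsimp only
  rw [Finset.card_eq_sum_ones, Nat.cast_sum, Finset.sum_mul]
  refine Finset.sum_congr rfl fun i hi => ?_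
  rw [← hle i, ← AddChar.map_nsmul_eq_pow, ← AddChar.map_nsmul_eq_pow, ← (Finset.mem_filter.1 hi).2,
    Nat.cast_one, one_mul]
  congr 1
  simp only [nsmul_eq_mul, mul_one, ZMod.natCast_zmod_val]

section Gram

variable {m : ℕ} [NeZero m] {ι : Type*} [Fintype ι] {f : ι → ZMod m → ℂ} {A : ι → ZMod m → ℕ}

theorem coeff_eq (hA : ∀ χ x, f χ x = ∑ l, (A χ l : ℂ) * stdAddChar (x * l)) (χ : ι) (k : ZMod m) :
    (m : ℂ) * (A χ k : ℂ) = ∑ x, f χ x * stdAddChar (x * -k) := by
  classical
  simp only [hA, Finset.sum_mul]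
  rw [Finset.sum_comm, Finset.sum_eq_single k]
  · simp only [mul_assoc, ← AddChar.map_add_eq_mul, ← mul_add, add_neg_cancel, mul_zero,
      AddChar.map_zero_eq_one, Finset.sum_const, Finset.card_univ, ZMod.card, nsmul_eq_mul, mul_one]
  · intro l _ hl
    simp only [mul_assoc, ← Finset.mul_sum, ← AddChar.map_add_eq_mul, ← mul_add]
    rw [AddChar.sum_mulShift _ (ZMod.isPrimitive_stdAddChar m), if_neg]
    · simp
    · rwa [← sub_eq_add_neg, sub_eq_zero]
  · simp

theorem coeff_neg (hA : ∀ χ x, f χ x = ∑ l, (A χ l : ℂ) * stdAddChar (x * l))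
    (hsym : ∀ χ x, f χ (-x) = f χ x) (χ : ι) (k : ZMod m) : A χ (-k) = A χ k := by
  have h : (m : ℂ) * (A χ (-k) : ℂ) = (m : ℂ) * (A χ k : ℂ) := by
    rw [coeff_eq hA, coeff_eq hA]
    refine Fintype.sum_equiv (Equiv.neg (ZMod m)) _ _ fun x => ?_
    rw [Equiv.neg_apply, hsym]
    congr 2
    ring
  exact_mod_cast mul_left_cancel₀ (Nat.cast_ne_zero.2 (NeZero.ne m)) h

/-- The inner products of the coefficient differences. -/
theorem coeff_gram (hA : ∀ χ x, f χ x = ∑ l, (A χ l : ℂ) * stdAddChar (x * l))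
    (hgram : ∀ x y : ZMod m, x ≠ 0 → y ≠ 0 → ∑ χ, f χ x * conj (f χ y) =
      (m : ℂ) * ((if x = y then 1 else 0) + if x = -y then 1 else 0))
    {k l : ZMod m} (hk : k ≠ 0) (hl : l ≠ 0) :
    ∑ χ, ((A χ k : ℤ) - A χ 0) * ((A χ l : ℤ) - A χ 0) =
      (if k = l then 1 else 0) + (if k = -l then 1 else 0) + 2 := by
  classical
  set E : ZMod m → ZMod m → ℂ := fun k x => stdAddChar (x * -k) - 1 with hE
  have hv : ∀ χ k, (m : ℂ) * ((A χ k : ℂ) - A χ 0) = ∑ x, f χ x * E k x := fun χ k => by
    simp only [hE, mul_sub, mul_one, Finset.sum_sub_distrib, coeff_eq hA, neg_zero, mul_zero,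
      AddChar.map_zero_eq_one]
  have hvc : ∀ χ l, (m : ℂ) * ((A χ l : ℂ) - A χ 0) = ∑ x, conj (f χ x) * conj (E l x) :=
    fun χ l => by
    have h := congrArg conj (hv χ l)
    simpa [map_sum, map_mul, map_sub] using h
  have hneg : ∀ k x, conj (E k x) = E k (-x) := fun k x => by
    simp only [hE, map_sub, map_one, neg_mul]
    rw [AddChar.map_neg_eq_conj]
  have hE0 : ∀ k, E k 0 = 0 := fun k => by simp [hE]
  have hsum : ∀ c : ZMod m, ∑ x : ZMod m, (stdAddChar (x * c) : ℂ) = if c = 0 then (m : ℂ) else 0 :=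
    fun c => by
    rw [AddChar.sum_mulShift _ (ZMod.isPrimitive_stdAddChar m), ZMod.card]
    split_ifs <;> simp
  have hprod : ∀ k l : ZMod m, k ≠ 0 → l ≠ 0 →
      ∑ x, E k x * E l x = (m : ℂ) * ((if k = -l then 1 else 0) + 1) := by
    intro k l hk hl
    simp only [hE, sub_mul, mul_sub, one_mul, mul_one, Finset.sum_sub_distrib,
      ← AddChar.map_add_eq_mul, ← mul_add, hsum, neg_eq_zero, if_neg hk, if_neg hl,
      Finset.sum_const, Finset.card_univ, ZMod.card, nsmul_eq_mul]
    have : -k + -l = 0 ↔ k = -l := by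
      rw [← neg_add, neg_eq_zero, add_eq_zero_iff_eq_neg]
    simp only [this]
    split_ifs <;> ring
  have hmain : (m : ℂ) ^ 2 * ((∑ χ, ((A χ k : ℤ) - A χ 0) * ((A χ l : ℤ) - A χ 0) : ℤ) : ℂ) =
      (m : ℂ) ^ 2 * ((((if k = l then 1 else 0) + (if k = -l then 1 else 0) + 2) : ℤ) : ℂ) := by
    calc (m : ℂ) ^ 2 * ((∑ χ, ((A χ k : ℤ) - A χ 0) * ((A χ l : ℤ) - A χ 0) : ℤ) : ℂ)
        = ∑ χ, (∑ x, f χ x * E k x) * ∑ y, conj (f χ y) * conj (E l y) := by
          push_cast
          rw [Finset.mul_sum]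
          refine Finset.sum_congr rfl fun χ _ => ?_
          rw [← hv, ← hvc]
          ring
      _ = ∑ x, ∑ y, E k x * conj (E l y) * ∑ χ, f χ x * conj (f χ y) := by
          simp only [Finset.sum_mul_sum]
          simp only [Finset.mul_sum]
          rw [Finset.sum_comm]
          refine Finset.sum_congr rfl fun x _ => ?_
          rw [Finset.sum_comm]
          exact Finset.sum_congr rfl fun y _ => Finset.sum_congr rfl fun χ _ => by ring
      _ = ∑ x, ∑ y, E k x * conj (E l y) *
            ((m : ℂ) * ((if x = y then 1 else 0) + if x = -y then 1 else 0)) := by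
          refine Finset.sum_congr rfl fun x _ => Finset.sum_congr rfl fun y _ => ?_
          by_cases hx : x = 0
          · simp [hx, hE0]
          by_cases hy : y = 0
          · simp [hy, hE0]
          rw [hgram x y hx hy]
      _ = (m : ℂ) * ∑ x, (E k x * E l (-x) + E k x * E l x) := by
          rw [Finset.mul_sum]
          refine Finset.sum_congr rfl fun x _ => ?_
          simp only [hneg, mul_add, mul_ite, mul_one, mul_zero, Finset.sum_add_distrib,
            eq_neg_iff_add_eq_zero, Finset.sum_ite_eq, Finset.mem_univ, if_true]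
          rw [Finset.sum_eq_single (-x) (fun y _ hy => if_neg fun h => hy
            (eq_neg_of_add_eq_zero_right h)) (by simp), if_pos (add_neg_cancel x), neg_neg]
          ring
      _ = _ := by
          have h1 : ∀ x, E l (-x) = E (-l) x := fun x => by simp [hE]
          simp only [h1, Finset.sum_add_distrib, hprod k (-l) hk (neg_ne_zero.2 hl), hprod k l hk hl,
            neg_neg]
          push_cast
          ring
  exact Int.cast_injective
    (mul_left_cancel₀ (pow_ne_zero _ (Nat.cast_ne_zero.2 (NeZero.ne m))) hmain)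

end Gram

end Cfsg.Agent.Blocks.Dihedral
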