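import Cfsg.Agent.Blocks.Dihedral.ZColumn
import Cfsg.Agent.Blocks.Dihedral.Fourier
import Cfsg.Agent.Blocks.Dihedral.Comb

/-!
# The number of characters of a block with dihedral defect group

The coefficients of the attached characters on the rotations satisfy the hypotheses of the
counting.
-/

set_option autoImplicit false

namespace Cfsg.Agent.Blocks.Dihedral

open Cfsg.Agent Cfsg.Agent.Blocks Cfsg.Agent.Blocks.Star Cfsg.Agent.BrauerPairs
open scoped ComplexConjugate
open ZMod (stdAddChar)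

universe u

/-- Split a symmetric sum over `ZMod (2 * (N + 1))`. -/
theorem sum_zmod_symm (N : ℕ) {R : Type*} [CommRing R] (g : ℕ → R)
    (hg : ∀ k < N, g (N + 2 + k) = g (N - k)) :
    ∑ n ∈ Finset.range (2 * (N + 1)), g n =
      g 0 + g (N + 1) + 2 * ∑ k ∈ Finset.range N, g (k + 1) := by
  rw [show 2 * (N + 1) = (N + 1) + (N + 1) by ring, Finset.sum_range_add, Finset.sum_range_succ',
    Finset.sum_range_succ' _ N]
  have e : ∑ k ∈ Finset.range N, g (N + 1 + (k + 1)) = ∑ k ∈ Finset.range N, g (k + 1) := by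
    rw [← Finset.sum_range_reflect (fun k => g (k + 1)) N]
    refine Finset.sum_congr rfl fun k hk => ?_
    rw [Finset.mem_range] at hk
    rw [show N + 1 + (k + 1) = N + 2 + k by ring, hg k hk]
    congr 1
    omega
  rw [e, add_zero]
  ring

theorem sum_neg_one_pow_succ (j : ℕ) :
    ∑ k ∈ Finset.range (2 * j + 1), (-1 : ℤ) ^ (k + 1) = -1 := by
  induction j with
  | zero => simp
  | succ j ih =>
    rw [show 2 * (j + 1) + 1 = 2 * j + 1 + 1 + 1 by ring, Finset.sum_range_succ,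
      Finset.sum_range_succ, ih, pow_succ (-1 : ℤ) (2 * j + 1 + 1)]
    ring

variable {G : Type u} [Group G] [Finite G] {M : Ideal Cfsg.AlgInt}
  {B : Set (Cfsg.IrrCharacter G)} {D : Subgroup G}
  {e₀ : Set (Cfsg.IrrCharacter (Subgroup.centralizer (D : Set G)))} {a : ℕ} {u t : G}
  {hM : Cfsg.IsPModular 2 M} {hmax : Cfsg.IsMaximalBrauerPair 2 M B D e₀}
  {sh : Shape D a u t}

attribute [local instance] Fintype.ofFinite
attribute [local instance 2000] subFintype

omit [Finite G] in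
theorem rot_congr {x y : G} {hx : x ∈ Subgroup.zpowers u} {hy : y ∈ Subgroup.zpowers u}
    (h : x = y) : rot sh hx = rot sh hy := Subtype.ext h

namespace Zed

variable (Z : Zed hM hmax sh)
include Z

/-- The number of characters and the heights, up to one exceptional configuration. -/
theorem core : Nat.card {χ : Cfsg.IrrCharacter G // χ ∈ B ∧ Cfsg.blockHeight 2 B (χ : G → ℂ) = 0} = 4 ∧
    ((Nat.card B = 2 ^ (a + 1) + 3 ∧ ∀ χ ∈ B, Cfsg.blockHeight 2 B (χ : G → ℂ) ≤ 1) ∨
      (a = 1 ∧ Nat.card B = 5)) := by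
  classical
  haveI : NeZero (2 ^ (a + 2)) := ⟨by positivity⟩
  obtain ⟨N, hN⟩ : ∃ N, 2 ^ (a + 1) = N + 1 := ⟨_, (Nat.succ_pred_eq_of_pos (by positivity)).symm⟩
  obtain ⟨j, hj⟩ : ∃ j, N = 2 * j + 1 := by
    refine ⟨2 ^ a - 1, ?_⟩
    have : 1 ≤ 2 ^ a := Nat.one_le_two_pow
    rw [pow_succ] at hN
    omega
  have hm : 2 ^ (a + 2) = 2 * (N + 1) := by rw [pow_succ, hN]; ring
  -- powers of `u`
  have hpow : ∀ x y : ZMod (2 ^ (a + 2)), u ^ (x + y).val = u ^ x.val * u ^ y.val := fun x y => by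
    rw [← pow_add, pow_eq_pow_iff_modEq, sh.hord, ZMod.val_add]
    exact Nat.mod_modEq _ _
  have hinj : ∀ x y : ZMod (2 ^ (a + 2)), u ^ x.val = u ^ y.val → x = y := fun x y h => by
    rw [pow_eq_pow_iff_modEq, sh.hord, ← ZMod.natCast_eq_natCast_iff, ZMod.natCast_zmod_val,
      ZMod.natCast_zmod_val] at h
    exact h
  have hinv : ∀ x : ZMod (2 ^ (a + 2)), u ^ (-x).val = (u ^ x.val)⁻¹ := fun x => by
    rw [← mul_eq_one_iff_eq_inv, ← hpow, neg_add_cancel, ZMod.val_zero, pow_zero]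
  have hmem : ∀ x : ZMod (2 ^ (a + 2)), u ^ x.val ∈ Subgroup.zpowers u := fun x =>
    Subgroup.pow_mem _ (Subgroup.mem_zpowers u) _
  have hne : ∀ x : ZMod (2 ^ (a + 2)), x ≠ 0 → u ^ x.val ≠ 1 := fun x hx h =>
    hx (hinj x 0 (by rw [h, ZMod.val_zero, pow_zero]))
  let f : B → ZMod (2 ^ (a + 2)) → ℂ := fun χ x => Z.phi χ (rot sh (hmem x))
  have hA' : ∀ χ : B, ∃ A : ZMod (2 ^ (a + 2)) → ℕ,
      ∀ x, f χ x = ∑ l, (A l : ℂ) * stdAddChar (x * l) := by
    intro χ
    obtain ⟨n, hn⟩ := Z.phi_eq (χ : Cfsg.IrrCharacter G)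
    have hchar := Char.isCharacter_sum Finset.univ
      (fun η : Cfsg.IrrCharacter (D.subgroupOf (HH a u)) =>
        fun q : D.subgroupOf (HH a u) => (n η : ℂ) * (η : D.subgroupOf (HH a u) → ℂ) q)
      fun η _ => Char.isCharacter_natCast_smul (n η) (Char.IsIrr.isCharacter η.2)
    set g := rotD sh (Subgroup.mem_zpowers u)
    have hg : g ^ 2 ^ (a + 2) = 1 := Subtype.ext (Subtype.ext (by
      show u ^ 2 ^ (a + 2) = 1
      rw [← sh.hord, pow_orderOf_eq_one]))
    obtain ⟨A, hA⟩ := exists_fourier hchar hg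
    refine ⟨A, fun x => ?_⟩
    rw [← hA x, Finset.sum_apply]
    show Z.phi χ (rot sh (hmem x)) = _
    rw [← hn, show ((g ^ x.val : D.subgroupOf (HH a u)) : HH a u) = rot sh (hmem x) from
      Subtype.ext rfl]
  choose A hA using hA'
  have hsym : ∀ χ x, f χ (-x) = f χ x := fun χ x => by
    show Z.phi χ (rot sh (hmem (-x))) = Z.phi χ (rot sh (hmem x))
    rw [rot_congr (hy := Subgroup.inv_mem _ (hmem x)) (hinv x), Z.phi_inv _ (hmem x)]
  set h : ZMod (2 ^ (a + 2)) := ((N + 1 : ℕ) : ZMod (2 ^ (a + 2))) with hh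
  have hhval : h.val = 2 ^ (a + 1) := by
    rw [hh, ZMod.val_natCast, Nat.mod_eq_of_lt (by omega), hN]
  have hh0 : h ≠ 0 := fun h' => by
    rw [h', ZMod.val_zero] at hhval
    exact absurd hhval.symm (by positivity)
  have hself : ∀ x, x ≠ 0 → x = -x → x = h := by
    intro x hx he
    have hd : 2 ^ (a + 2) ∣ 2 * x.val := by
      rw [← ZMod.natCast_eq_zero_iff, Nat.cast_mul, ZMod.natCast_zmod_val, Nat.cast_two, two_mul]
      exact add_eq_zero_iff_eq_neg.2 he
    obtain ⟨c, hc'⟩ := hd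
    have hc : x.val = (N + 1) * c := Nat.eq_of_mul_eq_mul_left two_pos
      (hc'.trans ((congrArg (· * c) hm).trans (mul_assoc _ _ _)))
    have h1 := x.val_lt
    have h2 : x.val ≠ 0 := fun h' => hx (by rw [← ZMod.natCast_zmod_val x, h', Nat.cast_zero])
    have hc1 : c = 1 := by
      rcases c with _ | _ | c
      · omega
      · rfl
      · exfalso
        have h1' := (hc ▸ h1 : (N + 1) * (c + 1 + 1) < 2 ^ (a + 2))
        rw [hm] at h1'
        nlinarith
    rw [hc1, mul_one] at hc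
    rw [← ZMod.natCast_zmod_val x, hc]
  have hgram : ∀ x y : ZMod (2 ^ (a + 2)), x ≠ 0 → y ≠ 0 → ∑ χ, f χ x * conj (f χ y) =
      ((2 ^ (a + 2) : ℕ) : ℂ) * ((if x = y then 1 else 0) + if x = -y then 1 else 0) := by
    intro x y hx hy
    have hsub : ∀ F : Cfsg.IrrCharacter G → ℂ,
        ∑ χ : B, F χ = ∑ χ ∈ B.toFinite.toFinset, F χ := fun F =>
      (Finset.sum_subtype B.toFinite.toFinset (fun χ => B.toFinite.mem_toFinset) F).symm
    by_cases he : x = y ∨ x = -y
    · have hfy : ∀ χ, f χ y = f χ x := fun χ => by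
        rcases he with he | he
        · rw [he]
        · rw [he, hsym]
      simp only [hfy]
      rw [hsub fun χ => Z.phi χ (rot sh (hmem x)) * conj (Z.phi χ (rot sh (hmem x))),
        Z.sum_phi_self (hmem x) (hne x hx)]
      by_cases hxh : x = -x
      · obtain rfl := hself x hx hxh
        have hy' : h = y := by
          rcases he with he | he
          · exact he
          · rw [he, neg_neg] at hxh
            exact he.trans hxh
        subst hy'
        rw [if_pos rfl, if_pos hxh]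
        have e2 : rotD sh (hmem h) =
            rotD sh (Subgroup.pow_mem _ (Subgroup.mem_zpowers u) (2 ^ (a + 1))) :=
          Subtype.ext (Subtype.ext (congrArg (u ^ ·) hhval))
        rw [show Nat.card (Subgroup.centralizer
          ({rotD sh (hmem h)} : Set (D.subgroupOf (HH a u)))) = 2 ^ (a + 3) by
            rw [e2]; exact card_centralizer_zed sh]
        push_cast
        ring
      · have h3 : 3 ≤ orderOf (u ^ x.val) := by
          by_contra hlt
          have hpos := orderOf_pos (u ^ x.val)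
          rcases (show orderOf (u ^ x.val) = 1 ∨ orderOf (u ^ x.val) = 2 by omega) with h1 | h2
          · exact hne x hx (orderOf_eq_one_iff.1 h1)
          · have := pow_orderOf_eq_one (u ^ x.val)
            rw [h2, pow_two, mul_eq_one_iff_eq_inv, ← hinv] at this
            exact hxh (hinj _ _ this)
        rw [card_centralizer_rot sh (hmem x) h3]
        rcases he with he | he
        · rw [if_pos he, if_neg (by rwa [← he]), add_zero, mul_one]
        · rw [if_pos he, if_neg (fun e => hxh (by rwa [← e] at he)), zero_add, mul_one]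
    · push Not at he
      rw [if_neg he.1, if_neg he.2, add_zero, mul_zero,
        hsub fun χ => Z.phi χ (rot sh (hmem x)) * conj (Z.phi χ (rot sh (hmem y)))]
      refine Z.sum_phi_ne (hmem x) (hne x hx) (hmem y) (hne y hy) (fun e => he.1 (hinj _ _ e).symm)
        fun e => he.2 ?_
      rw [← hinv] at e
      rw [hinj _ _ e, neg_neg]
  -- the vectors
  set c : ℕ → ZMod (2 ^ (a + 2)) := fun n => (n : ZMod (2 ^ (a + 2))) with hc
  let w : B → ℤ := fun χ => (A χ h : ℤ) - A χ 0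
  let v : Fin N → B → ℤ := fun k χ => (A χ (c (k + 1)) : ℤ) - A χ 0
  have hc0 : ∀ n, 0 < n → n < 2 * (N + 1) → c n ≠ 0 := fun n h1 h2 h' => by
    rw [hc, ZMod.natCast_eq_zero_iff] at h'
    exact absurd (Nat.le_of_dvd h1 h') (by omega)
  have hceq : ∀ n n', n < 2 * (N + 1) → n' < 2 * (N + 1) → c n = c n' → n = n' := fun n n' h1 h2 h' => by
    rw [hc, ZMod.natCast_eq_natCast_iff', Nat.mod_eq_of_lt (by omega),
      Nat.mod_eq_of_lt (by omega)] at h'
    exact h'
  have hcadd : ∀ n n', n + n' < 2 * (N + 1) → 0 < n + n' → c n ≠ -c n' := fun n n' h1 h2 h' => by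
    rw [eq_neg_iff_add_eq_zero, hc, ← Nat.cast_add] at h'
    exact hc0 _ h2 h1 h'
  have hhneg : h = -h := by
    rw [eq_neg_iff_add_eq_zero, hh, ← Nat.cast_add, ZMod.natCast_eq_zero_iff, hm]
    exact ⟨1, by ring⟩
  have hww : ∑ χ, w χ * w χ = 4 := by
    rw [coeff_gram hA hgram hh0 hh0, if_pos rfl, if_pos hhneg]
    norm_num
  have hwv : ∀ k, ∑ χ, w χ * v k χ = 2 := fun k => by
    have hk := k.isLt
    have hne1 : h ≠ c (k + 1) := fun h' => by
      have := hceq (N + 1) (k + 1) (by omega) (by omega) h'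
      omega
    have hne2 : h ≠ -c (k + 1) := hcadd (N + 1) (k + 1) (by omega) (by omega)
    rw [coeff_gram hA hgram hh0 (hc0 _ (by omega) (by omega)), if_neg hne1, if_neg hne2]
    norm_num
  have hvv : ∀ k l, ∑ χ, v k χ * v l χ = if k = l then 3 else 2 := fun k l => by
    have hk := k.isLt
    have hl := l.isLt
    rw [coeff_gram hA hgram (hc0 _ (by omega) (by omega)) (hc0 _ (by omega) (by omega)),
      if_neg (show c (k + 1) ≠ -c (l + 1) from hcadd _ _ (by omega) (by omega))]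
    by_cases hkl : k = l
    · subst hkl; simp
    · rw [if_neg hkl, if_neg fun h' => hkl (Fin.ext (by
        have := hceq _ _ (by omega) (by omega) h'
        omega))]
      norm_num
  let s : Fin N → ℤ := fun k => (-1) ^ ((k : ℕ) + 1)
  let F : B → ℤ := fun χ => w χ + 2 * ∑ k, s k * v k χ
  have hFz : ∀ χ, (F χ : ℂ) = f χ h := by
    intro χ
    have hsign : ∀ n : ℕ, (stdAddChar (h * c n) : ℂ) = (-1) ^ n := by
      intro n
      have h1 : (stdAddChar h : ℂ) = -1 := by
        have h2 : (stdAddChar h : ℂ) * stdAddChar h = 1 := by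
          conv_lhs => arg 1; rw [hhneg]
          rw [← AddChar.map_add_eq_mul, neg_add_cancel, AddChar.map_zero_eq_one]
        rcases mul_self_eq_one_iff.1 h2 with h3 | h3
        · exact absurd (ZMod.injective_stdAddChar (h3.trans (AddChar.map_zero_eq_one (stdAddChar (N := 2 ^ (a + 2)))).symm)) hh0
        · exact h3
      rw [hc, mul_comm, ← nsmul_eq_mul, AddChar.map_nsmul_eq_pow, h1]
    have hsum : f χ h = ∑ n ∈ Finset.range (2 * (N + 1)),
        (((A χ (c n) : ℤ) * (-1) ^ n : ℤ) : ℂ) := by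
      rw [hA χ h]
      refine Finset.sum_nbij' (fun l => l.val) c (fun l _ => ?_) (fun _ _ => Finset.mem_univ _)
        (fun l _ => ZMod.natCast_zmod_val l) (fun n hn => ?_) fun l _ => ?_
      · rw [Finset.mem_range, ← hm]
        exact l.val_lt
      · rw [Finset.mem_range, ← hm] at hn
        exact ZMod.val_natCast_of_lt hn
      · conv_lhs => rw [← ZMod.natCast_zmod_val l]
        rw [show ((l.val : ℕ) : ZMod (2 ^ (a + 2))) = c l.val from rfl, hsign]
        push_cast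
        ring
    rw [hsum, ← Int.cast_sum]
    congr 1
    rw [sum_zmod_symm N (fun n => (A χ (c n) : ℤ) * (-1) ^ n) fun k hk => ?_]
    · have he : c (N + 1) = h := rfl
      have h0' : c 0 = 0 := Nat.cast_zero
      have hsgn : (-1 : ℤ) ^ (N + 1) = 1 := by
        rw [hj, show 2 * j + 1 + 1 = 2 * (j + 1) by ring, pow_mul]; simp
      simp only [he, h0', hsgn, pow_zero, mul_one]
      show (A χ h : ℤ) - A χ 0 + 2 * ∑ k : Fin N, (-1) ^ ((k : ℕ) + 1) *
        ((A χ (c (k + 1)) : ℤ) - A χ 0) = _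
      rw [Fin.sum_univ_eq_sum_range
        (fun k => (-1 : ℤ) ^ (k + 1) * ((A χ (c (k + 1)) : ℤ) - A χ 0)) N]
      simp only [mul_sub, Finset.sum_sub_distrib, ← Finset.sum_mul, hj, sum_neg_one_pow_succ]
      rw [Finset.sum_congr rfl fun k _ => mul_comm ((-1 : ℤ) ^ (k + 1)) _]
      ring
    · have e1 : c (N + 2 + k) = -c (N - k) := by
        rw [eq_neg_iff_add_eq_zero, hc, ← Nat.cast_add, ZMod.natCast_eq_zero_iff, hm]
        exact ⟨1, by omega⟩
      have e2 : (-1 : ℤ) ^ (N + 2 + k) = (-1) ^ (N - k) := by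
        rw [show N + 2 + k = N - k + 2 * (k + 1) by omega, pow_add, pow_mul]
        simp
      rw [e1, coeff_neg hA hsym, e2]
  -- heights
  let ht : B → ℕ := fun χ => Cfsg.blockHeight 2 B ((χ : Cfsg.IrrCharacter G) : G → ℂ)
  have hrotz : ∀ χ : B, Z.phi χ (rotz sh) = (F χ : ℂ) := fun χ => by
    rw [hFz]
    exact congrArg (Z.phi χ) (Subtype.ext (congrArg (u ^ ·) hhval).symm)
  have hspec : ∀ χ ψ : B, ∃ k : ℤ, F χ * F ψ = ((2 ^ ht χ : ℕ) : ℤ) * k ∧
      (Even k ↔ ht ψ ≠ 0) := by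
    intro χ ψ
    obtain ⟨z, hz, he, hiff⟩ := Z.height_spec χ.2 ψ.2
    rw [hrotz, hrotz, map_intCast] at he
    have hpne : ((2 ^ ht χ : ℕ) : ℂ) ≠ 0 := Nat.cast_ne_zero.2 (pow_ne_zero _ two_ne_zero)
    obtain ⟨k, hk⟩ := Blocks.exists_int_of_isIntegral_rat hz
      (((F χ * F ψ : ℤ) : ℚ) / ((2 ^ ht χ : ℕ) : ℚ)) (by
        push_cast at he hpne ⊢
        rw [eq_div_iff hpne, he, mul_comm])
    subst hk
    refine ⟨k, ?_, ?_⟩
    · exact_mod_cast he
    · rw [even_iff_two_dvd]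
      exact ((memLocalIdeal_intCast_iff hM k).symm.trans hiff)
  obtain ⟨χ₀, hχ₀, h00⟩ := BlockThms.exists_height_zero hM hmax.1.2.1
  set ψ₀ : B := ⟨χ₀, hχ₀⟩
  have hψ₀ : ht ψ₀ = 0 := h00
  have hFψ : Odd (F ψ₀) := by
    obtain ⟨k, hk, hiff⟩ := hspec ψ₀ ψ₀
    rw [hψ₀, pow_zero, Nat.cast_one, one_mul] at hk
    have : ¬ Even (F ψ₀ * F ψ₀) := by rw [hk]; exact fun h' => hiff.1 h' hψ₀
    rw [Int.not_even_iff_odd, Int.odd_mul] at this
    exact this.1
  have hkey : ∀ χ, ∃ k : ℤ, Odd k ∧ F χ * F ψ₀ = ((2 ^ ht χ : ℕ) : ℤ) * k := fun χ => by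
    obtain ⟨k, hk, hiff⟩ := hspec χ ψ₀
    exact ⟨k, Int.not_even_iff_odd.1 fun h' => hiff.1 h' hψ₀, hk⟩
  have hF0 : ∀ χ, F χ ≠ 0 := fun χ h' => by
    obtain ⟨k, hk, he⟩ := hkey χ
    rw [h', zero_mul, eq_comm, mul_eq_zero] at he
    rcases he with he | he
    · exact absurd (Int.natCast_eq_zero.1 he) (by positivity)
    · simp [he] at hk
  have hodd : ∀ χ, Odd (F χ) ↔ ht χ = 0 := fun χ => by
    obtain ⟨k, hk, he⟩ := hkey χ
    have h1 : Odd (F χ * F ψ₀) ↔ Odd (F χ) := by simp [Int.odd_mul, hFψ]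
    rw [← h1, he, Int.odd_mul]
    simp only [hk, and_true, Nat.cast_pow]
    rcases Nat.eq_zero_or_pos (ht χ) with h' | h'
    · simp [h']
    · simp [h'.ne', parity_simps]
  have hdvd : ∀ χ, ((2 ^ ht χ : ℕ) : ℤ) ∣ F χ := fun χ => by
    obtain ⟨k, -, he⟩ := hkey χ
    have hco : IsCoprime (((2 ^ ht χ : ℕ) : ℤ)) (F ψ₀) := by
      push_cast
      refine IsCoprime.pow_left ?_
      obtain ⟨q, hq⟩ := hFψ
      exact ⟨-q, 1, by rw [hq]; ring⟩
    exact hco.dvd_of_dvd_mul_right ⟨k, he⟩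
  have hnorm : ∑ χ, F χ * F χ = 4 * ((N : ℤ) + 1) := by
    have h1 := hgram h h hh0 hh0
    rw [if_pos rfl, if_pos hhneg] at h1
    simp only [← hFz, map_intCast] at h1
    have h2 : ((∑ χ, F χ * F χ : ℤ) : ℂ) = ((4 * ((N : ℤ) + 1) : ℤ) : ℂ) := by
      push_cast
      rw [h1, hm]
      push_cast
      ring
    exact_mod_cast h2
  obtain ⟨hfour, hor⟩ := counting ⟨a, hN.symm⟩ ht F w v s hww hwv hvv (fun χ => rfl) hF0 hodd hdvd
    hnorm ⟨ψ₀, hψ₀⟩
  refine ⟨?_, ?_⟩
  · rw [← hfour, ← Fintype.card_subtype, ← Nat.card_eq_fintype_card]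
    exact Nat.card_congr
      { toFun := fun χ => ⟨⟨χ.1, χ.2.1⟩, χ.2.2⟩
        invFun := fun χ => ⟨χ.1.1, χ.1.2, χ.2⟩
        left_inv := fun χ => rfl
        right_inv := fun χ => rfl }
  · rw [← Nat.card_eq_fintype_card] at hor
    rcases hor with ⟨h1, h2⟩ | ⟨h1, h2⟩
    · exact Or.inl ⟨by omega, fun χ hχ => h2 ⟨χ, hχ⟩⟩
    · refine Or.inr ⟨?_, h2⟩
      rcases a with _ | _ | a
      · norm_num at hN; omega
      · rfl
      · have : 2 ^ 3 ≤ 2 ^ (a + 2 + 1) := Nat.pow_le_pow_right two_pos (by omega)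
        omega

end Zed

end Cfsg.Agent.Blocks.Dihedral
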