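import Cfsg.Agent.Blocks.Dihedral.Shape
import Cfsg.Agent.Blocks.Star.NilpotentMain
import Cfsg.Agent.BlockChar.Cyclic.Tee
import Cfsg.Agent.BrauerPairs.Nilpotent

/-!
# The subsections of a block with dihedral defect group

The block at the central involution is nilpotent, the subsections of the rotations lie in the
centralizer of the involution, and only inverse rotations are fused.
-/

set_option autoImplicit false

namespace Cfsg.Agent.Blocks.Dihedral

open Cfsg.Agent Cfsg.Agent.Blocks Cfsg.Agent.Blocks.Star Cfsg.Agent.BrauerPairs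

universe u

attribute [local instance] Fintype.ofFinite

variable {G : Type u} [Group G]

local notation "CG[" Q "]" => Subgroup.centralizer ((Q : Subgroup G) : Set G)
local notation "sbc" => Cfsg.subgroupBlockCoeff

/-- A normal step between subgroups of `L` with centralizers in `L` is a normal step of `L`. -/
theorem isNormalSubpair_res [Finite G] {p : ℕ} {M : Ideal Cfsg.AlgInt} (hM : Cfsg.IsPModular p M)
    {L R A : Subgroup G} (hRL : R ≤ L) (hCR : CG[R] ≤ L) (hAL : A ≤ L) (hCA : CG[A] ≤ L)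
    {r : Set (Cfsg.IrrCharacter CG[R])} {g : Set (Cfsg.IrrCharacter CG[A])}
    (h : Cfsg.IsNormalSubpair p M R r A g) :
    Cfsg.IsNormalSubpair p M (R.subgroupOf L) (resBlock hRL hCR r) (A.subgroupOf L)
      (resBlock hAL hCA g) := by
  refine ⟨⟨h.1.1.comap_of_injective _ (Subgroup.subtype_injective L),
      isPBlock_resBlock hRL hCR h.1.2⟩,
    ⟨h.2.1.1.comap_of_injective _ (Subgroup.subtype_injective L),
      isPBlock_resBlock hAL hCA h.2.1.2⟩,
    fun x hx => Subgroup.mem_subgroupOf.2 (h.2.2.1 (Subgroup.mem_subgroupOf.1 hx)),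
    le_normalizer_subgroupOf h.2.2.2.1, ?_, fun ξ hξ => ?_⟩
  · have hinv := isInv_of_stabilizes hM h.2.2.2.1 h.1.2 h.2.2.2.2.1
    refine stabilizes_of_isInv hM (le_normalizer_subgroupOf h.2.2.2.1)
      (isPBlock_resBlock hRL hCR h.1.2) fun k hk x => ?_
    rw [sbc_resBlock, sbc_resBlock]
    exact hinv (k : G) (Subgroup.mem_subgroupOf.1 hk) (x : G)
  · have h1 := h.2.2.2.2.2 (compIrr (centIso hAL hCA).symm ξ) hξ
    rw [← brauerOmega_res hAL hCA] at h1
    rw [show Cfsg.subgroupBlockCoeff _ (resBlock hRL hCR r) = fun t : L => sbc CG[R] r (t : G) from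
      funext fun t => sbc_resBlock hRL hCR r t]
    convert h1 using 3
    funext c
    simp [compIrr_apply]

/-- In a cyclic group elements of the same order generate the same subgroup. -/
theorem mem_zpowers_of_orderOf_eq [Finite G] {u x y : G} (hx : x ∈ Subgroup.zpowers u)
    (hy : y ∈ Subgroup.zpowers u) (h : orderOf y = orderOf x) : y ∈ Subgroup.zpowers x := by
  classical
  set S := Finset.univ.filter fun w : Subgroup.zpowers u => w ^ orderOf x = 1
  set T := Finset.univ.filter fun w : Subgroup.zpowers u => (w : G) ∈ Subgroup.zpowers x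
  have hTS : T ⊆ S := fun w hw => by
    refine Finset.mem_filter.2 ⟨Finset.mem_univ _, Subtype.ext ?_⟩
    obtain ⟨i, hi⟩ := (Finset.mem_filter.1 hw).2
    rw [Subgroup.coe_pow, ← hi, Subgroup.coe_one, ← zpow_natCast, ← zpow_mul, mul_comm,
      zpow_mul, zpow_natCast, pow_orderOf_eq_one, one_zpow]
  have hT : T.card = orderOf x := by
    rw [← Nat.card_zpowers, Nat.card_eq_fintype_card, ← Finset.card_univ]
    refine Finset.card_bij (fun w hw => ⟨(w : G), (Finset.mem_filter.1 hw).2⟩)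
      (fun w _ => Finset.mem_univ _)
      (fun w _ w' _ e => Subtype.ext (congrArg (fun z : Subgroup.zpowers x => (z : G)) e))
      fun z _ => ⟨⟨(z : G), Subgroup.zpowers_le.2 hx z.2⟩,
        Finset.mem_filter.2 ⟨Finset.mem_univ _, z.2⟩, rfl⟩
  have heq : T = S := Finset.eq_of_subset_of_card_le hTS
    (hT ▸ IsCyclic.card_pow_eq_one_le (orderOf_pos x))
  have hmem : (⟨y, hy⟩ : Subgroup.zpowers u) ∈ S := by
    refine Finset.mem_filter.2 ⟨Finset.mem_univ _, Subtype.ext ?_⟩
    rw [Subgroup.coe_pow, ← h]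
    exact pow_orderOf_eq_one y
  rw [← heq] at hmem
  exact (Finset.mem_filter.1 hmem).2

variable [Finite G] {M : Ideal Cfsg.AlgInt} {B : Set (Cfsg.IrrCharacter G)} {D : Subgroup G}
  {e₀ : Set (Cfsg.IrrCharacter (Subgroup.centralizer (D : Set G)))} {a : ℕ} {u t : G}

/-- The central involution of the dihedral group. -/
abbrev zed (a : ℕ) (u : G) : G := u ^ 2 ^ (a + 1)

/-- Its centralizer. -/
abbrev HH (a : ℕ) (u : G) : Subgroup G := CG[Subgroup.zpowers (zed a u)]

omit [Finite G] in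
theorem le_HH (sh : Shape D a u t) : D ≤ HH a u := fun _ hq =>
  mem_zpowers_centralizer.2 (sh.z_comm hq)

omit [Finite G] in
theorem centralizer_le_HH (sh : Shape D a u t) : CG[D] ≤ HH a u :=
  centralizer_mono (Subgroup.zpowers_le.2 sh.z_mem)

omit [Finite G] in
theorem centralizer_zpowers_le_HH (sh : Shape D a u t) {x : G} (hx : x ∈ Subgroup.zpowers u)
    (hx1 : x ≠ 1) : CG[Subgroup.zpowers x] ≤ HH a u :=
  centralizer_mono (Subgroup.zpowers_le.2 (sh.z_mem_zpowers hx hx1))

omit [Finite G] in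
theorem zpowers_le_HH (sh : Shape D a u t) {x : G} (hx : x ∈ Subgroup.zpowers u) :
    Subgroup.zpowers x ≤ HH a u :=
  Subgroup.zpowers_le.2 (le_HH sh (sh.zpowers_le hx))

/-- The pair of a rotation is normal in the maximal pair. -/
theorem isNormalSubpair_rot (hM : Cfsg.IsPModular 2 M) (hmax : Cfsg.IsMaximalBrauerPair 2 M B D e₀)
    (sh : Shape D a u t) {x : G} (hx : x ∈ Subgroup.zpowers u)
    {b : Set (Cfsg.IrrCharacter CG[Subgroup.zpowers x])}
    (hb : Cfsg.SubpairLE 2 M (Subgroup.zpowers x) b D e₀) :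
    Cfsg.IsNormalSubpair 2 M (Subgroup.zpowers x) b D e₀ := by
  obtain ⟨g, hg, hgle⟩ := exists_normalSubpair_between hM hmax.1.1 hb
    (Subgroup.zpowers_le.2 (sh.zpowers_le hx)) le_rfl fun q hq => sh.zpowers_normal hq hx
  rwa [(existsUnique_subpairLE hM hmax.1.1 (le_refl D)).unique hgle
    Relation.ReflTransGen.refl] at hg

theorem maximal_HH (hM : Cfsg.IsPModular 2 M) (hmax : Cfsg.IsMaximalBrauerPair 2 M B D e₀)
    (sh : Shape D a u t) {b : Set (Cfsg.IrrCharacter (HH a u))}
    (hb : Cfsg.SubpairLE 2 M (Subgroup.zpowers (zed a u)) b D e₀) :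
    Cfsg.IsMaximalBrauerPair 2 M b (D.subgroupOf (HH a u))
      (resBlock (le_HH sh) (centralizer_le_HH sh) e₀) :=
  BlockChar.Cyclic.maximal_local hM hmax
    (isNormalSubpair_rot hM hmax sh (Subgroup.pow_mem _ (Subgroup.mem_zpowers u) _) hb)
    (le_HH sh) (centralizer_le_HH sh)

/-- The block at the central involution is nilpotent. -/
theorem nilpotent_HH (hM : Cfsg.IsPModular 2 M) (hmax : Cfsg.IsMaximalBrauerPair 2 M B D e₀)
    (sh : Shape D a u t) {b : Set (Cfsg.IrrCharacter (HH a u))}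
    (hb : Cfsg.SubpairLE 2 M (Subgroup.zpowers (zed a u)) b D e₀) :
    Cfsg.IsNilpotentBlock 2 M b := by
  haveI := Fact.mk hM.1
  have hmaxH := maximal_HH hM hmax sh hb
  refine ⟨hmaxH.1.2.1, fun R r hR x hxN hst hreg => ?_⟩
  obtain ⟨h, hh⟩ := exists_conj_subpairLE hM hmaxH hR
  have hle : R.map (MulAut.conj h).toMonoidHom ≤ D.subgroupOf (HH a u) :=
    BlockChar.le_of_subpairLE hh
  set Q := (R.map (MulAut.conj h).toMonoidHom).map (HH a u).subtype with hQ
  have hQD : Q ≤ D := by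
    rintro _ ⟨q, hq, rfl⟩
    exact Subgroup.mem_subgroupOf.1 (hle hq)
  set y : HH a u := h * x * h⁻¹ with hy
  have hreg' : ¬ 2 ∣ orderOf (y : G) := by
    rw [Subgroup.orderOf_coe, hy, show orderOf (h * x * h⁻¹) = orderOf x from
      orderOf_injective (MulAut.conj h).toMonoidHom (MulAut.conj h).injective x]
    exact hreg
  have hyN : (y : G) ∈ Subgroup.normalizer (Q : Set G) := by
    have hyR : y ∈ Subgroup.normalizer ((R.map (MulAut.conj h).toMonoidHom : Subgroup (HH a u)) :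
        Set (HH a u)) := (mem_normalizer_map_conj_iff R h x).1 hxN
    refine Subgroup.mem_normalizer_iff.2 fun q => ⟨?_, ?_⟩
    · rintro ⟨r', hr', rfl⟩
      exact ⟨y * r' * y⁻¹, (Subgroup.mem_normalizer_iff.1 hyR r').1 hr', rfl⟩
    · rintro ⟨r', hr', he⟩
      refine ⟨y⁻¹ * r' * y, (Subgroup.mem_normalizer_iff''.1 hyR r').1 hr', ?_⟩
      show (y : G)⁻¹ * (r' : G) * (y : G) = q
      rw [show (r' : G) = (y : G) * q * (y : G)⁻¹ from he]
      group
  have hyC := sh.mem_centralizer_of_odd hQD hreg' hyN (mem_zpowers_centralizer.1 y.2)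
  refine Subgroup.mem_centralizer_iff.2 fun r' hr' => Subtype.ext ?_
  have h1 := Subgroup.mem_centralizer_iff.1 hyC ((h * r' * h⁻¹ : HH a u) : G)
    ⟨h * r' * h⁻¹, ⟨r', hr', rfl⟩, rfl⟩
  have h2 : h * r' * h⁻¹ * y = y * (h * r' * h⁻¹) := Subtype.ext h1
  have h3 : r' * x = x * r' := by
    have e1 : r' * x = h⁻¹ * (h * r' * h⁻¹ * y) * h := by rw [hy]; group
    have e2 : x * r' = h⁻¹ * (y * (h * r' * h⁻¹)) * h := by rw [hy]; group
    rw [e1, e2, h2]
  exact congrArg Subtype.val h3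

/-- The subsection of a rotation inside the centralizer of the involution. -/
theorem below_HH (hM : Cfsg.IsPModular 2 M) (hmax : Cfsg.IsMaximalBrauerPair 2 M B D e₀)
    (sh : Shape D a u t) {x : G} (hx : x ∈ Subgroup.zpowers u) (hx1 : x ≠ 1)
    {b : Set (Cfsg.IrrCharacter CG[Subgroup.zpowers x])}
    (hb : Cfsg.SubpairLE 2 M (Subgroup.zpowers x) b D e₀) :
    Below 2 M (D.subgroupOf (HH a u)) (resBlock (le_HH sh) (centralizer_le_HH sh) e₀)
      ⟨x, zpowers_le_HH sh hx (Subgroup.mem_zpowers x)⟩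
      (fun g : HH a u => sbc CG[Subgroup.zpowers x] b (g : G)) := by
  have h := isNormalSubpair_res hM (zpowers_le_HH sh hx) (centralizer_zpowers_le_HH sh hx hx1)
    (le_HH sh) (centralizer_le_HH sh) (isNormalSubpair_rot hM hmax sh hx hb)
  refine below_of_pair (a := ⟨(Subgroup.zpowers x).subgroupOf (HH a u),
    resBlock (zpowers_le_HH sh hx) (centralizer_zpowers_le_HH sh hx hx1) b⟩) ?_
    (Relation.ReflTransGen.single h) fun g => sbc_resBlock _ _ _ g
  ext g
  refine Subgroup.mem_subgroupOf.trans ⟨fun hg => ?_, fun hg => ?_⟩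
  · obtain ⟨i, hi⟩ := hg
    exact ⟨i, Subtype.ext (by simpa using hi)⟩
  · obtain ⟨i, hi⟩ := hg
    exact ⟨i, by simpa using congrArg Subtype.val hi⟩

/-- Fused rotations are inverse or equal. -/
theorem fusion_rot (hM : Cfsg.IsPModular 2 M) (hmax : Cfsg.IsMaximalBrauerPair 2 M B D e₀)
    (sh : Shape D a u t) {x g : G} {e : G → ℂ} (hx : x ∈ Subgroup.zpowers u)
    (hgx : g * x * g⁻¹ ∈ Subgroup.zpowers u) (h : Below 2 M D e₀ x e)
    (hg : Below 2 M D e₀ (g * x * g⁻¹) (conjF g e)) :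
    g * x * g⁻¹ = x ∨ g * x * g⁻¹ = x⁻¹ := by
  haveI := Fact.mk hM.1
  have hord : orderOf (g * x * g⁻¹) = orderOf x :=
    orderOf_injective (MulAut.conj g).toMonoidHom (MulAut.conj g).injective x
  set Q := Subgroup.zpowers x with hQ
  haveI : IsCyclic (Subgroup.zpowers u) := inferInstance
  -- the image is the same subgroup
  have hQeq : Subgroup.zpowers (g * x * g⁻¹) = Q := le_antisymm
    (Subgroup.zpowers_le.2 (mem_zpowers_of_orderOf_eq hx hgx hord))
    (Subgroup.zpowers_le.2 (mem_zpowers_of_orderOf_eq hgx hx hord.symm))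
  have hgN : g ∈ Subgroup.normalizer (Q : Set G) := by
    have hmap : Q.map (MulAut.conj g).toMonoidHom = Q := by
      rw [hQ, map_zpowers_conj, hQeq]
    refine Subgroup.mem_normalizer_iff.2 fun q => ⟨fun hq => hmap ▸ ⟨q, hq, rfl⟩, fun hq => ?_⟩
    rw [← hmap] at hq
    obtain ⟨r, hr, hre⟩ := hq
    rwa [← (MulAut.conj g).injective hre]
  obtain ⟨F, hF⟩ := exists_isBlockFusionSystemOn hM hmax
  have hQD : Q ≤ D := Subgroup.zpowers_le.2 (sh.zpowers_le hx)
  -- the automorphism induced by `g`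
  set α := Q.normalizerMonoidHom ⟨g, hgN⟩ with hα
  have hαg : ∀ q ∈ Q, FusSys.apl α q = g * q * g⁻¹ := fun q hq =>
    FusSys.apl_normalizerMonoidHom ⟨g, hgN⟩ hq
  have hαF : α ∈ F.autGroup Q := by
    refine Subgroup.subset_closure ?_
    obtain ⟨b, hb, hbe⟩ := h
    rw [← hbe] at hg
    exact (hF.2 _ _).2 ⟨hQD, g, fun q => rfl, BlockChar.le_of_subpairLE ((below_conj_iff b).1 hg),
      b, hb, (below_conj_iff b).1 hg⟩
  have hfn : F.IsFullyNormalized Q := by
    refine ⟨hQD, fun R _ => Subgroup.card_le_of_le ?_⟩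
    exact fun q hq => ⟨hq.1, sh.zpowers_normal hq.1 hx⟩
  obtain ⟨-, S, hS⟩ := FusSys.fullyAutomized_of_fullyNormalized hmax.1.1.1
    (isSaturated_blockFusion hM hmax hF) hfn
  -- automorphisms of a cyclic two-group form a two-group
  have hAut : IsPGroup 2 (MulAut Q) := by
    obtain ⟨k, hk⟩ := sh.exists_orderOf (sh.zpowers_le hx)
    refine IsPGroup.of_card (n := k - 1) ?_
    rw [IsCyclic.card_mulAut, Nat.card_zpowers, hk]
    rcases Nat.eq_zero_or_pos k with rfl | hk0
    · simp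
    · rw [Nat.totient_prime_pow Nat.prime_two hk0]; simp
  have htop : (S : Subgroup (F.autGroup Q)) = ⊤ :=
    S.3 ((hAut.to_subgroup (F.autGroup Q)).to_subgroup ⊤) le_top |>.symm
  have hmem : (⟨α, hαF⟩ : F.autGroup Q) ∈ (S : Subgroup (F.autGroup Q)) := by
    rw [htop]; exact Subgroup.mem_top _
  rw [hS] at hmem
  obtain ⟨d, hd, -, hdα⟩ := FusSys.mem_autInducedBy_iff.1 (Subgroup.mem_subgroupOf.1 hmem)
  have h2 := hdα x (Subgroup.mem_zpowers x)
  rw [hαg x (Subgroup.mem_zpowers x)] at h2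
  rcases sh.conj_mem_pow hd hx with ⟨-, e1⟩ | ⟨-, e1⟩
  · exact Or.inl (h2.trans e1)
  · exact Or.inr (h2.trans e1)

end Cfsg.Agent.Blocks.Dihedral
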