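import Cfsg.Agent.BlockChar.ResidueRank
import Cfsg.Agent.Blocks.Dihedral.Corner

/-!
# A trace of a block algebra on a fourth power

For a block with one Brauer character and at most five characters, no function in the block
separates the fourth power of a nilpotent element when projective modules are large.
-/

set_option autoImplicit false

namespace Cfsg.Agent.Blocks.Dihedral

open scoped ComplexConjugate
open Module Cfsg.Agent Cfsg.Agent.Blocks Cfsg.Agent.BlockChar Cfsg.Agent.BlockChar.ResidueBlock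

universe u

attribute [local instance] Ideal.Quotient.field

set_option maxHeartbeats 4000000
set_option synthInstance.maxHeartbeats 400000

/-- In characteristic two taking fourth powers respects differences with one. -/
theorem sub_one_pow_four {k A : Type*} [Field k] [CharP k 2] [Ring A] [Algebra k A] (U : A) :
    (U - 1) ^ 4 = U ^ 4 - 1 := by
  have : Fact (Nat.Prime 2) := ⟨Nat.prime_two⟩
  have h := congrArg (Polynomial.aeval U)
    (show (Polynomial.X - 1 : Polynomial k) ^ (2 ^ 2) = Polynomial.X ^ (2 ^ 2) - 1 by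
      rw [sub_pow_char_pow (p := 2) (n := 2), one_pow])
  simp only [map_pow, map_sub, Polynomial.aeval_X, map_one] at h
  norm_num at h
  exact h

variable {G : Type u} [Group G] [Fintype G] {p : ℕ} {M : Ideal Cfsg.AlgInt}

open scoped Classical in
/-- A block of rank one with at most five characters and large projective modules has no function
which is non-zero at a fourth power and vanishes at its regular part. -/
theorem false_of_residue_trace [Fact p.Prime] (hM : Cfsg.IsPModular p M) (hp2 : p = 2)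
    {B : Set (Cfsg.IrrCharacter G)} (hB : Cfsg.IsPBlock M B) (hl : Cfsg.blockRank p B = 1)
    (hk : Nat.card B ≤ 5)
    (hnum : ∀ n dA : ℕ, ∑ χ ∈ B.toFinite.toFinset, Cfsg.charDegree (χ : G → ℂ) ^ 2 = n ^ 2 * dA →
      p ^ (Nat.card G).factorization p ∣ n * dA → 6 ≤ dA)
    (F : G → ℂ) (hFR : ∀ g, Cfsg.MemLocalRing M (F g)) (hFc : Cfsg.IsClassFunction G F)
    (hFa : ∀ g, ∑ h, Cfsg.blockCoeff B h * F (h * g) = F g)
    {u y : G} {j : ℕ} (hu : u ^ 2 ^ j = 1) (huy : Commute u y)
    (hval : resFun hM (F (u ^ 4 * y ^ 4)) ≠ resFun hM (F (y ^ 4))) : False := by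
  have : M.IsMaximal := hM.2.1
  have := BlockThms.OrderP.isAlgClosed_residue (M := M)
  set a := Cfsg.blockCoeff B with ha
  have haR : ∀ g, Cfsg.MemLocalRing M (a g) := memLocalRing_blockCoeff hM hB
  have hac : Cfsg.IsClassFunction G a := isClassFunction_blockCoeff B
  have haa : conv a a = a := blockCoeff_conv B
  set ε := res hM a with hε
  have hεε : ε * ε = ε := by rw [hε, ← res_conv hM haR haR, haa]
  have hεc : ∀ x, ε * x = x * ε := by
    intro x
    induction x using MonoidAlgebra.induction_on with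
    | of g =>
      refine MonoidAlgebra.coeff_injective (Finsupp.ext fun z => ?_)
      simp only [MonoidAlgebra.of_apply, MonoidAlgebra.coeff_single_mul_apply,
        MonoidAlgebra.coeff_mul_single_apply, hε, coeff_res, one_mul, mul_one]
      rw [← hac (g⁻¹ * z) g]
      congr 2
      group
    | add x y hx hy => rw [mul_add, add_mul, hx, hy]
    | smul r x hx => rw [mul_smul_comm, smul_mul_assoc, hx]
  -- lifts
  have hliftε : ∀ x, (∀ g, Cfsg.MemLocalRing M (conv a (lift x) g)) ∧
      res hM (conv a (lift x)) = ε * x := fun x =>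
    ⟨memLocalRing_conv hM haR (memLocalRing_lift hM x), by
      rw [res_conv hM haR (memLocalRing_lift hM x), res_lift, hε]⟩
  have hliftε' : ∀ x, (∀ g, Cfsg.MemLocalRing M ((lift x - conv a (lift x)) g)) ∧
      ∀ g, resFun hM ((lift x - conv a (lift x)) g) = (x - ε * x).coeff g := fun x => by
    have h1 := fun g => memLocalRing_lift hM x g
    have h2 := (hliftε x).1
    refine ⟨fun g => (localRing hM).sub_mem (h1 g) (h2 g), fun g => ?_⟩
    have h3 : resFun hM (lift x g - conv a (lift x) g) + resFun hM (conv a (lift x) g) =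
        resFun hM (lift x g) := by
      rw [← resFun_add hM ((localRing hM).sub_mem (h1 g) (h2 g)) (h2 g), sub_add_cancel]
    rw [Pi.sub_apply, MonoidAlgebra.coeff_sub, Finsupp.sub_apply, eq_sub_iff_add_eq]
    rw [← (hliftε x).2, coeff_res, h3, ← coeff_res hM (lift x) g, res_lift]
  -- dimension of the block algebra
  set P := convMap a with hP
  have hPP : ∀ f, P (P f) = P f := fun f => by
    show conv a (conv a f) = conv a f
    rw [conv_assoc, haa]
  have hproj : LinearMap.IsProj (LinearMap.range P) P :=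
    ⟨fun f => ⟨f, rfl⟩, fun f ⟨f', hf'⟩ => by rw [← hf', hPP]⟩
  set D := Module.finrank ℂ (LinearMap.range P) with hD
  have hDsum : D = ∑ χ ∈ B.toFinite.toFinset, Cfsg.charDegree (χ : G → ℂ) ^ 2 := by
    have h1 := hproj.trace
    rw [hP, trace_convMap, ha, Cfsg.blockCoeff, finsum_mem_eq_finite_toFinset_sum _ B.toFinite,
      ← mul_assoc, mul_inv_cancel₀ (Nat.cast_ne_zero.2 Nat.card_pos.ne'), one_mul] at h1
    have h2 : ∀ χ : Cfsg.IrrCharacter G, (χ : G → ℂ) 1 * conj ((χ : G → ℂ) 1) =
        ((Cfsg.charDegree (χ : G → ℂ) ^ 2 : ℕ) : ℂ) := fun χ => by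
      rw [(CharArith.irr_degree_spec χ).1, Complex.conj_natCast, Nat.cast_pow, sq]
    simp only [h2, ← Nat.cast_sum] at h1
    rw [hD, hP]
    exact_mod_cast h1.symm
  let L : MonoidAlgebra (Cfsg.AlgInt ⧸ M) G →ₗ[Cfsg.AlgInt ⧸ M]
      MonoidAlgebra (Cfsg.AlgInt ⧸ M) G := LinearMap.mulLeft _ ε
  have hL : ∀ x, L x = ε * x := fun _ => rfl
  have hdimA : Module.finrank (Cfsg.AlgInt ⧸ M) (MonoidAlgebra (Cfsg.AlgInt ⧸ M) G) =
      Fintype.card G :=
    Module.finrank_eq_card_basis (Finsupp.basisSingleOne.map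
      (MonoidAlgebra.coeffLinearEquiv _).symm)
  have hr1 : Module.finrank (Cfsg.AlgInt ⧸ M) (LinearMap.range L) ≤ D :=
    finrank_le_of_lifts hM _ _ (by
      rintro _ ⟨y, rfl⟩
      refine ⟨conv a (lift y), ⟨lift y, rfl⟩, (hliftε y).1, fun g => ?_⟩
      rw [← coeff_res, (hliftε y).2, hL])
  have hr2 : Module.finrank (Cfsg.AlgInt ⧸ M) (LinearMap.ker L) ≤
      Module.finrank ℂ (LinearMap.ker P) :=
    finrank_le_of_lifts hM _ _ (fun x hx => by
      refine ⟨lift x - conv a (lift x), ?_, (hliftε' x).1, fun g => ?_⟩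
      · rw [LinearMap.mem_ker, map_sub]
        show P (lift x) - P (P (lift x)) = 0
        rw [hPP, sub_self]
      · rw [(hliftε' x).2, ← hL, LinearMap.mem_ker.1 hx, sub_zero])
  have hrange : Module.finrank (Cfsg.AlgInt ⧸ M) (LinearMap.range L) = D := by
    have h1 := LinearMap.finrank_range_add_finrank_ker L
    have h2 := LinearMap.finrank_range_add_finrank_ker P
    rw [Module.finrank_fintype_fun_eq_card] at h2
    omega
  -- the block algebra
  set I : Ideal (MonoidAlgebra (Cfsg.AlgInt ⧸ M) G) := Ideal.span {1 - ε} with hI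
  have hmem : ∀ x, x ∈ I ↔ ε * x = 0 := by
    intro x
    rw [hI, Ideal.span, Submodule.mem_span_singleton]
    constructor
    · rintro ⟨r, rfl⟩
      rw [smul_eq_mul, ← mul_assoc, hεc r, mul_assoc, mul_sub, mul_one, hεε, sub_self, mul_zero]
    · intro h
      exact ⟨x, by rw [smul_eq_mul, mul_sub, mul_one, ← hεc, h, sub_zero]⟩
  have : I.IsTwoSided := ⟨fun {x} y hx => (hmem _).2 (by rw [← mul_assoc, (hmem x).1 hx, zero_mul])⟩
  set A := MonoidAlgebra (Cfsg.AlgInt ⧸ M) G ⧸ I with hA
  let π : MonoidAlgebra (Cfsg.AlgInt ⧸ M) G →ₐ[Cfsg.AlgInt ⧸ M] A := Ideal.Quotient.mkₐ _ I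
  have hπs : Function.Surjective π := Ideal.Quotient.mkₐ_surjective _ I
  have hπker : ∀ x, π x = 0 ↔ ε * x = 0 := fun x => by
    rw [← hmem]; exact Ideal.Quotient.eq_zero_iff_mem
  have hkerle : LinearMap.ker π.toLinearMap ≤ LinearMap.ker L := fun x hx =>
    LinearMap.mem_ker.2 ((hπker x).1 (LinearMap.mem_ker.1 hx))
  choose sec hsec using hπs
  let ψ : A →ₗ[Cfsg.AlgInt ⧸ M] MonoidAlgebra (Cfsg.AlgInt ⧸ M) G :=
    { toFun := fun b => ε * sec b
      map_add' := fun b b' => by
        have := (hπker (sec (b + b') - (sec b + sec b'))).1 (by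
          rw [map_sub, map_add, hsec, hsec, hsec, sub_self])
        rw [mul_sub, sub_eq_zero] at this
        rw [this, mul_add]
      map_smul' := fun c b => by
        have := (hπker (sec (c • b) - c • sec b)).1 (by
          rw [map_sub, map_smul, hsec, hsec, sub_self])
        rw [mul_sub, sub_eq_zero] at this
        rw [this, RingHom.id_apply, mul_smul_comm] }
  have hψπ : ∀ x, ψ (π x) = ε * x := fun x => by
    have := (hπker (sec (π x) - x)).1 (by rw [map_sub, hsec, sub_self])
    rwa [mul_sub, sub_eq_zero] at this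
  have hψmul : ∀ b b', ψ (b * b') = ψ b * ψ b' := fun b b' => by
    conv_lhs => rw [← hsec b, ← hsec b', ← map_mul, hψπ]
    show _ = ε * sec b * (ε * sec b')
    rw [mul_assoc ε (sec b), ← mul_assoc (sec b), ← hεc (sec b), mul_assoc ε (sec b),
      ← mul_assoc ε ε, hεε]
  have hψinj : Function.Injective ψ := (injective_iff_map_eq_zero _).2 fun b hb => by
    rw [← hsec b]; exact (hπker _).2 hb
  have hψrange : LinearMap.range ψ = LinearMap.range L := by
    refine le_antisymm ?_ ?_
    · rintro _ ⟨b, rfl⟩; exact ⟨sec b, rfl⟩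
    · rintro _ ⟨x, rfl⟩; exact ⟨π x, hψπ x⟩
  have hdimB : Module.finrank (Cfsg.AlgInt ⧸ M) A = D := by
    rw [← LinearMap.finrank_range_of_inj hψinj, hψrange, hrange]
  -- the centre
  let Z : Submodule (Cfsg.AlgInt ⧸ M) (MonoidAlgebra (Cfsg.AlgInt ⧸ M) G) :=
    (Subalgebra.center (Cfsg.AlgInt ⧸ M) (MonoidAlgebra (Cfsg.AlgInt ⧸ M) G)).toSubmodule
  have hZmem : ∀ x, x ∈ Z ↔ ∀ y, y * x = x * y := fun x =>
    Subalgebra.mem_center_iff (R := Cfsg.AlgInt ⧸ M) (a := x)
  have hψcenter : (Subalgebra.center (Cfsg.AlgInt ⧸ M) A).toSubmodule.map ψ =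
      Z ⊓ LinearMap.range L := by
    refine le_antisymm ?_ ?_
    · rintro _ ⟨b, hb, rfl⟩
      refine ⟨(hZmem _).2 fun y => ?_, sec b, rfl⟩
      have h := congrArg ψ ((Subalgebra.mem_center_iff (R := Cfsg.AlgInt ⧸ M) (a := b)).1 hb (π y))
      rw [hψmul, hψmul, hψπ] at h
      have hεψ : ε * ψ b = ψ b := by
        show ε * (ε * sec b) = ε * sec b
        rw [← mul_assoc, hεε]
      rw [show y * ψ b = ε * y * ψ b by rw [hεc, mul_assoc, hεψ], h, ← mul_assoc, ← hεc, hεψ]
    · rintro x ⟨hx, y, rfl⟩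
      refine ⟨π (ε * y), ?_, by rw [hψπ, ← mul_assoc, hεε, hL]⟩
      show π (ε * y) ∈ Subalgebra.center (Cfsg.AlgInt ⧸ M) A
      rw [Subalgebra.mem_center_iff]
      intro b
      rw [← hsec b, ← map_mul, ← map_mul, ← hL, (hZmem _).1 hx]
  let Cf : Submodule ℂ (G → ℂ) :=
    { carrier := {f | Cfsg.IsClassFunction G f}
      zero_mem' := fun g c => rfl
      add_mem' := fun {f f'} hf hf' g c => by
        show f _ + f' _ = f _ + f' _
        rw [hf, hf']
      smul_mem' := fun r f hf g c => by
        show r * f _ = r * f _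
        rw [hf] }
  have hom : ∀ (χ : Cfsg.IrrCharacter G) (f : G → ℂ), Cfsg.IsClassFunction G f →
      omega (χ : G → ℂ) (P f) = (if χ ∈ B then 1 else 0) * omega (χ : G → ℂ) f := fun χ f hf => by
    show omega (χ : G → ℂ) (conv a f) = _
    rw [omega_conv χ.2 hac hf, ha, omega_blockCoeff]
  let T₁ : Submodule ℂ (G → ℂ) := Cf ⊓ LinearMap.range P
  let T₂ : Submodule ℂ (G → ℂ) := Cf ⊓ LinearMap.ker P
  have hT : ∀ (T : Submodule ℂ (G → ℂ)) (S : Set (Cfsg.IrrCharacter G)), T ≤ Cf →
      (∀ f ∈ T, ∀ χ ∉ S, omega (χ : G → ℂ) f = 0) → Module.finrank ℂ T ≤ Nat.card S := by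
    intro T S hTC hz
    let Φ : T →ₗ[ℂ] (S → ℂ) :=
      { toFun := fun f χ => omega ((χ : Cfsg.IrrCharacter G) : G → ℂ) (f : G → ℂ)
        map_add' := fun f f' => funext fun χ => omega_add _ _ _
        map_smul' := fun c f => funext fun χ => omega_smul _ _ _ }
    have hinj : Function.Injective Φ := (injective_iff_map_eq_zero _).2 fun f hf => by
      refine Subtype.ext (classFun_ext_omega (hTC f.2) (Submodule.zero_mem Cf) fun χ => ?_)
      rw [show omega (χ : G → ℂ) ((0 : T) : G → ℂ) = 0 by simp [omega]]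
      by_cases hχ : χ ∈ S
      · exact congrFun hf ⟨χ, hχ⟩
      · exact hz f f.2 χ hχ
    refine (LinearMap.finrank_le_finrank_of_injective hinj).trans ?_
    rw [Module.finrank_fintype_fun_eq_card, Nat.card_eq_fintype_card]
  have hT₁ : Module.finrank ℂ T₁ ≤ Nat.card B := by
    refine hT T₁ B inf_le_left fun f hf χ hχ => ?_
    have hPf : P f = f := hproj.map_id f hf.2
    rw [← hPf, hom χ f hf.1, if_neg hχ, zero_mul]
  have hT₂ : Module.finrank ℂ T₂ ≤ Nat.card (ConjClasses G) - Nat.card B := by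
    refine le_trans (hT T₂ Bᶜ inf_le_left fun f hf χ hχ => ?_) ?_
    · have h := hom χ f hf.1
      rw [LinearMap.mem_ker.1 hf.2, if_pos (not_not.1 hχ), one_mul] at h
      rw [← h]; simp [omega]
    · rw [← Char.card_irrCharacter, Nat.card_coe_set_eq, Nat.card_coe_set_eq,
        Set.ncard_compl]
  have hZ₁ : Module.finrank (Cfsg.AlgInt ⧸ M)
      (Z ⊓ LinearMap.range L : Submodule (Cfsg.AlgInt ⧸ M) (MonoidAlgebra (Cfsg.AlgInt ⧸ M) G)) ≤ Nat.card B :=
    (finrank_le_of_lifts hM _ T₁ fun x hx => by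
      obtain ⟨hxZ, y, rfl⟩ := hx
      refine ⟨conv a (lift (L y)), ⟨isClassFunction_conv hac (isClassFunction_lift fun z =>
        ((hZmem _).1 hxZ z).symm), ⟨lift (L y), rfl⟩⟩, (hliftε _).1, fun g => ?_⟩
      rw [← coeff_res, (hliftε _).2, hL, ← mul_assoc, hεε]).trans hT₁
  have hZ₂ : Module.finrank (Cfsg.AlgInt ⧸ M)
      (Z ⊓ LinearMap.ker L : Submodule (Cfsg.AlgInt ⧸ M) (MonoidAlgebra (Cfsg.AlgInt ⧸ M) G)) ≤
        Nat.card (ConjClasses G) - Nat.card B :=
    (finrank_le_of_lifts hM _ T₂ fun x hx => by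
      obtain ⟨hxZ, hxL⟩ := hx
      have hc := isClassFunction_lift fun z => ((hZmem _).1 hxZ z).symm
      refine ⟨lift x - conv a (lift x), ⟨Submodule.sub_mem Cf hc (isClassFunction_conv hac hc), ?_⟩,
        (hliftε' x).1, fun g => ?_⟩
      · rw [SetLike.mem_coe, LinearMap.mem_ker, map_sub]
        show P (lift x) - P (P (lift x)) = 0
        rw [hPP, sub_self]
      · rw [(hliftε' x).2, ← hL, LinearMap.mem_ker.1 hxL, sub_zero]).trans hT₂
  have : Finite (ConjClasses G) := Quotient.finite _
  have := Fintype.ofFinite (ConjClasses G)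
  have hclasses : Nat.card (ConjClasses G) ≤ Module.finrank (Cfsg.AlgInt ⧸ M) Z := by
    let K : ConjClasses G → Z := fun C => ⟨res hM (classInd C.out), (hZmem _).2 fun y => by
      induction y using MonoidAlgebra.induction_on with
      | of g =>
        refine MonoidAlgebra.coeff_injective (Finsupp.ext fun z => ?_)
        simp only [MonoidAlgebra.of_apply, MonoidAlgebra.coeff_single_mul_apply,
          MonoidAlgebra.coeff_mul_single_apply, coeff_res, one_mul, mul_one]
        rw [← isClassFunction_classInd C.out (g⁻¹ * z) g]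
        congr 2
        group
      | add x y hx hy => rw [mul_add, add_mul, hx, hy]
      | smul r x hx => rw [mul_smul_comm, smul_mul_assoc, hx]⟩
    have hK : LinearIndependent (Cfsg.AlgInt ⧸ M) K := by
      refine Fintype.linearIndependent_iff.2 fun c hc C => ?_
      have h := congrArg (fun x : Z => (x : MonoidAlgebra (Cfsg.AlgInt ⧸ M) G).coeff C.out) hc
      simp only [AddSubmonoidClass.coe_finsetSum, SetLike.val_smul, MonoidAlgebra.coeff_sum,
        Finsupp.finsetSum_apply, MonoidAlgebra.coeff_smul_apply, K, coeff_res, ZeroMemClass.coe_zero,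
        MonoidAlgebra.coeff_zero, Finsupp.zero_apply, classInd_apply, smul_eq_mul] at h
      rw [Finset.sum_eq_single C] at h
      · rw [if_pos (IsConj.refl _)] at h
        rw [← residue_apply hM ⟨1, (localRing hM).one_mem⟩,
          show (⟨1, _⟩ : localRing hM) = 1 from rfl, map_one, mul_one] at h
        exact h
      · intro C' _ hne
        rw [if_neg fun hc' => hne (by
          rw [← Quotient.out_eq C', ← Quotient.out_eq C]
          exact ConjClasses.mk_eq_mk_iff_isConj.2 hc')]
        rw [(resFun_eq_zero_iff hM (localRing hM).zero_mem).2 (memLocalIdeal_zero hM), mul_zero]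
      · simp
    rw [Nat.card_eq_fintype_card]
    exact hK.fintype_card_le_finrank
  have hsup : Z ≤ (Z ⊓ LinearMap.range L) ⊔ (Z ⊓ LinearMap.ker L) := fun x hx => by
    have hεx : ε * x ∈ Z := (hZmem _).2 fun y => by
      rw [← mul_assoc, ← hεc, mul_assoc, (hZmem x).1 hx, mul_assoc]
    refine Submodule.mem_sup.2 ⟨ε * x, ⟨hεx, x, rfl⟩, x - ε * x,
      ⟨Z.sub_mem hx hεx, ?_⟩, add_sub_cancel _ _⟩
    rw [SetLike.mem_coe, LinearMap.mem_ker, hL, mul_sub, ← mul_assoc, hεε, sub_self]
  have hk2 : Nat.card B ≤ Nat.card (ConjClasses G) := by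
    rw [← Char.card_irrCharacter, Nat.card_coe_set_eq]
    exact (Set.ncard_le_ncard (Set.subset_univ B)).trans (Set.ncard_univ _).le
  have hcenter : Module.finrank (Cfsg.AlgInt ⧸ M) (Subalgebra.center (Cfsg.AlgInt ⧸ M) A) = Nat.card B := by
    have h1 := (Submodule.finrank_mono hsup).trans (Submodule.finrank_add_le_finrank_add_finrank _ _)
    have h2 := (Submodule.equivMapOfInjective ψ hψinj
      (Subalgebra.center (Cfsg.AlgInt ⧸ M) A).toSubmodule).finrank_eq
    rw [hψcenter] at h2
    show Module.finrank (Cfsg.AlgInt ⧸ M) (Subalgebra.center (Cfsg.AlgInt ⧸ M) A).toSubmodule = Nat.card B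
    omega
  -- the symmetrising form
  let τ : A →ₗ[Cfsg.AlgInt ⧸ M] Cfsg.AlgInt ⧸ M :=
    { toFun := fun b => (ψ b).coeff 1
      map_add' := fun b b' => by simp
      map_smul' := fun c b => by simp }
  have hτ : ∀ b b', τ (b * b') = τ (b' * b) := by
    intro b b'
    show (ψ (b * b')).coeff 1 = (ψ (b' * b)).coeff 1
    rw [hψmul, hψmul]
    generalize ψ b = x
    generalize ψ b' = y
    induction x using MonoidAlgebra.induction_on with
    | of g =>
      simp only [MonoidAlgebra.of_apply, MonoidAlgebra.coeff_single_mul_apply,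
        MonoidAlgebra.coeff_mul_single_apply, one_mul, mul_one]
    | add x x' hx hx' => simp only [add_mul, mul_add, MonoidAlgebra.coeff_add, Finsupp.add_apply,
        hx, hx']
    | smul r x hx => simp only [smul_mul_assoc, mul_smul_comm, MonoidAlgebra.coeff_smul_apply, hx]
  have hnd : ∀ b, (∀ b', τ (b * b') = 0) → b = 0 := by
    intro b hb
    refine hψinj (MonoidAlgebra.coeff_injective (Finsupp.ext fun g => ?_))
    have h : (ψ (b * π (MonoidAlgebra.single g⁻¹ 1))).coeff 1 = 0 := hb _
    rw [hψmul, hψπ, ← mul_assoc, ← hεc] at h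
    rw [show ε * ψ b = ψ b by show ε * (ε * sec b) = ε * sec b; rw [← mul_assoc, hεε],
      MonoidAlgebra.coeff_mul_single_apply, inv_inv, one_mul, mul_one] at h
    rw [h, map_zero, MonoidAlgebra.coeff_zero, Finsupp.zero_apply]
  have hBpos : 0 < Nat.card B := by
    have := (IsPBlock.nonempty hM hB).to_subtype
    exact Nat.card_pos
  have : Nontrivial A := by
    by_contra h
    rw [not_nontrivial_iff_subsingleton] at h
    have : Subsingleton (Subalgebra.center (Cfsg.AlgInt ⧸ M) A) :=
      ⟨fun a b => Subtype.ext (h.elim _ _)⟩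
    rw [Module.finrank_zero_of_subsingleton] at hcenter
    omega
  have := charP_residueField hM
  -- the traces of modules are the traces of lifted functions in the span of the block
  have hl' : ∀ t₁ t₂ : Module.Dual (Cfsg.AlgInt ⧸ M) A,
      t₁ ∈ AlgStruct.traces (Cfsg.AlgInt ⧸ M) A → t₂ ∈ AlgStruct.traces (Cfsg.AlgInt ⧸ M) A →
      (∀ x, IsNilpotent x → t₁ x = 0) → (∀ x, IsNilpotent x → t₂ x = 0) →
        LinearIndependent (Cfsg.AlgInt ⧸ M) ![t₁, t₂] → False := by
    intro t₁ t₂ ht₁ ht₂ hn₁ hn₂ hli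
    let Φ : A →ₗ[Cfsg.AlgInt ⧸ M] Module.Dual (Cfsg.AlgInt ⧸ M) A :=
      (LinearMap.mul (Cfsg.AlgInt ⧸ M) A).compr₂ τ
    have hΦ : Function.Surjective Φ :=
      (LinearMap.injective_iff_surjective_of_finrank_eq_finrank (Subspace.dual_finrank_eq).symm).1
        ((injective_iff_map_eq_zero _).2 fun a ha => hnd a fun b => by
          show Φ a b = 0
          rw [ha]; rfl)
    let R : MonoidAlgebra (Cfsg.AlgInt ⧸ M) G → A := fun x => π x
    have hpp : ∀ t : Module.Dual (Cfsg.AlgInt ⧸ M) A, (∀ x, IsNilpotent x → t x = 0) → ∀ g : G,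
        t (π (MonoidAlgebra.of _ G g)) = t (π (MonoidAlgebra.of _ G (pPrimePartOf p g))) := by
      intro t hn g
      obtain ⟨j, hj⟩ := orderOf_pPartOf hM.1 g
      set u := π (MonoidAlgebra.of _ G (pPartOf p g)) with hu
      set y := π (MonoidAlgebra.of _ G (pPrimePartOf p g)) with hy
      have hcomm : Commute u y := ((commute_pPartOf_pPrimePartOf g).map (MonoidAlgebra.of _ G)).map π
      have hu1 : u ^ p ^ j = 1 := by
        rw [hu, ← map_pow, ← map_pow, ← hj, pow_orderOf_eq_one, map_one, map_one]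
      have h := sub_one_pow_eq_zero (k := Cfsg.AlgInt ⧸ M) hu1
      have hnil : IsNilpotent ((u - 1) * y) := ⟨p ^ j, by
        rw [(hcomm.sub_left (Commute.one_left y)).mul_pow, h, zero_mul]⟩
      have h0 := hn _ hnil
      rw [sub_mul, one_mul, map_sub, sub_eq_zero] at h0
      rw [← h0, hu, hy, ← map_mul, ← map_mul, pPartOf_mul_pPrimePartOf hM.1]
    set V := Submodule.span ℂ
      ((fun χ : Cfsg.IrrCharacter G => Cfsg.pRegularPart p (χ : G → ℂ)) '' B) with hV
    have hlift : ∀ t ∈ AlgStruct.traces (Cfsg.AlgInt ⧸ M) A, ∃ F ∈ V,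
        (∀ g, Cfsg.MemLocalRing M (F g)) ∧ ∀ g : G, resFun hM (F g) =
          if p ∣ orderOf g then 0 else t (π (MonoidAlgebra.of _ G g)) := by
      intro t ht
      obtain ⟨z, rfl⟩ := hΦ t
      have hz : z ∈ Subalgebra.center (Cfsg.AlgInt ⧸ M) A := by
        rw [Subalgebra.mem_center_iff]
        intro b
        refine sub_eq_zero.1 (hnd _ fun c => ?_)
        have h1 : τ (z * (c * b)) = τ (z * (b * c)) := ht c b
        rw [sub_mul, map_sub, sub_eq_zero, mul_assoc b z c, hτ b (z * c), mul_assoc z c b, h1,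
          mul_assoc]
      have hxmem : ψ z ∈ Z ⊓ LinearMap.range L := hψcenter ▸ ⟨z, hz, rfl⟩
      have hc := isClassFunction_lift fun y => ((hZmem _).1 hxmem.1 y).symm
      set F₀ := conv a (lift (ψ z)) with hF₀
      have hF₀c : Cfsg.IsClassFunction G F₀ := isClassFunction_conv hac hc
      have hεz : ε * ψ z = ψ z := by
        show ε * (ε * sec z) = ε * sec z
        rw [← mul_assoc, hεε]
      refine ⟨Cfsg.pRegularPart p (fun g => F₀ g⁻¹), ?_, fun g => ?_, fun g => ?_⟩
      · have hexp : (fun g => F₀ g⁻¹) = ∑ χ ∈ B.toFinite.toFinset,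
            ((Nat.card G : ℂ)⁻¹ * ((χ : G → ℂ) 1 * omega (χ : G → ℂ) F₀)) • (χ : G → ℂ) := by
          funext g
          rw [apply_eq_sum_omega hF₀c, Finset.sum_apply, Finset.mul_sum]
          refine (Finset.sum_subset (Finset.subset_univ _) fun χ _ hχ => ?_).symm.trans
            (Finset.sum_congr rfl fun χ _ => ?_)
          · have h0 : omega (χ : G → ℂ) (P (lift (ψ z))) = 0 := by
              rw [hom χ _ hc, if_neg (fun h => hχ (B.toFinite.mem_toFinset.2 h)), zero_mul]
            rw [show omega (χ : G → ℂ) F₀ = 0 from h0]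
            simp
          · rw [← Char.IsChar.inv_eq_conj (Char.IsIrr.isCharacter χ.2), inv_inv, Pi.smul_apply,
              smul_eq_mul]
            ring
        rw [hexp, show Cfsg.pRegularPart p (∑ χ ∈ B.toFinite.toFinset,
            ((Nat.card G : ℂ)⁻¹ * ((χ : G → ℂ) 1 * omega (χ : G → ℂ) F₀)) • (χ : G → ℂ)) =
            ∑ χ ∈ B.toFinite.toFinset, ((Nat.card G : ℂ)⁻¹ * ((χ : G → ℂ) 1 *
              omega (χ : G → ℂ) F₀)) • Cfsg.pRegularPart p (χ : G → ℂ) by
          funext g
          simp only [pRegularPart_apply, Finset.sum_apply, Pi.smul_apply, smul_eq_mul]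
          split_ifs <;> simp]
        exact V.sum_mem fun χ hχ => V.smul_mem _
          (Submodule.subset_span ⟨χ, B.toFinite.mem_toFinset.1 hχ, rfl⟩)
      · rw [pRegularPart_apply]
        split_ifs
        · exact (localRing hM).zero_mem
        · exact (hliftε (ψ z)).1 _
      · rw [pRegularPart_apply]
        split_ifs
        · exact (resFun_eq_zero_iff hM (localRing hM).zero_mem).2 (memLocalIdeal_zero hM)
        · show resFun hM (F₀ g⁻¹) = τ (z * π (MonoidAlgebra.of _ G g))
          rw [← coeff_res, hF₀, (hliftε (ψ z)).2, hεz]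
          show _ = (ψ (z * π (MonoidAlgebra.of _ G g))).coeff 1
          rw [hψmul, hψπ, ← mul_assoc, ← hεc, hεz, MonoidAlgebra.of_apply,
            MonoidAlgebra.coeff_mul_single_apply, one_mul, mul_one]
    obtain ⟨F₁, hF₁V, hF₁R, hF₁⟩ := hlift t₁ ht₁
    obtain ⟨F₂, hF₂V, hF₂R, hF₂⟩ := hlift t₂ ht₂
    let v : Fin 2 → G → Cfsg.AlgInt ⧸ M :=
      fun i g => if p ∣ orderOf g then 0 else ![t₁, t₂] i (π (MonoidAlgebra.of _ G g))
    have hv : LinearIndependent (Cfsg.AlgInt ⧸ M) v := by
      refine Fintype.linearIndependent_iff.2 fun c hc =>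
        Fintype.linearIndependent_iff.1 hli c ?_
      set T := ∑ i, c i • ![t₁, t₂] i with hT
      have hTg : ∀ g, T (π (MonoidAlgebra.of _ G g)) = 0 := by
        intro g
        have hn : ∀ x, IsNilpotent x → T x = 0 := fun x hx => by
          rw [hT, Fin.sum_univ_two]
          simp [hn₁ x hx, hn₂ x hx]
        rw [hpp T hn g]
        have h := congrFun hc (pPrimePartOf p g)
        simp only [Finset.sum_apply, Pi.smul_apply, v, smul_eq_mul, Pi.zero_apply,
          if_neg (not_dvd_orderOf_pPrimePartOf hM.1 g)] at h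
        rw [hT, LinearMap.sum_apply]
        simpa using h
      refine LinearMap.ext fun b => ?_
      rw [← hsec b, LinearMap.zero_apply]
      generalize sec b = x
      induction x using MonoidAlgebra.induction_on with
      | of g => exact hTg g
      | add x y hx hy => rw [map_add, map_add, hx, hy, add_zero]
      | smul r x hx => rw [map_smul, map_smul, hx, smul_zero]
    have hli2 : LinearIndependent ℂ ![F₁, F₂] := linearIndependent_lift hM v hv ![F₁, F₂]
      (fun i g => by fin_cases i <;> simp [hF₁R, hF₂R])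
      (fun i g => by fin_cases i <;> simp [v, hF₁, hF₂])
    have hli3 : LinearIndependent ℂ (fun i => (⟨![F₁, F₂] i, by
        fin_cases i <;> assumption⟩ : V)) := LinearIndependent.of_comp V.subtype hli2
    have h2 := hli3.fintype_card_le_finrank
    rw [Fintype.card_fin, show Module.finrank ℂ V = 1 from hl] at h2
    omega
  subst hp2
  -- the functional
  let t₀ : MonoidAlgebra (Cfsg.AlgInt ⧸ M) G →ₗ[Cfsg.AlgInt ⧸ M] Cfsg.AlgInt ⧸ M :=
    { toFun := fun x => ∑ g, x.coeff g * resFun hM (F g)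
      map_add' := fun x y => by
        simp only [MonoidAlgebra.coeff_add, Finsupp.add_apply, add_mul, Finset.sum_add_distrib]
      map_smul' := fun c x => by
        simp only [MonoidAlgebra.coeff_smul_apply, smul_eq_mul, Finset.mul_sum, RingHom.id_apply,
          mul_assoc] }
  have ht₀ : ∀ g, t₀ (MonoidAlgebra.single g 1) = resFun hM (F g) := fun g => by
    show ∑ l, (MonoidAlgebra.single g (1 : Cfsg.AlgInt ⧸ M)).coeff l * resFun hM (F l) = _
    rw [Finset.sum_eq_single g]
    · simp
    · intro l _ hl'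
      simp [Finsupp.single_apply, Ne.symm hl']
    · simp
  have ht₀tr : ∀ x y, t₀ (x * y) = t₀ (y * x) := by
    intro x y
    induction x using MonoidAlgebra.induction_on with
    | of g =>
      induction y using MonoidAlgebra.induction_on with
      | of g' =>
        simp only [MonoidAlgebra.of_apply, MonoidAlgebra.single_mul_single, one_mul, ht₀]
        rw [← hFc (g * g') g']
        congr 2
        group
      | add y y' hy hy' => rw [mul_add, add_mul, map_add, map_add, hy, hy']
      | smul r y hy => rw [mul_smul_comm, smul_mul_assoc, map_smul, map_smul, hy]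
    | add x x' hx hx' => rw [mul_add, add_mul, map_add, map_add, hx, hx']
    | smul r x hx => rw [mul_smul_comm, smul_mul_assoc, map_smul, map_smul, hx]
  have ht₀ε : ∀ x, t₀ (ε * x) = t₀ x := by
    intro x
    induction x using MonoidAlgebra.induction_on with
    | of g =>
      rw [MonoidAlgebra.of_apply, ht₀, ← hFa g]
      show ∑ l, (ε * MonoidAlgebra.single g 1).coeff l * resFun hM (F l) = _
      rw [BlockThms.OrderP.resFun_sum hM _ fun h _ => (localRing hM).mul_mem (haR h) (hFR _)]
      refine Fintype.sum_equiv (Equiv.mulRight g⁻¹) _ _ fun l => ?_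
      rw [Equiv.coe_mulRight, resFun_mul hM (haR _) (hFR _), inv_mul_cancel_right,
        MonoidAlgebra.coeff_mul_single_apply, mul_one, hε, coeff_res]
    | add x y hx hy => rw [mul_add, map_add, map_add, hx, hy]
    | smul r x hx => rw [mul_smul_comm, map_smul, map_smul, hx]
  -- the nilpotent element
  set U := MonoidAlgebra.of (Cfsg.AlgInt ⧸ M) G u with hU
  set Y := MonoidAlgebra.of (Cfsg.AlgInt ⧸ M) G y with hY
  have hUY : Commute U Y := huy.map (MonoidAlgebra.of _ G)
  have hU1 : U ^ 2 ^ j = 1 := by rw [hU, ← map_pow, hu, map_one]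
  have hcomm : Commute (U - 1) Y := hUY.sub_left (Commute.one_left Y)
  have hwnil : IsNilpotent ((U - 1) * Y) := ⟨2 ^ j, by
    rw [hcomm.mul_pow, sub_one_pow_eq_zero (k := Cfsg.AlgInt ⧸ M) hU1, zero_mul]⟩
  have hw4 : ((U - 1) * Y) ^ 4 = MonoidAlgebra.of _ G (u ^ 4 * y ^ 4) -
      MonoidAlgebra.of _ G (y ^ 4) := by
    have h4 : (U - 1) ^ 4 = U ^ 4 - 1 := sub_one_pow_four (k := Cfsg.AlgInt ⧸ M) U
    rw [hcomm.mul_pow, h4, sub_mul, one_mul, map_mul, map_pow, map_pow]
  refine false_of_center_five τ hτ hnd hl' (hcenter ▸ hk) (fun n dA f hf hdimA' hproj' => ?_)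
    (t₀.comp ψ) (fun b b' => ?_) (hwnil.map π) ?_
  · refine hnum n dA (by rw [← hDsum, ← hdimB, hdimA']) ?_
    obtain ⟨S⟩ : Nonempty (Sylow 2 G) := inferInstance
    have hidem' : IsIdempotentElem (ψ f) := by
      show ψ f * ψ f = ψ f
      rw [← hψmul, hf.eq]
    have hεf : ε * ψ f = ψ f := by
      show ε * (ε * sec f) = ε * sec f
      rw [← mul_assoc, hεε]
    have hrangeψ : (LinearMap.range (LinearMap.mulRight (Cfsg.AlgInt ⧸ M) f)).map ψ =
        LinearMap.range (LinearMap.mulRight (Cfsg.AlgInt ⧸ M) (ψ f)) := by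
      refine le_antisymm ?_ ?_
      · rintro _ ⟨_, ⟨b, rfl⟩, rfl⟩
        exact ⟨ψ b, by simp [hψmul]⟩
      · rintro _ ⟨x, rfl⟩
        refine ⟨π x * f, ⟨π x, rfl⟩, ?_⟩
        rw [hψmul, hψπ, hεc, mul_assoc, hεf]
        rfl
    have h := SylowFree.card_dvd_finrank (S : Subgroup G) S.2 hidem'
    rwa [← hrangeψ, ← (Submodule.equivMapOfInjective ψ hψinj _).finrank_eq, hproj',
      S.card_eq_multiplicity] at h
  · show t₀ (ψ (b * b')) = t₀ (ψ (b' * b))
    rw [hψmul, hψmul, ht₀tr]
  · show t₀ (ψ (π ((U - 1) * Y) ^ 4)) ≠ 0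
    rw [← map_pow, hψπ, ht₀ε, hw4, map_sub, sub_ne_zero, MonoidAlgebra.of_apply,
      MonoidAlgebra.of_apply, ht₀, ht₀]
    exact hval

end Cfsg.Agent.Blocks.Dihedral
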