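import Cfsg.Agent.Blocks.Dihedral.Columns
import Cfsg.Agent.BlockThms.DefectGroup
import Cfsg.Agent.BlockChar.RankOne
import Cfsg.Agent.BlockChar.Nilpotent

/-!
# A function in the block supported on the section of the central involution

The projection of the section of the involution onto the block takes, on that section, the values
of the Brauer character of the nilpotent block at the involution.
-/

set_option autoImplicit false

namespace Cfsg.Agent.Blocks.Dihedral

open Cfsg.Agent Cfsg.Agent.Blocks Cfsg.Agent.Blocks.Star Cfsg.Agent.BrauerPairs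
open scoped ComplexConjugate

universe u

attribute [local instance] Fintype.ofFinite
attribute [local instance 2000] subFintype

variable {G : Type u} [Group G] [Finite G] {M : Ideal Cfsg.AlgInt}
  {B : Set (Cfsg.IrrCharacter G)} {D : Subgroup G}
  {e₀ : Set (Cfsg.IrrCharacter (Subgroup.centralizer (D : Set G)))} {a : ℕ} {u t : G}
  {hM : Cfsg.IsPModular 2 M} {hmax : Cfsg.IsMaximalBrauerPair 2 M B D e₀}
  {sh : Shape D a u t}

local notation "CG[" Q "]" => Subgroup.centralizer ((Q : Subgroup G) : Set G)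
local notation "sbc" => Cfsg.subgroupBlockCoeff

open scoped Classical in
/-- The number of elements moving `g` to given products, summed against a function. -/
theorem sum_sect_conj_mul {u : G} {e : G → ℂ} (g : G) :
    ∑ χ : Cfsg.IrrCharacter G, conj (sect (χ : G → ℂ) u e 1) * (χ : G → ℂ) g =
      ∑ w, conj (e w) * ((Finset.univ.filter fun c : G => c * g * c⁻¹ = u * w).card : ℂ) := by
  simp only [sect, mul_one, map_sum, map_mul, Finset.sum_mul]
  rw [Finset.sum_comm]
  refine Finset.sum_congr rfl fun w _ => ?_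
  have h := Char.second_orthogonality g (u * w)
  have hcard : (if IsConj g (u * w) then
      (Nat.card (Subgroup.centralizer ({g} : Set G)) : ℂ) else 0) =
      ((Finset.univ.filter fun c : G => c * g * c⁻¹ = u * w).card : ℂ) := by
    split_ifs with h'
    · obtain ⟨g₀, hg₀⟩ := isConj_iff.1 h'
      rw [Nat.card_eq_fintype_card, Fintype.card_subtype]
      congr 1
      refine Finset.card_bij' (fun c _ => g₀ * c) (fun c _ => g₀⁻¹ * c) (fun c hc => ?_)
        (fun c hc => ?_) (fun c _ => inv_mul_cancel_left _ _) fun c _ => mul_inv_cancel_left _ _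
      · rw [Finset.mem_filter, Subgroup.mem_centralizer_singleton_iff] at hc
        refine Finset.mem_filter.2 ⟨Finset.mem_univ _, ?_⟩
        rw [← hg₀]
        calc g₀ * c * g * (g₀ * c)⁻¹ = g₀ * (c * g) * c⁻¹ * g₀⁻¹ := by group
          _ = g₀ * g * g₀⁻¹ := by rw [hc.2]; group
      · rw [Finset.mem_filter] at hc
        refine Finset.mem_filter.2 ⟨Finset.mem_univ _, Subgroup.mem_centralizer_singleton_iff.2 ?_⟩
        calc g₀⁻¹ * c * g = g₀⁻¹ * (c * g * c⁻¹) * c := by group
          _ = g₀⁻¹ * (g₀ * g * g₀⁻¹) * c := by rw [hc.2, hg₀]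
          _ = g * (g₀⁻¹ * c) := by group
    · rw [Finset.filter_eq_empty_iff.2 fun c _ hc => h' (isConj_iff.2 ⟨c, hc⟩), Finset.card_empty,
        Nat.cast_zero]
  have h2 : ∑ χ : Cfsg.IrrCharacter G, (χ : G → ℂ) g * conj ((χ : G → ℂ) (u * w)) =
      ((Finset.univ.filter fun c : G => c * g * c⁻¹ = u * w).card : ℂ) := by
    rw [← hcard]; convert h
  rw [← h2, Finset.mul_sum]
  exact Finset.sum_congr rfl fun χ _ => by ring

namespace Zed

variable (Z : Zed hM hmax sh)
include Z

/-- A function in the block which vanishes at regular elements and is a unit at some element with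
the involution as two-part. -/
theorem exists_separating : ∃ (F : G → ℂ) (y₀ : G), (∀ g, Cfsg.MemLocalRing M (F g)) ∧
    Cfsg.IsClassFunction G F ∧ (∀ g, ∑ h, Cfsg.blockCoeff B h * F (h * g) = F g) ∧
    (∀ g, ¬ 2 ∣ orderOf g → F g = 0) ∧ ¬ 2 ∣ orderOf y₀ ∧ Commute u y₀ ∧
    ¬ Cfsg.MemLocalIdeal M (F (zed a u * y₀)) := by
  classical
  set z := zed a u with hz
  set e := sbc CG[Subgroup.zpowers z] Z.b with he
  have hp := hM.1
  have hzord : ∃ k, orderOf z = 2 ^ k := sh.exists_orderOf sh.z_mem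
  have hmaxH := maximal_HH hM hmax sh Z.hb
  have hnil := nilpotent_HH hM hmax sh Z.hb
  have heB : e ∈ Bk M z := sbc_mem_Bk (isBrauerPair_of_subpairLE hmax.1.1 Z.hb).2
  have hdef : Cfsg.blockDefect 2 Z.b = a + 3 := by
    have h1 := BlockChar.card_defectGroup hM hnil.1 (isDefectGroup_of_maximal hM hmaxH)
    rw [Nat.card_congr (Subgroup.subgroupOfEquivOfLe (le_HH sh)).toEquiv, sh.hcard] at h1
    exact (Nat.pow_right_injective le_rfl h1).symm
  obtain ⟨φ₀, d, ⟨n, hn⟩, hval, hsum⟩ :=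
    BlockChar.rank_one_cartan hM hnil.1 (nilpotent_rank_one hM hnil).1
  rw [hdef, finsum_mem_eq_finite_toFinset_sum _ Z.b.toFinite] at hsum
  set s := Z.b.toFinite.toFinset with hs
  set φ : HH a u → ℂ := fun x => ∑ θ ∈ s, (n θ : ℂ) * (θ : HH a u → ℂ) x with hφ
  have hφreg : ∀ x : HH a u, ¬ 2 ∣ orderOf x → φ₀ x = φ x := fun x hx => by
    rw [hn x hx, finsum_mem_eq_finite_toFinset_sum _ Z.b.toFinite]
  have hone : ¬ 2 ∣ orderOf (1 : HH a u) := by simp
  have hθ : ∀ θ ∈ Z.b, ∀ x : HH a u, ¬ 2 ∣ orderOf x →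
      ((θ : Cfsg.IrrCharacter (HH a u)) : HH a u → ℂ) x = (d θ : ℂ) * φ x := fun θ hθ x hx => by
    rw [hval θ hθ x hx, hφreg x hx]
  have hφ1 : φ 1 ≠ 0 := fun h0 => by
    have := hθ _ Z.mem 1 hone
    rw [h0, mul_zero] at this
    exact Char.IsIrr.one_ne_zero Z.η₀.2 this
  have hφi : ∀ x, IsIntegral ℤ (φ x) := fun x => IsIntegral.sum _ fun θ _ =>
    isIntegral_algebraMap.mul (Char.IsChar.isIntegral (Char.IsIrr.isCharacter θ.2) x)
  have hφinv : ∀ x : HH a u, φ x⁻¹ = conj (φ x) := fun x => by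
    simp only [hφ, map_sum, map_mul, map_intCast]
    exact Finset.sum_congr rfl fun θ _ => by
      rw [Char.IsChar.inv_eq_conj (Char.IsIrr.isCharacter θ.2)]
  have hφ1c : conj (φ 1) = φ 1 := by rw [← hφinv, inv_one]
  -- the coefficients of the block at the involution
  set C : ℂ := ((2 ^ (a + 3) : ℕ) : ℂ) * φ 1 with hC
  have hcoeff : ∀ x : HH a u, ¬ 2 ∣ orderOf x →
      Cfsg.blockCoeff Z.b x = (Nat.card (HH a u) : ℂ)⁻¹ * (C * conj (φ x)) := fun x hx => by
    rw [Cfsg.blockCoeff, finsum_mem_eq_finite_toFinset_sum _ Z.b.toFinite, hC, ← hsum,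
      Nat.cast_sum, Finset.sum_mul, Finset.sum_mul]
    congr 1
    refine Finset.sum_congr rfl fun θ hθs => ?_
    have hθb := Z.b.toFinite.mem_toFinset.1 hθs
    rw [hθ θ hθb 1 hone, hθ θ hθb x hx, map_mul, Complex.conj_natCast, Nat.cast_pow]
    ring
  have hcardH : (Nat.card (HH a u) : ℂ) ≠ 0 := Nat.cast_ne_zero.2 Nat.card_pos.ne'
  have hC0 : C ≠ 0 := mul_ne_zero (Nat.cast_ne_zero.2 (pow_ne_zero _ two_ne_zero)) hφ1
  -- the function
  set S : G → ℂ := fun g =>
    ∑ χ : Cfsg.IrrCharacter G, conj (sect (χ : G → ℂ) z e 1) * (χ : G → ℂ) g with hS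
  have hSc : Cfsg.IsClassFunction G S := fun g v => Finset.sum_congr rfl fun χ _ => by
    rw [Char.isClassFunction_of_isIrr χ.2 g v]
  have hSfix : ∀ g, ∑ h, Cfsg.blockCoeff B h * S (h * g) = S g := fun g => by
    simp only [hS, Finset.mul_sum]
    rw [Finset.sum_comm]
    refine Finset.sum_congr rfl fun χ _ => ?_
    rw [Finset.sum_congr rfl (g := fun h => conj (sect (χ : G → ℂ) z e 1) *
      (Cfsg.blockCoeff B h * (χ : G → ℂ) (g * h))) fun h _ => by
        rw [← Char.isClassFunction_of_isIrr χ.2 (h * g) g, show g * (h * g) * g⁻¹ = g * h by group]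
        ring,
      ← Finset.mul_sum, sum_blockCoeff_mul_irr]
    split_ifs with hχ
    · rfl
    · rw [sect_eq_zero_of_notMem hM hmax hχ hzord ⟨Z.b, Z.hb, rfl⟩ (one_mem_regC hp z), map_zero,
        zero_mul, zero_mul]
  have hSz : ∀ y : G, ¬ 2 ∣ orderOf y → ∀ hy : y ∈ HH a u,
      S (z * y) = C * φ ⟨y, hy⟩ := by
    intro y hyreg hy
    have hyc : z * y = y * z := mem_zpowers_centralizer.1 hy
    have hkey : ∀ c w : G, conj (e w) * (if c * (z * y) * c⁻¹ = z * w then (1 : ℂ) else 0) =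
        if c ∈ HH a u then (if w = c * y * c⁻¹ then conj (e w) else 0) else 0 := by
      intro c w
      by_cases hw0 : e w = 0
      · simp [hw0]
      obtain ⟨hwreg, hwc⟩ := BlockChar.SignCoherence.eq_zero_of_singular hM heB hw0
      obtain ⟨e1, -⟩ := parts_mul hp (show Commute z y from hyc) hzord hyreg
      obtain ⟨e1', -⟩ := parts_mul hp (show Commute z w from hwc) hzord hwreg
      by_cases h : c * (z * y) * c⁻¹ = z * w
      · have hcz : c * z * c⁻¹ = z := by
          conv_rhs => rw [← e1', ← h, pPartOf_conj, e1]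
        have hcH : c ∈ HH a u := mem_zpowers_centralizer.2 (by
          show z * c = c * z
          conv_lhs => rw [← hcz]
          group)
        rw [if_pos h, if_pos hcH, if_pos, mul_one]
        calc w = z⁻¹ * (z * w) := by group
          _ = (c * z * c⁻¹)⁻¹ * (c * (z * y) * c⁻¹) := by rw [hcz, h]
          _ = c * y * c⁻¹ := by group
      · rw [if_neg h, mul_zero]
        split_ifs with h1 h2
        · refine absurd ?_ h
          rw [h2]
          have hcz : c * z = z * c := (mem_zpowers_centralizer.1 h1).symm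
          calc c * (z * y) * c⁻¹ = c * z * y * c⁻¹ := by group
            _ = z * (c * y * c⁻¹) := by rw [hcz]; group
        · rfl
        · rfl
    have hval : ∀ c ∈ HH a u, e (c * y * c⁻¹) = e y := fun c hc => isInv_Bk heB c hc y
    simp only [hS, sum_sect_conj_mul, Finset.card_filter, Nat.cast_sum, Finset.mul_sum,
      Nat.cast_ite, Nat.cast_one, Nat.cast_zero, hkey]
    rw [Finset.sum_comm]
    rw [Finset.sum_congr rfl (g := fun c => if c ∈ HH a u then conj (e y) else 0) fun c _ => by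
      split_ifs with hc
      · rw [Finset.sum_ite_eq', if_pos (Finset.mem_univ _), hval c hc]
      · exact Finset.sum_const_zero]
    rw [← Finset.sum_filter, Finset.sum_const, nsmul_eq_mul, he, sbc_of_mem Z.b hy,
      hcoeff _ (by rwa [Subgroup.orderOf_mk]), ← Fintype.card_subtype, ← Nat.card_eq_fintype_card,
      map_mul, map_inv₀, Complex.conj_natCast, map_mul, Complex.conj_conj, ← mul_assoc,
      mul_inv_cancel₀ hcardH, one_mul]
    congr 1
    rw [hC, map_mul, Complex.conj_natCast, hφ1c]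
  have hSsupp : ∀ g, S g ≠ 0 → ∃ (v y : G) (hy : y ∈ HH a u), ¬ 2 ∣ orderOf y ∧
      v * g * v⁻¹ = z * y := by
    intro g hg
    simp only [hS, sum_sect_conj_mul] at hg
    obtain ⟨w, -, hw⟩ := Finset.exists_ne_zero_of_sum_ne_zero hg
    obtain ⟨c, hc⟩ : ∃ c : G, c * g * c⁻¹ = z * w := by
      by_contra! hno
      rw [Finset.filter_eq_empty_iff.2 fun c _ => hno c] at hw
      simp at hw
    obtain ⟨hwreg, hwc⟩ := BlockChar.SignCoherence.eq_zero_of_singular hM heB
      fun h => left_ne_zero_of_mul hw (by rw [h, map_zero])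
    exact ⟨c, w, mem_zpowers_centralizer.2 hwc, hwreg, hc⟩
  -- the regular element
  obtain ⟨g, hcls, hsyl⟩ := DefectThms.isDefectGroup_iff.1 (isDefectGroup_of_maximal hM hmaxH)
  have hgreg : ¬ 2 ∣ orderOf g := fun h => hcls.2.1 (by
    rw [blockCoeff_eq_zero_of_dvd hM hnil.1 h]; exact memLocalIdeal_zero hM)
  have hug : Commute u (g : G) := congrArg Subtype.val
    (Subgroup.mem_centralizer_singleton_iff.1
      (hsyl.1 (show (⟨u, le_HH sh sh.hu⟩ : HH a u) ∈ D.subgroupOf (HH a u) from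
        Subgroup.mem_subgroupOf.2 sh.hu)))
  have hCH : Cfsg.MemLocalRing M ((Nat.card (HH a u) : ℂ)⁻¹ * C) := by
    set m := (Nat.card (HH a u)).factorization 2 with hm
    set k := Nat.card (HH a u) / 2 ^ m with hk
    have hk2 : ¬ 2 ∣ k := Nat.not_dvd_ordCompl Nat.prime_two Nat.card_pos.ne'
    have hHk : 2 ^ m * k = Nat.card (HH a u) := Nat.ordProj_mul_ordCompl_eq_self _ _
    have hdvd : ∀ θ ∈ s, 2 ^ m ∣ 2 ^ (a + 3) *
        Cfsg.charDegree ((θ : Cfsg.IrrCharacter (HH a u)) : HH a u → ℂ) := fun θ hθs => by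
      have hpos := (CharArith.irr_degree_spec θ).2
      rw [Nat.Prime.pow_dvd_iff_le_factorization Nat.prime_two
          (Nat.mul_ne_zero (pow_ne_zero _ two_ne_zero) hpos.ne'),
        Nat.factorization_mul (pow_ne_zero _ two_ne_zero) hpos.ne', Finsupp.add_apply,
        Nat.prime_two.factorization_pow, Finsupp.single_eq_same]
      have hle : sInf ((fun χ : Cfsg.IrrCharacter (HH a u) =>
          (Cfsg.charDegree (χ : HH a u → ℂ)).factorization 2) '' Z.b) ≤
          (Cfsg.charDegree (θ : HH a u → ℂ)).factorization 2 :=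
        Nat.sInf_le ⟨θ, Z.b.toFinite.mem_toFinset.1 hθs, rfl⟩
      have h1 := hdef
      rw [Cfsg.blockDefect] at h1
      omega
    rw [hC, hφ, Finset.mul_sum, Finset.mul_sum]
    refine (localRing hM).sum_mem fun θ hθs => ?_
    obtain ⟨q, hq⟩ := hdvd θ hθs
    have hq' : ((2 ^ (a + 3) : ℕ) : ℂ) * (θ : HH a u → ℂ) 1 = ((2 ^ m : ℕ) : ℂ) * (q : ℂ) := by
      rw [(CharArith.irr_degree_spec θ).1, ← Nat.cast_mul, ← Nat.cast_mul, hq]
    have heq : (Nat.card (HH a u) : ℂ)⁻¹ * (((2 ^ (a + 3) : ℕ) : ℂ) *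
        ((n θ : ℂ) * (θ : HH a u → ℂ) 1)) = (n θ : ℂ) * ((q : ℂ) * (k : ℂ)⁻¹) := by
      rw [mul_left_comm ((2 ^ (a + 3) : ℕ) : ℂ), hq', ← hHk, Nat.cast_mul]
      have h2 : ((2 ^ m : ℕ) : ℂ) ≠ 0 := Nat.cast_ne_zero.2 (pow_ne_zero _ two_ne_zero)
      field_simp
    rw [heq]
    exact (localRing hM).mul_mem (intCast_mem (localRing hM) _)
      ((localRing hM).mul_mem (memLocalRing_natCast hM q) (memLocalRing_natCast_inv hM hk2))
  have hunit : ¬ Cfsg.MemLocalIdeal M (φ g⁻¹) := fun h => hcls.2.1 (by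
    rw [hcoeff g hgreg, ← mul_assoc, ← hφinv]
    exact memLocalIdeal_mul_left hM hCH h)
  have hginv : ¬ 2 ∣ orderOf ((g⁻¹ : HH a u) : G) := by
    rwa [Subgroup.orderOf_coe, orderOf_inv]
  refine ⟨fun x => C⁻¹ * S x, ((g⁻¹ : HH a u) : G), fun x => ?_,
    fun x v => by simp only [hSc x v], fun x => ?_, fun x hx => ?_, hginv, ?_, ?_⟩
  · by_cases h0 : S x = 0
    · simp only [h0, mul_zero]; exact (localRing hM).zero_mem
    obtain ⟨v, y, hy, hyreg, hv⟩ := hSsupp x h0
    dsimp only
    rw [← hSc x v, hv, hSz y hyreg hy, inv_mul_cancel_left₀ hC0]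
    exact memLocalRing_of_isIntegral hM (hφi _)
  · dsimp only
    conv_rhs => rw [← hSfix x, Finset.mul_sum]
    exact Finset.sum_congr rfl fun h _ => by ring
  · by_contra hne
    obtain ⟨v, y, hy, hyreg, hv⟩ := hSsupp x (right_ne_zero_of_mul hne)
    obtain ⟨e1, -⟩ := parts_mul hp (show Commute z y from mem_zpowers_centralizer.1 hy) hzord hyreg
    rw [← hv, pPartOf_conj, (pPartOf_eq_one_iff hp x).2 hx, mul_one, mul_inv_cancel] at e1
    exact sh.z_ne_one e1.symm
  · rw [Subgroup.coe_inv]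
    exact hug.inv_right
  · dsimp only
    rw [hSz _ hginv (g⁻¹ : HH a u).2, inv_mul_cancel_left₀ hC0]
    exact hunit

end Zed

end Cfsg.Agent.Blocks.Dihedral
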