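import Cfsg.Agent.Blocks.Dihedral.Core
import Cfsg.Agent.Blocks.Dihedral.Separate
import Cfsg.Agent.Blocks.Dihedral.Residue
import Cfsg.Agent.BlockChar.SubsectionCount

/-!
# The invariants of a block with dihedral defect group
-/

set_option autoImplicit false

namespace Cfsg.Agent.Blocks.Dihedral

open Cfsg.Agent Cfsg.Agent.Blocks Cfsg.Agent.Blocks.Star Cfsg.Agent.BrauerPairs
open scoped ComplexConjugate

universe u

attribute [local instance] Fintype.ofFinite

variable {G : Type u} [Group G] [Finite G] {M : Ideal Cfsg.AlgInt}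
  {B : Set (Cfsg.IrrCharacter G)} {D : Subgroup G}
  {e₀ : Set (Cfsg.IrrCharacter (Subgroup.centralizer (D : Set G)))} {u t : G}

local notation "CG[" Q "]" => Subgroup.centralizer ((Q : Subgroup G) : Set G)
local notation "sbc" => Cfsg.subgroupBlockCoeff

/-- The rotations up to inversion give different subsections. -/
theorem blockRank_add_le {a : ℕ} (hM : Cfsg.IsPModular 2 M)
    (hmax : Cfsg.IsMaximalBrauerPair 2 M B D e₀) (sh : Shape D a u t) :
    Cfsg.blockRank 2 B + 2 ^ (a + 1) ≤ Nat.card B := by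
  classical
  let s : Fin (2 ^ (a + 1)) → G := fun i => u ^ ((i : ℕ) + 1)
  have hlt : ∀ i : Fin (2 ^ (a + 1)), (i : ℕ) + 1 < orderOf u := fun i => by
    rw [sh.hord]
    have := i.isLt
    have : 2 ^ (a + 2) = 2 ^ (a + 1) * 2 := pow_succ _ _
    omega
  have hsu : ∀ i, s i ∈ Subgroup.zpowers u := fun i =>
    Subgroup.pow_mem _ (Subgroup.mem_zpowers u) _
  have hs1 : ∀ i, s i ≠ 1 := fun i h => pow_ne_one_of_lt_orderOf (Nat.succ_ne_zero _) (hlt i) h
  choose b hb using fun i => (existsUnique_subpairLE hM hmax.1.1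
    (Subgroup.zpowers_le.2 (sh.zpowers_le (hsu i)))).exists
  have h := BlockChar.blockRank_add_card_le hM hmax.1.2.1 s hs1
    (fun i => sh.exists_orderOf (sh.zpowers_le (hsu i))) b
    (fun i => (isBrauerPairOf_iff_of_subpairLE hM (hb i) B).1 hmax.1) fun i j g hg hpair => ?_
  · rwa [Fintype.card_fin] at h
  have hbel : Below 2 M D e₀ (g * s i * g⁻¹) (conjF g (sbc CG[Subgroup.zpowers (s i)] (b i))) := by
    refine (below_conj_iff (b i)).2 ?_
    show Relation.ReflTransGen (Cfsg.NormalSubpairRel 2 M)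
      (conjPair g ⟨Subgroup.zpowers (s i), b i⟩) ⟨D, e₀⟩
    rw [hpair]
    exact hb j
  have h2 := fusion_rot hM hmax sh (hsu i) (hg ▸ hsu j) ⟨b i, hb i, rfl⟩ hbel
  rw [hg] at h2
  rcases h2 with h2 | h2
  · have := pow_injOn_Iio_orderOf (hlt j) (hlt i) h2
    exact (Fin.ext (by omega)).symm
  · have h3 : u ^ ((j : ℕ) + 1 + ((i : ℕ) + 1)) = 1 := by
      rw [pow_add]
      exact mul_eq_one_iff_eq_inv.2 h2
    have h4 := orderOf_dvd_of_pow_eq_one h3
    have h5 := i.isLt
    have h6 := j.isLt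
    rw [sh.hord, show 2 ^ (a + 2) = 2 ^ (a + 1) * 2 from pow_succ _ _] at h4
    obtain ⟨q, hq⟩ := h4
    refine Fin.ext ?_
    rcases q with _ | _ | q
    · omega
    · omega
    · have h7 : 2 ^ (a + 1) * 2 * (q + 1 + 1) = 2 ^ (a + 1) * 2 * q + 2 ^ (a + 1) * 4 := by ring
      omega

/-- The number of the characters of degree divisible by a power of two. -/
theorem six_le_of_valuation {A g n dA : ℕ} (hA : 4 ≤ A) (hg : g ≠ 0) (hv : g.factorization 2 ≤ A - 4)
    (hn : 16 * g ^ 2 = n ^ 2 * dA) (hdiv : 2 ^ A ∣ n * dA) : 6 ≤ dA := by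
  have h0 : n ^ 2 * dA ≠ 0 := by rw [← hn]; positivity
  have hn0 : n ≠ 0 := fun e => h0 (by rw [e]; ring)
  have hd0 : dA ≠ 0 := fun e => h0 (by rw [e]; ring)
  have hval : (16 * g ^ 2).factorization 2 = (n ^ 2 * dA).factorization 2 := by rw [hn]
  rw [show (16 : ℕ) = 2 ^ 4 by norm_num, Nat.factorization_mul (by norm_num) (pow_ne_zero _ hg),
    Nat.factorization_mul (pow_ne_zero _ hn0) hd0, Finsupp.add_apply, Finsupp.add_apply,
    Nat.prime_two.factorization_pow, Finsupp.single_eq_same, Nat.factorization_pow,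
    Nat.factorization_pow, Finsupp.smul_apply, Finsupp.smul_apply, smul_eq_mul, smul_eq_mul] at hval
  have hA' := (Nat.Prime.pow_dvd_iff_le_factorization Nat.prime_two (Nat.mul_ne_zero hn0 hd0)).1 hdiv
  rw [Nat.factorization_mul hn0 hd0, Finsupp.add_apply] at hA'
  have h4 : 2 ^ 4 ∣ dA :=
    (Nat.Prime.pow_dvd_iff_le_factorization Nat.prime_two hd0).2 (by omega)
  have := Nat.le_of_dvd (Nat.pos_of_ne_zero hd0) h4
  omega

/-- There is no block with five characters and defect group of order sixteen. -/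
theorem false_five (hM : Cfsg.IsPModular 2 M) (hmax : Cfsg.IsMaximalBrauerPair 2 M B D e₀)
    (sh : Shape D 1 u t) (hk : Nat.card B = 5) : False := by
  classical
  haveI := Fact.mk hM.1
  have hB := hmax.1.2.1
  have hl : Cfsg.blockRank 2 B = 1 := by
    have h1 := blockRank_add_le hM hmax sh
    have h2 := BlockChar.blockRank_pos hM hB
    rw [hk] at h1
    norm_num at h1
    omega
  have hdef : Cfsg.blockDefect 2 B = 4 := by
    have h := BlockChar.card_defectGroup hM hB (isDefectGroup_of_maximal hM hmax)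
    rw [sh.hcard] at h
    exact (Nat.pow_right_injective le_rfl h).symm
  obtain ⟨Z⟩ := exists_zed hM hmax sh
  obtain ⟨F, y₀, hFR, hFc, hFa, hFreg, hy₀, huy, hFu⟩ := Z.exists_separating
  -- a fourth root
  obtain ⟨m, hm⟩ : Odd (orderOf y₀) := Nat.not_even_iff_odd.1 fun h => hy₀ (even_iff_two_dvd.1 h)
  set y := y₀ ^ ((m + 1) * (m + 1)) with hy
  have hy4 : y ^ 4 = y₀ := by
    rw [hy, ← pow_mul, show (m + 1) * (m + 1) * 4 = 1 + (2 * m + 1) * (2 * m + 3) by ring, pow_add,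
      pow_mul, ← hm, pow_orderOf_eq_one, one_pow, pow_one, mul_one]
  refine false_of_residue_trace hM rfl hB hl hk.le ?_ F hFR hFc hFa (u := u) (y := y) (j := 3)
    ?_ (huy.pow_right _) ?_
  · intro n dA hn hdiv
    obtain ⟨φ, d, ⟨c, hc⟩, hval, hsum⟩ := BlockChar.rank_one_cartan hM hB hl
    rw [hdef, finsum_mem_eq_finite_toFinset_sum _ B.toFinite] at hsum
    have hone : Cfsg.IsPRegular 2 (1 : G) := by simp [Cfsg.IsPRegular]
    obtain ⟨g₀, hg₀⟩ : ∃ g₀ : ℤ, φ 1 = (g₀ : ℂ) := by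
      refine ⟨∑ ψ ∈ B.toFinite.toFinset, c ψ * (Cfsg.charDegree (ψ : G → ℂ) : ℤ), ?_⟩
      rw [hc 1 hone, finsum_mem_eq_finite_toFinset_sum _ B.toFinite, Int.cast_sum]
      exact Finset.sum_congr rfl fun ψ _ => by
        rw [(CharArith.irr_degree_spec ψ).1]; push_cast; rfl
    have hdeg : ∀ χ ∈ B, (Cfsg.charDegree ((χ : Cfsg.IrrCharacter G) : G → ℂ) : ℤ) =
        (d χ : ℤ) * g₀ := fun χ hχ => by
      have h := hval χ hχ 1 hone
      rw [(CharArith.irr_degree_spec χ).1, hg₀] at h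
      exact_mod_cast h
    obtain ⟨χ₀, hχ₀, h00⟩ := BlockThms.exists_height_zero hM hB
    have hg0 : 0 < g₀ := by
      have h1 := hdeg χ₀ hχ₀
      have h2 := (CharArith.irr_degree_spec χ₀).2
      by_contra! h3
      have : (d χ₀ : ℤ) * g₀ ≤ 0 := mul_nonpos_of_nonneg_of_nonpos (Int.natCast_nonneg _) h3
      omega
    lift g₀ to ℕ using hg0.le
    have hdeg' : ∀ χ ∈ B, Cfsg.charDegree ((χ : Cfsg.IrrCharacter G) : G → ℂ) = d χ * g₀ :=
      fun χ hχ => by exact_mod_cast hdeg χ hχ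
    have hg0' : g₀ ≠ 0 := by omega
    have hinf := hdef
    rw [Cfsg.blockDefect] at hinf
    rw [Cfsg.blockHeight] at h00
    refine six_le_of_valuation (A := (Nat.card G).factorization 2) (g := g₀) (n := n) (by omega) hg0'
      ?_ ?_ hdiv
    · have hle : g₀.factorization 2 ≤ (Cfsg.charDegree (χ₀ : G → ℂ)).factorization 2 := by
        have hd0 : d χ₀ ≠ 0 := fun e => by
          have h1 := hdeg' χ₀ hχ₀
          have h2 := (CharArith.irr_degree_spec χ₀).2
          rw [e, zero_mul] at h1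
          omega
        rw [hdeg' χ₀ hχ₀, Nat.factorization_mul hd0 hg0', Finsupp.add_apply]
        exact Nat.le_add_left _ _
      omega
    · rw [← hn, show (16 : ℕ) = 2 ^ 4 by norm_num, ← hsum, Finset.sum_mul]
      exact Finset.sum_congr rfl fun χ hχ => by
        rw [hdeg' χ (B.toFinite.mem_toFinset.1 hχ), mul_pow]
  · rw [show 2 ^ 3 = orderOf u by rw [sh.hord], pow_orderOf_eq_one]
  · rw [hy4, show u ^ 4 * y₀ = zed 1 u * y₀ by norm_num [zed], hFreg y₀ hy₀]
    exact fun h => hFu ((resFun_eq_zero_iff hM (hFR _)).1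
      (h.trans ((resFun_eq_zero_iff hM (localRing hM).zero_mem).2 (memLocalIdeal_zero hM))))

/-- The invariants of a block with dihedral defect group. -/
theorem invariants {a : ℕ} (hM : Cfsg.IsPModular 2 M) (hmax : Cfsg.IsMaximalBrauerPair 2 M B D e₀)
    (sh : Shape D a u t) :
    Nat.card B = 2 ^ (a + 1) + 3 ∧ 1 ≤ Cfsg.blockRank 2 B ∧ Cfsg.blockRank 2 B ≤ 3 ∧
    Nat.card {χ : Cfsg.IrrCharacter G // χ ∈ B ∧ Cfsg.blockHeight 2 B (χ : G → ℂ) = 0} = 4 ∧
    ∀ χ ∈ B, Cfsg.blockHeight 2 B (χ : G → ℂ) ≤ 1 := by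
  obtain ⟨Z⟩ := exists_zed hM hmax sh
  obtain ⟨h4, hor⟩ := Z.core
  rcases hor with ⟨hk, hht⟩ | ⟨rfl, hk⟩
  · have h1 := blockRank_add_le hM hmax sh
    exact ⟨hk, BlockChar.blockRank_pos hM hmax.1.2.1, by omega, h4, hht⟩
  · exact (false_five hM hmax sh hk).elim

end Cfsg.Agent.Blocks.Dihedral
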