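import Mathlib.GroupTheory.SpecificGroups.Dihedral
import Mathlib.GroupTheory.SpecificGroups.Cyclic
import Mathlib.GroupTheory.Subgroup.Centralizer
import Mathlib.FieldTheory.Finite.Basic
import Mathlib.Tactic

/-!
# Dihedral two-groups inside a group

Generators of a dihedral subgroup of order at least eight, and the triviality of its automorphisms
of odd order fixing the central involution.
-/

set_option autoImplicit false

namespace Cfsg.Agent.Blocks.Dihedral

universe u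

variable {G : Type u} [Group G]

/-- `D` is dihedral of order `2 ^ (e + 3)` with rotation `u` and reflection `t`. -/
structure Shape (D : Subgroup G) (e : ℕ) (u t : G) : Prop where
  hu : u ∈ D
  hord : orderOf u = 2 ^ (e + 2)
  ht : t ∈ D
  htn : t ∉ Subgroup.zpowers u
  hcard : Nat.card D = 2 ^ (e + 3)
  hrefl : ∀ x ∈ D, x ∉ Subgroup.zpowers u → x * x = 1 ∧ x * u * x⁻¹ = u⁻¹
  hprod : ∀ x ∈ D, ∀ y ∈ D, x ∉ Subgroup.zpowers u → y ∉ Subgroup.zpowers u →
    x * y ∈ Subgroup.zpowers u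

theorem exists_shape {D : Subgroup G} {e : ℕ} (iso : D ≃* DihedralGroup (2 ^ (e + 2))) :
    ∃ u t : G, Shape D e u t := by
  set m := 2 ^ (e + 2) with hm
  haveI : NeZero m := ⟨by positivity⟩
  let φ : DihedralGroup m →* G := D.subtype.comp iso.symm.toMonoidHom
  have hφ : Function.Injective φ := D.subtype_injective.comp iso.symm.injective
  have hmem : ∀ x, φ x ∈ D := fun x => (iso.symm x).2
  have hsurj : ∀ x ∈ D, ∃ d, φ d = x := fun x hx => ⟨iso ⟨x, hx⟩, by
    show ((iso.symm (iso ⟨x, hx⟩) : D) : G) = x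
    rw [iso.symm_apply_apply]⟩
  have hr : ∀ i : ZMod m, φ (DihedralGroup.r i) ∈ Subgroup.zpowers (φ (DihedralGroup.r 1)) :=
    fun i => ⟨(i.val : ℤ), by
      show φ (DihedralGroup.r 1) ^ (i.val : ℤ) = φ (DihedralGroup.r i)
      rw [zpow_natCast, ← map_pow, DihedralGroup.r_one_pow, ZMod.natCast_zmod_val]⟩
  have hnot : ∀ i : ZMod m,
      φ (DihedralGroup.sr i) ∉ Subgroup.zpowers (φ (DihedralGroup.r 1)) := by
    rintro i ⟨j, hj⟩
    change φ (DihedralGroup.r 1) ^ j = φ (DihedralGroup.sr i) at hj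
    rw [← map_zpow, DihedralGroup.r_one_zpow] at hj
    exact absurd (hφ hj) (by simp)
  have hcase : ∀ x ∈ D, x ∉ Subgroup.zpowers (φ (DihedralGroup.r 1)) →
      ∃ i, φ (DihedralGroup.sr i) = x := by
    intro x hx hxn
    obtain ⟨d | d, rfl⟩ := hsurj x hx
    · exact absurd (hr d) hxn
    · exact ⟨d, rfl⟩
  refine ⟨φ (DihedralGroup.r 1), φ (DihedralGroup.sr 0), hmem _, ?_, hmem _, hnot 0, ?_, ?_, ?_⟩
  · rw [orderOf_injective φ hφ, DihedralGroup.orderOf_r_one]
  · rw [Nat.card_congr iso.toEquiv, DihedralGroup.nat_card, hm]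
    ring
  · intro x hx hxn
    obtain ⟨i, rfl⟩ := hcase x hx hxn
    refine ⟨by rw [← map_mul, DihedralGroup.sr_mul_self, map_one], ?_⟩
    rw [← map_inv, ← map_inv, ← map_mul, ← map_mul]
    congr 1
    simp
  · intro x hx y hy hxn hyn
    obtain ⟨i, rfl⟩ := hcase x hx hxn
    obtain ⟨j, rfl⟩ := hcase y hy hyn
    rw [← map_mul, DihedralGroup.sr_mul_sr]
    exact hr _

namespace Shape

variable {D : Subgroup G} {e : ℕ} {u t : G} (h : Shape D e u t)
include h

theorem zpowers_le : Subgroup.zpowers u ≤ D := Subgroup.zpowers_le.2 h.hu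

theorem isPGroup : IsPGroup 2 D := IsPGroup.of_card h.hcard

theorem orderOf_z : orderOf (u ^ 2 ^ (e + 1)) = 2 := by
  rw [orderOf_pow_of_dvd (by positivity), h.hord, pow_succ 2 (e + 1), Nat.mul_div_cancel_left _
    (by positivity)]
  rw [h.hord]
  exact pow_dvd_pow 2 (by omega)

theorem z_ne_one : u ^ 2 ^ (e + 1) ≠ 1 := fun hz => by
  have := h.orderOf_z
  rw [hz, orderOf_one] at this
  omega

theorem z_mul_self : u ^ 2 ^ (e + 1) * u ^ 2 ^ (e + 1) = 1 := by
  have := pow_orderOf_eq_one (u ^ 2 ^ (e + 1))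
  rwa [h.orderOf_z, pow_two] at this

theorem z_inv : (u ^ 2 ^ (e + 1))⁻¹ = u ^ 2 ^ (e + 1) := inv_eq_of_mul_eq_one_right h.z_mul_self

/-- A power of `u` conjugates to itself or its inverse. -/
theorem conj_mem_pow {q : G} (hq : q ∈ D) {x : G} (hx : x ∈ Subgroup.zpowers u) :
    (q ∈ Subgroup.zpowers u ∧ q * x * q⁻¹ = x) ∨
      (q ∉ Subgroup.zpowers u ∧ q * x * q⁻¹ = x⁻¹) := by
  obtain ⟨i, rfl⟩ := hx
  by_cases hqu : q ∈ Subgroup.zpowers u
  · obtain ⟨j, rfl⟩ := hqu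
    exact Or.inl ⟨⟨j, rfl⟩, by simp [← zpow_add, ← zpow_neg]⟩
  · refine Or.inr ⟨hqu, ?_⟩
    show q * u ^ i * q⁻¹ = (u ^ i)⁻¹
    rw [← conj_zpow, (h.hrefl q hq hqu).2, inv_zpow]

theorem zpowers_normal {q x : G} (hq : q ∈ D) (hx : x ∈ Subgroup.zpowers u) :
    q ∈ Subgroup.normalizer (Subgroup.zpowers x : Set G) := by
  have key : ∀ q ∈ D, ∀ y ∈ Subgroup.zpowers x, q * y * q⁻¹ ∈ Subgroup.zpowers x := by
    intro q hq y hy
    rcases h.conj_mem_pow hq (x := y) (by
      obtain ⟨i, rfl⟩ := hy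
      exact Subgroup.zpow_mem _ hx i) with ⟨-, e1⟩ | ⟨-, e1⟩
    · rw [e1]; exact hy
    · rw [e1]; exact Subgroup.inv_mem _ hy
  refine Subgroup.mem_normalizer_iff.2 fun y => ⟨key q hq y, fun hy => ?_⟩
  have := key q⁻¹ (D.inv_mem hq) _ hy
  rwa [show q⁻¹ * (q * y * q⁻¹) * q⁻¹⁻¹ = y by group] at this

theorem z_mem : u ^ 2 ^ (e + 1) ∈ D := D.pow_mem h.hu _

theorem z_comm {q : G} (hq : q ∈ D) : u ^ 2 ^ (e + 1) * q = q * u ^ 2 ^ (e + 1) := by
  rcases h.conj_mem_pow hq (Subgroup.pow_mem _ (Subgroup.mem_zpowers u) (2 ^ (e + 1))) with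
    ⟨-, e1⟩ | ⟨-, e1⟩
  · calc u ^ 2 ^ (e + 1) * q = q * u ^ 2 ^ (e + 1) * q⁻¹ * q := by rw [e1]
      _ = _ := by group
  · rw [h.z_inv] at e1
    calc u ^ 2 ^ (e + 1) * q = q * u ^ 2 ^ (e + 1) * q⁻¹ * q := by rw [e1]
      _ = _ := by group

/-- An element of order at least three is a rotation. -/
theorem mem_zpowers_of_orderOf {x : G} (hx : x ∈ D) (h3 : 3 ≤ orderOf x) :
    x ∈ Subgroup.zpowers u := by
  by_contra hxu
  have := orderOf_le_of_pow_eq_one (x := x) two_pos (by rw [pow_two]; exact (h.hrefl x hx hxu).1)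
  omega

theorem exists_orderOf {x : G} (hx : x ∈ D) : ∃ k, orderOf x = 2 ^ k := by
  obtain ⟨k, hk⟩ := IsPGroup.iff_orderOf.1 h.isPGroup ⟨x, hx⟩
  exact ⟨k, by rwa [← Subgroup.orderOf_mk x hx] ⟩

/-- A rotation which is not the identity generates a subgroup containing the involution. -/
theorem z_mem_zpowers {x : G} (hx : x ∈ Subgroup.zpowers u) (hx1 : x ≠ 1) :
    u ^ 2 ^ (e + 1) ∈ Subgroup.zpowers x := by
  obtain ⟨k, hk⟩ := h.exists_orderOf (h.zpowers_le hx)
  rcases k with _ | k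
  · exact absurd (orderOf_eq_one_iff.1 (by rw [hk, pow_zero])) hx1
  have hy : orderOf (x ^ 2 ^ k) = 2 := by
    rw [orderOf_pow_of_dvd (by positivity), hk, pow_succ, Nat.mul_div_cancel_left _ (by positivity)]
    rw [hk]
    exact pow_dvd_pow 2 (by omega)
  suffices hz : x ^ 2 ^ k = u ^ 2 ^ (e + 1) from hz ▸ Subgroup.pow_mem _ (Subgroup.mem_zpowers x) _
  -- the only involution among the rotations
  haveI : Finite (Subgroup.zpowers u) := by
    refine Nat.finite_of_card_ne_zero ?_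
    rw [Nat.card_zpowers, h.hord]
    positivity
  have hfin : IsOfFinOrder u := orderOf_pos_iff.1 (by rw [h.hord]; positivity)
  obtain ⟨n, hn⟩ := hfin.mem_powers_iff_mem_zpowers.2 (Subgroup.pow_mem _ hx (2 ^ k))
  change u ^ n = x ^ 2 ^ k at hn
  rw [← hn] at hy ⊢
  have h2 : 2 ^ (e + 2) ∣ n * 2 := by
    rw [← h.hord]
    refine orderOf_dvd_of_pow_eq_one ?_
    rw [pow_mul, ← hy, pow_orderOf_eq_one]
  rw [pow_succ] at h2
  obtain ⟨c, hc⟩ := Nat.dvd_of_mul_dvd_mul_right two_pos h2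
  rcases Nat.even_or_odd c with ⟨d, rfl⟩ | ⟨d, rfl⟩
  · exfalso
    have : u ^ n = 1 := by
      rw [hc, show 2 ^ (e + 1) * (d + d) = 2 ^ (e + 2) * d by ring, pow_mul, ← h.hord,
        pow_orderOf_eq_one, one_pow]
    rw [this, orderOf_one] at hy
    omega
  · rw [hc, show 2 ^ (e + 1) * (2 * d + 1) = 2 ^ (e + 2) * d + 2 ^ (e + 1) by ring, pow_add,
      pow_mul, ← h.hord, pow_orderOf_eq_one, one_pow, one_mul]

/-- An element of odd order normalising a subgroup of `D` and commuting with the central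
involution centralises it. -/
theorem mem_centralizer_of_odd [Finite G] {Q : Subgroup G} (hQ : Q ≤ D) {g : G}
    (hg : ¬ 2 ∣ orderOf g) (hgN : g ∈ Subgroup.normalizer (Q : Set G))
    (hgz : u ^ 2 ^ (e + 1) * g = g * u ^ 2 ^ (e + 1)) :
    g ∈ Subgroup.centralizer (Q : Set G) := by
  have hQn : ∀ q ∈ Q, g * q * g⁻¹ ∈ Q := fun q hq => (Subgroup.mem_normalizer_iff.1 hgN q).1 hq
  have hord : ∀ q, orderOf (g * q * g⁻¹) = orderOf q := fun q =>
    orderOf_injective (MulAut.conj g).toMonoidHom (MulAut.conj g).injective q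
  have hodd : ∀ N : ℕ, (∃ j, N = 2 ^ j) → ∀ q : G, g ^ N * q = q * g ^ N → g * q = q * g := by
    rintro N ⟨j, rfl⟩ q hq
    have hco : Nat.Coprime (2 ^ j) (orderOf g) :=
      Nat.Coprime.pow_left j (Nat.prime_two.coprime_iff_not_dvd.2 hg)
    obtain ⟨i, hi⟩ := exists_pow_eq_self_of_coprime hco
    rw [← hi]
    exact (show Commute (g ^ 2 ^ j) q from hq).pow_left i
  -- rotations in `Q` are fixed
  have hrot : ∀ r ∈ Q, r ∈ Subgroup.zpowers u → g * r = r * g := by
    set R := Q ⊓ Subgroup.zpowers u with hR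
    haveI : IsCyclic (Subgroup.zpowers u) := inferInstance
    haveI : IsCyclic R := Subgroup.isCyclic_of_le (inf_le_right : R ≤ Subgroup.zpowers u)
    obtain ⟨⟨r₀, hr₀⟩, hgen⟩ := IsCyclic.exists_generator (α := R)
    suffices hfix : g * r₀ = r₀ * g by
      intro r hrQ hru
      obtain ⟨i, hi⟩ := hgen ⟨r, hrQ, hru⟩
      have hi' : r₀ ^ i = r := congrArg Subtype.val hi
      rw [← hi']
      exact (show Commute g r₀ from hfix).zpow_right i
    by_cases h3 : 3 ≤ orderOf r₀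
    · have himg : g * r₀ * g⁻¹ ∈ R := ⟨hQn _ hr₀.1, h.mem_zpowers_of_orderOf (hQ (hQn _ hr₀.1))
        (by rwa [hord])⟩
      obtain ⟨j, hj⟩ := hgen ⟨_, himg⟩
      have hj' : r₀ ^ j = g * r₀ * g⁻¹ := congrArg Subtype.val hj
      obtain ⟨k, hk⟩ := h.exists_orderOf (hQ hr₀.1)
      obtain ⟨n, hn⟩ : ∃ n : ℕ, r₀ ^ n = g * r₀ * g⁻¹ := by
        obtain ⟨n, hn⟩ := (isOfFinOrder_of_finite r₀).mem_powers_iff_mem_zpowers.2 ⟨j, hj'⟩
        exact ⟨n, hn⟩
      have hiter : ∀ N : ℕ, g ^ N * r₀ * (g ^ N)⁻¹ = r₀ ^ n ^ N := by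
        intro N
        induction N with
        | zero => simp
        | succ N ih =>
          calc g ^ (N + 1) * r₀ * (g ^ (N + 1))⁻¹ = g * (g ^ N * r₀ * (g ^ N)⁻¹) * g⁻¹ := by
                rw [pow_succ']; group
            _ = (g * r₀ * g⁻¹) ^ n ^ N := by rw [ih, conj_pow]
            _ = r₀ ^ n ^ (N + 1) := by rw [← hn, ← pow_mul, ← pow_succ']
      have hk0 : k ≠ 0 := fun h0 => by rw [h0, pow_zero] at hk; omega
      have hn2 : Nat.Coprime n (2 ^ k) := by
        refine Nat.Coprime.pow_right k (Nat.Coprime.symm (Nat.prime_two.coprime_iff_not_dvd.2 ?_))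
        rintro ⟨c, rfl⟩
        have h1 : orderOf (r₀ ^ (2 * c)) = 2 ^ k := by rw [hn, hord, hk]
        have h2 : r₀ ^ (2 * c) ^ 1 = r₀ ^ (2 * c) := by rw [pow_one]
        have h3 : (r₀ ^ (2 * c)) ^ 2 ^ (k - 1) = 1 := by
          rw [← pow_mul, show 2 * c * 2 ^ (k - 1) = 2 ^ k * c by
            conv_rhs => rw [show k = k - 1 + 1 by omega, pow_succ]
            ring, pow_mul, ← hk, pow_orderOf_eq_one, one_pow]
        have h4 := orderOf_dvd_of_pow_eq_one h3
        rw [h1, Nat.pow_dvd_pow_iff_le_right (by norm_num)] at h4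
        omega
      refine hodd (2 ^ (k - 1)) ⟨_, rfl⟩ r₀ ?_
      have h5 := hiter (2 ^ (k - 1))
      have h6 : r₀ ^ n ^ 2 ^ (k - 1) = r₀ ^ 1 := by
        rw [pow_eq_pow_iff_modEq, hk, show 2 ^ (k - 1) = Nat.totient (2 ^ k) by
          rw [Nat.totient_prime_pow Nat.prime_two (by omega)]; simp]
        exact Nat.ModEq.pow_totient hn2
      rw [h6, pow_one] at h5
      calc g ^ 2 ^ (k - 1) * r₀ = g ^ 2 ^ (k - 1) * r₀ * (g ^ 2 ^ (k - 1))⁻¹ * g ^ 2 ^ (k - 1) := by
            group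
        _ = r₀ * g ^ 2 ^ (k - 1) := by rw [h5]
    · obtain ⟨k, hk⟩ := h.exists_orderOf (hQ hr₀.1)
      rcases k with _ | _ | k
      · rw [show r₀ = 1 from orderOf_eq_one_iff.1 (by rw [hk, pow_zero]), mul_one, one_mul]
      · have hne : r₀ ≠ 1 := fun h1 => by rw [h1, orderOf_one] at hk; norm_num at hk
        obtain ⟨i, hi⟩ := h.z_mem_zpowers hr₀.2 hne
        rw [pow_one] at hk
        have hz : u ^ 2 ^ (e + 1) = r₀ := by
          have h2 : r₀ ^ (2 : ℤ) = 1 := by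
            rw [zpow_two, ← pow_two, ← hk, pow_orderOf_eq_one]
          change r₀ ^ i = _ at hi
          rw [← hi]
          rcases Int.even_or_odd i with ⟨d, rfl⟩ | ⟨d, rfl⟩
          · exfalso
            apply h.z_ne_one
            rw [← hi, ← two_mul, zpow_mul, h2, one_zpow]
          · rw [zpow_add, zpow_mul, h2, one_zpow, one_mul, zpow_one]
        rw [← hz]
        exact hgz.symm
      · exfalso
        apply h3
        rw [hk, pow_succ, pow_succ]
        have : 1 ≤ 2 ^ k := Nat.one_le_two_pow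
        omega
  refine Subgroup.mem_centralizer_iff.2 fun q hq => ?_
  change q * g = g * q
  by_cases hqu : q ∈ Subgroup.zpowers u
  · exact (hrot q hq hqu).symm
  set σq := g * q * g⁻¹ with hσ
  have hσQ : σq ∈ Q := hQn q hq
  have hσu : σq ∉ Subgroup.zpowers u := by
    intro hmem
    have h1 := hrot _ hσQ hmem
    rw [hσ] at h1
    have : g * q * g⁻¹ = q := by
      calc g * q * g⁻¹ = g⁻¹ * (g * (g * q * g⁻¹)) := by group
        _ = q := by rw [h1]; group
    rw [hσ, this] at hmem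
    exact hqu hmem
  set c := q * σq with hc
  have hcu : c ∈ Subgroup.zpowers u := h.hprod _ (hQ hq) _ (hQ hσQ) hqu hσu
  have hcQ : c ∈ Q := Q.mul_mem hq hσQ
  have hqq := (h.hrefl q (hQ hq) hqu).1
  have hconj : g * q * g⁻¹ = q * c := by rw [hc, ← mul_assoc, hqq, one_mul]
  have hgc := hrot c hcQ hcu
  have hiter : ∀ N : ℕ, g ^ N * q * (g ^ N)⁻¹ = q * c ^ N := by
    intro N
    induction N with
    | zero => simp
    | succ N ih =>
      calc g ^ (N + 1) * q * (g ^ (N + 1))⁻¹ = g * (g ^ N * q * (g ^ N)⁻¹) * g⁻¹ := by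
            rw [pow_succ']; group
        _ = g * q * g⁻¹ * (g * c ^ N * g⁻¹) := by rw [ih]; group
        _ = q * c ^ (N + 1) := by
          rw [hconj, ((show Commute g c from hgc).pow_right N).eq, mul_inv_cancel_right, mul_assoc,
            ← pow_succ']
  obtain ⟨k, hk⟩ := h.exists_orderOf (hQ hcQ)
  refine (hodd (2 ^ k) ⟨k, rfl⟩ q ?_).symm
  have h5 := hiter (2 ^ k)
  rw [← hk, pow_orderOf_eq_one, mul_one] at h5
  calc g ^ 2 ^ k * q = g ^ orderOf c * q * (g ^ orderOf c)⁻¹ * g ^ 2 ^ k := by rw [hk]; group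
    _ = q * g ^ 2 ^ k := by rw [h5]

end Shape

end Cfsg.Agent.Blocks.Dihedral
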