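import Cfsg.Agent.Blocks.Dihedral.Columns

/-!
# The column of the central involution

The contributions of the major subsection at the central involution are products of the values of
the attached characters of the defect group, whose two-adic valuation is the height.
-/

set_option autoImplicit false

namespace Cfsg.Agent.Blocks.Dihedral

open Cfsg.Agent Cfsg.Agent.Blocks Cfsg.Agent.Blocks.Star Cfsg.Agent.BrauerPairs
open scoped ComplexConjugate

universe u

attribute [local instance] Fintype.ofFinite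
attribute [local instance 2000] subFintype

variable {G : Type u} [Group G] [Finite G] {M : Ideal Cfsg.AlgInt}
  {B : Set (Cfsg.IrrCharacter G)} {D : Subgroup G}
  {e₀ : Set (Cfsg.IrrCharacter (Subgroup.centralizer (D : Set G)))} {a : ℕ} {u t : G}
  {hM : Cfsg.IsPModular 2 M} {hmax : Cfsg.IsMaximalBrauerPair 2 M B D e₀}
  {sh : Shape D a u t}

local notation "CG[" Q "]" => Subgroup.centralizer ((Q : Subgroup G) : Set G)
local notation "sbc" => Cfsg.subgroupBlockCoeff

/-- A rotation as an element of the centralizer of the involution. -/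
abbrev rot (sh : Shape D a u t) {x : G} (hx : x ∈ Subgroup.zpowers u) : HH a u :=
  ⟨x, zpowers_le_HH sh hx (Subgroup.mem_zpowers x)⟩

/-- A rotation as an element of the defect group inside that centralizer. -/
abbrev rotD (sh : Shape D a u t) {x : G} (hx : x ∈ Subgroup.zpowers u) :
    D.subgroupOf (HH a u) :=
  ⟨rot sh hx, Subgroup.mem_subgroupOf.2 (sh.zpowers_le hx)⟩

/-- The central involution as an element of its centralizer. -/
abbrev rotz (sh : Shape D a u t) : HH a u :=
  rot sh (Subgroup.pow_mem _ (Subgroup.mem_zpowers u) (2 ^ (a + 1)))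

omit [Finite G] in
/-- The centralizer of a rotation of order at least three is the group of rotations. -/
theorem card_centralizer_rot (sh : Shape D a u t) {x : G} (hx : x ∈ Subgroup.zpowers u)
    (h3 : 3 ≤ orderOf x) :
    Nat.card (Subgroup.centralizer ({rotD sh hx} : Set (D.subgroupOf (HH a u)))) = 2 ^ (a + 2) := by
  rw [← sh.hord, ← Nat.card_zpowers]
  refine Nat.card_congr
    { toFun := fun q => ⟨((q : D.subgroupOf (HH a u)) : HH a u), ?_⟩
      invFun := fun q => ⟨rotD sh q.2, ?_⟩
      left_inv := fun q => rfl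
      right_inv := fun q => rfl }
  · by_contra hq
    have hqD : (((q : D.subgroupOf (HH a u)) : HH a u) : G) ∈ D :=
      Subgroup.mem_subgroupOf.1 (q : D.subgroupOf (HH a u)).2
    rcases sh.conj_mem_pow hqD hx with ⟨h', -⟩ | ⟨-, hinv⟩
    · exact hq h'
    · have hc := congrArg (fun w : D.subgroupOf (HH a u) => ((w : HH a u) : G))
        (Subgroup.mem_centralizer_singleton_iff.1 q.2)
      simp only [Subgroup.coe_mul] at hc
      rw [hc, mul_inv_cancel_right] at hinv
      have h2 : x ^ 2 = 1 := by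
        rw [pow_two]; exact mul_eq_one_iff_eq_inv.2 hinv
      have := orderOf_le_of_pow_eq_one two_pos h2
      omega
  · refine Subgroup.mem_centralizer_singleton_iff.2 (Subtype.ext (Subtype.ext ?_))
    obtain ⟨i, hi⟩ := hx
    obtain ⟨⟨_, j, rfl⟩, rfl⟩ : ∃ q' : Subgroup.zpowers u, q' = q := ⟨q, rfl⟩
    show u ^ j * x = x * u ^ j
    rw [← hi]
    exact ((Commute.refl u).zpow_zpow j i).eq

omit [Finite G] in
/-- The involution is central in the defect group. -/
theorem card_centralizer_zed (sh : Shape D a u t) :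
    Nat.card (Subgroup.centralizer
      ({rotD sh (Subgroup.pow_mem _ (Subgroup.mem_zpowers u) (2 ^ (a + 1)))} :
        Set (D.subgroupOf (HH a u)))) = 2 ^ (a + 3) := by
  rw [← sh.hcard]
  refine Nat.card_congr
    { toFun := fun q => ⟨((q : D.subgroupOf (HH a u)) : HH a u),
        Subgroup.mem_subgroupOf.1 (q : D.subgroupOf (HH a u)).2⟩
      invFun := fun q => ⟨⟨⟨(q : G), le_HH sh q.2⟩, Subgroup.mem_subgroupOf.2 q.2⟩,
        Subgroup.mem_centralizer_singleton_iff.2
          (Subtype.ext (Subtype.ext (sh.z_comm q.2).symm))⟩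
      left_inv := fun q => rfl
      right_inv := fun q => rfl }

namespace Zed

variable (Z : Zed hM hmax sh)
include Z

/-- Inverse rotations have the same values. -/
theorem phi_inv (χ : Cfsg.IrrCharacter G) {x : G} (hx : x ∈ Subgroup.zpowers u) :
    Z.phi χ (rot sh (Subgroup.inv_mem _ hx)) = Z.phi χ (rot sh hx) := by
  obtain ⟨n, hn⟩ := Z.phi_eq χ
  have h1 := hn (rotD sh (Subgroup.inv_mem _ hx))
  have h2 := hn (rotD sh hx)
  refine h1.trans (Eq.trans (Finset.sum_congr rfl fun η _ => congrArg _ ?_) h2.symm)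
  set tt : D.subgroupOf (HH a u) := ⟨⟨t, le_HH sh sh.ht⟩, Subgroup.mem_subgroupOf.2 sh.ht⟩
  have e : rotD sh (Subgroup.inv_mem _ hx) = tt * rotD sh hx * tt⁻¹ := by
    refine Subtype.ext (Subtype.ext ?_)
    rcases sh.conj_mem_pow sh.ht hx with ⟨h', -⟩ | ⟨-, h'⟩
    · exact absurd h' sh.htn
    · exact h'.symm
  rw [e]
  exact Char.isClassFunction_of_isIrr η.2 _ _

/-- The contributions at the central involution. -/
theorem contrib_eq (χ ψ : Cfsg.IrrCharacter G) :
    contrib 2 (zed a u) Z.b χ ψ =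
      Z.phi χ (rotz sh) * conj (Z.phi ψ (rotz sh)) := by
  classical
  have hzu : zed a u ∈ Subgroup.zpowers u := Subgroup.pow_mem _ (Subgroup.mem_zpowers u) _
  set z' := rot sh hzu
  set e := sbc CG[Subgroup.zpowers (zed a u)] Z.b with he
  set K : ℂ := ((2 ^ Cfsg.blockDefect 2 Z.b : ℕ) : ℂ) / (Nat.card (HH a u) : ℂ) *
    ∑ y ∈ regC 2 (zed a u), (if hy : y ∈ HH a u then
      sect (Z.η₀ : HH a u → ℂ) z' (fun g : HH a u => e (g : G)) ⟨y, hy⟩ *
        conj (sect (Z.η₀ : HH a u → ℂ) z' (fun g : HH a u => e (g : G)) ⟨y, hy⟩) else 0) with hK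
  have hform : ∀ χ ψ : Cfsg.IrrCharacter G, contrib 2 (zed a u) Z.b χ ψ =
      Z.phi χ z' * conj (Z.phi ψ z') * K := by
    intro χ ψ
    rw [← sum_sect_eq_contrib, hK]
    simp only [Finset.mul_sum, ← he]
    refine Finset.sum_congr rfl fun y hy => ?_
    obtain ⟨hyH, hyreg⟩ := mem_zpowers_centralizer_of_regC hy
    have hy' : (⟨y, hyH⟩ : HH a u) ∈ regC 2 z' := by
      simp only [regC, Finset.mem_filter]
      exact ⟨Finset.mem_univ _, by rwa [Subgroup.orderOf_mk],
        Subtype.ext (mem_zpowers_centralizer.1 hyH)⟩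
    have h1 := Z.sect_rot hzu sh.z_ne_one Z.hb χ hy'
    have h2 := Z.sect_rot hzu sh.z_ne_one Z.hb ψ hy'
    dsimp only at h1 h2
    rw [dif_pos hyH, h1, h2, map_mul]
    ring
  suffices hK1 : K = 1 by rw [hform, hK1, mul_one]
  have hu := sh.exists_orderOf sh.z_mem
  have hpair := (isBrauerPairOf_iff_of_subpairLE hM Z.hb B).1 hmax.1
  have hind := (mem_inducing_iff_pair hM (isPGroup_zpowers_of_orderOf hu) hmax.1.2.1 hpair.1.2).2 hpair
  have h := sum_contrib_self (x := zed a u) (mem_zpowers_centralizer' _) hM hu hind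
  have hnil := nilpotent_HH hM hmax sh Z.hb
  rw [(nilpotent_rank_one hM hnil).1, ← BlockChar.card_defectGroup hM hnil.1
    (isDefectGroup_of_maximal hM (maximal_HH hM hmax sh Z.hb)),
    Nat.card_congr (Subgroup.subgroupOfEquivOfLe (le_HH sh)).toEquiv, sh.hcard, Nat.cast_one,
    mul_one, finsum_mem_eq_finite_toFinset_sum _ B.toFinite] at h
  simp only [hform, ← Finset.sum_mul] at h
  rw [Z.sum_phi_self hzu sh.z_ne_one, card_centralizer_zed sh] at h
  exact mul_left_cancel₀ (Nat.cast_ne_zero.2 (pow_ne_zero _ two_ne_zero)) (h.trans (mul_one _).symm)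

/-- The value at the involution carries the height. -/
theorem height_spec {χ ψ : Cfsg.IrrCharacter G} (hχ : χ ∈ B) (hψ : ψ ∈ B) :
    ∃ w : ℂ, IsIntegral ℤ w ∧
      Z.phi χ (rotz sh) * conj (Z.phi ψ (rotz sh)) =
        ((2 ^ Cfsg.blockHeight 2 B (χ : G → ℂ) : ℕ) : ℂ) * w ∧
      (Cfsg.MemLocalIdeal M w ↔ Cfsg.blockHeight 2 B (ψ : G → ℂ) ≠ 0) := by
  have hu := sh.exists_orderOf sh.z_mem
  have hpair := (isBrauerPairOf_iff_of_subpairLE hM Z.hb B).1 hmax.1
  have hind := (mem_inducing_iff_pair hM (isPGroup_zpowers_of_orderOf hu) hmax.1.2.1 hpair.1.2).2 hpair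
  have hnil := nilpotent_HH hM hmax sh Z.hb
  have hd : Cfsg.blockDefect 2 Z.b = Cfsg.blockDefect 2 B := by
    have h1 := BlockChar.card_defectGroup hM hnil.1
      (isDefectGroup_of_maximal hM (maximal_HH hM hmax sh Z.hb))
    have h2 := BlockChar.card_defectGroup hM hmax.1.2.1 (isDefectGroup_of_maximal hM hmax)
    rw [Nat.card_congr (Subgroup.subgroupOfEquivOfLe (le_HH sh)).toEquiv, h2] at h1
    exact (Nat.pow_right_injective le_rfl h1).symm
  obtain ⟨w, hw, he, hiff⟩ := major_pair hM hu (mem_zpowers_centralizer' _) hind hd hχ hψ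
  exact ⟨w, hw, (Z.contrib_eq χ ψ).symm.trans he, hiff⟩

end Zed

end Cfsg.Agent.Blocks.Dihedral
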